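import Cfsg.Agent.Lib.RankOneW.Small

/-!
# The small group is regular outside its orbit

This holds for a Suzuki 2-group `Q` of order `q ^ 3` when some non-trivial element of `D` centralises
all involutions of `G_a`.
-/

set_option autoImplicit false
set_option linter.unusedSectionVars false

namespace Cfsg.Agent.RankOne

open MulAction

variable {G Ω : Type*} [Group G] [MulAction G Ω] {a : Ω} {t : G} {Q : Subgroup G}
variable [Finite G] [FaithfulSMul G Ω] (hS : Cfsg.IsRankOneSetup G Ω a t Q)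
  (h2 : ∃ x y : G, x ≠ 1 ∧ y ≠ 1 ∧ x ≠ y ∧ x * x = 1 ∧ y * y = 1 ∧ x * y = y * x)
  (hC : IsCube a t Q)
include hS h2 hC

theorem rInvol_of_cube (hW : wSub a t ≠ ⊥) : RInvol hS h2 := by
  obtain ⟨⟨s, r⟩, ⟨hs, hr, heq⟩, huniq⟩ := structure_equation hS
  obtain ⟨w, hw, hw1⟩ := (Subgroup.ne_bot_iff_exists_ne_one.1 hW |> fun ⟨x, hx⟩ =>
    (⟨x.1, x.2, fun h => hx (Subtype.ext h)⟩ : ∃ w ∈ wSub a t, w ≠ 1))
  refine ⟨s, hs, r, cent_wSub hS h2 hC hw hw1 hr ?_, heq⟩
  have hws : w * s = s * w := ((mem_wSub hS h2).1 hw).2 s (Or.inr hs)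
  have hwt := wSub_comm_t hS h2 hw
  have hwt' : w⁻¹ * t = t * w⁻¹ := (show Commute w t from hwt).inv_left.eq
  have h := huniq (s, w * r * w⁻¹) ⟨hs,
    hS.conj_mem w (Subgroup.mem_inf.1 (wSub_le hS h2 hw)).1 r hr, ?_⟩
  · exact mul_inv_eq_iff_eq_mul.1 (congrArg Prod.snd h)
  · show t * s * t = (w * r * w⁻¹)⁻¹ * t * (w * r * w⁻¹)
    calc t * s * t = t * (w * s * w⁻¹) * t := by rw [hws]; group
      _ = (t * w) * s * (w⁻¹ * t) := by group
      _ = w * (t * s * t) * w⁻¹ := by rw [← hwt, hwt']; group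
      _ = w * (r⁻¹ * t * r) * w⁻¹ := by rw [heq]
      _ = (w * r⁻¹) * (t * w⁻¹) * (w * r * w⁻¹) := by group
      _ = (w * r * w⁻¹)⁻¹ * t * (w * r * w⁻¹) := by rw [← hwt']; group

variable (hr : RInvol hS h2)
include hr

theorem card_points_cube : Nat.card Ω = qSize a t ^ 3 + 1 := by rw [card_points hS, hC.card_eq]

theorem outside_nonempty : ∃ p : Ω, p ∉ orbitSet hS h2 := by
  classical
  have := finite_points hS
  by_contra hno
  push Not at hno
  have h : Nat.card (orbitSet hS h2) = Nat.card Ω := Nat.card_congr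
    { toFun := fun p => p.1, invFun := fun p => ⟨p, hno p⟩, left_inv := fun _ => rfl, right_inv := fun _ => rfl }
  rw [card_orbitSet hS h2 hr, card_points_cube hS h2 hC hr] at h
  have h4 := four_le_qSize hS h2
  have : qSize a t * 4 ≤ qSize a t ^ 2 := by rw [pow_two]; exact Nat.mul_le_mul_left _ h4
  nlinarith

/-- The small group is regular on the points outside its orbit. -/
theorem existsUnique_small {ω p : Ω} (hω : ω ∉ orbitSet hS h2) (hp : p ∉ orbitSet hS h2) :
    ∃! l : smallGroup a t, (l : G) • ω = p := by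
  classical
  have := finite_points hS
  set L := smallGroup a t with hL
  have hout : ∀ l : L, (l : G) • ω ∉ orbitSet hS h2 := fun l h => hω (by
    simpa using smul_orbitSet hS h2 hr (inv_mem l.2) h)
  let f : L → {p : Ω // p ∉ orbitSet hS h2} := fun l => ⟨(l : G) • ω, hout l⟩
  have hf : Function.Injective f := by
    intro l l' h
    have h' : ((l' : G)⁻¹ * l) • ω = ω := by
      rw [mul_smul, show (l : G) • ω = (l' : G) • ω from congrArg Subtype.val h, inv_smul_smul]
    by_contra hne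
    exact small_semiregular hS h2 hr (mul_mem (inv_mem l'.2) l.2)
      (fun e => hne (Subtype.ext (inv_mul_eq_one.1 e).symm)) hω h'
  have hcard : Nat.card {p : Ω // p ∉ orbitSet hS h2} = Nat.card L := by
    haveI : Fintype Ω := Fintype.ofFinite Ω
    have h1 : Nat.card {p : Ω // p ∉ orbitSet hS h2} + Nat.card (orbitSet hS h2) = Nat.card Ω := by
      rw [Nat.card_eq_fintype_card, Nat.card_eq_fintype_card, Nat.card_eq_fintype_card,
        Fintype.card_subtype_compl, Nat.sub_add_cancel (Fintype.card_subtype_le _)]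
    rw [card_orbitSet hS h2 hr, card_points_cube hS h2 hC hr] at h1
    rw [hL, card_small hS h2 hr]
    have h4 := four_le_qSize hS h2
    obtain ⟨m, hm⟩ : ∃ m, qSize a t = m + 1 := ⟨qSize a t - 1, by omega⟩
    rw [hm] at h1 ⊢
    rw [Nat.add_sub_cancel]
    nlinarith
  have hbij : Function.Bijective f := (Nat.bijective_iff_injective_and_card f).2 ⟨hf, hcard.symm⟩
  obtain ⟨l, hl⟩ := hbij.2 ⟨p, hp⟩
  exact ⟨l, congrArg Subtype.val hl, fun l' hl' =>
    hf ((Subtype.ext hl' : f l' = ⟨p, hp⟩).trans hl.symm)⟩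

end Cfsg.Agent.RankOne
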