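import Cfsg.Agent.Lib.RankOneW.Basic
import Cfsg.Agent.Lib.Suzuki2.Coord
import Cfsg.Agent.Lib.RankOne.FieldMaps
import Mathlib.FieldTheory.Fixed

/-!
# The elements of `V` act on the involutions of `G_a` as field automorphisms
-/

set_option autoImplicit false
set_option linter.unusedSectionVars false
set_option linter.style.haveILetI false

namespace Cfsg.Agent.RankOne

open MulAction

universe u v

theorem fixed_card {F : Type u} [Field F] [Fintype F] (σ : F ≃+* F) :
    Nat.card {x : F // σ x = x} ^ orderOf σ = Nat.card F := by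
  classical
  let H := Subgroup.zpowers σ
  haveI : FaithfulSMul H F :=
    ⟨fun {g g'} h => Subtype.ext (RingEquiv.ext fun x => h x)⟩
  haveI : Fintype H := Fintype.ofFinite H
  have hfin := FixedPoints.finrank_eq_card H F
  have hcard := Module.natCard_eq_pow_finrank (K := FixedPoints.subfield H F) (V := F)
  rw [hfin, ← Nat.card_eq_fintype_card, Nat.card_zpowers] at hcard
  rw [hcard]
  refine congrArg (· ^ orderOf σ) (Nat.card_congr (Equiv.subtypeEquivRight fun x => ?_))
  refine ⟨fun hx g => ?_, fun hx => hx (⟨σ, Subgroup.mem_zpowers σ⟩ : H)⟩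
  obtain ⟨g, hg⟩ := g
  have hle : H ≤ MulAction.stabilizer (F ≃+* F) x := Subgroup.zpowers_le.2 hx
  exact hle hg

theorem semilinear_fixed_le {F : Type u} [Field F] [Fintype F] (σ : F ≃+* F) {κ : F} (hκ : κ ≠ 0) :
    Nat.card {x : F // κ * σ x = x} ≤ Nat.card {x : F // σ x = x} := by
  classical
  by_cases h : ∀ x : F, κ * σ x = x → x = 0
  · haveI : Subsingleton {x : F // κ * σ x = x} :=
      ⟨fun x y => Subtype.ext ((h x x.2).trans (h y y.2).symm)⟩
    have : 0 < Nat.card {x : F // σ x = x} := Nat.card_pos_iff.2 ⟨⟨⟨0, map_zero σ⟩⟩, inferInstance⟩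
    exact (Finite.card_le_one_iff_subsingleton.2 inferInstance).trans this
  push Not at h
  obtain ⟨x₀, hx₀, hne⟩ := h
  refine Nat.card_le_card_of_injective (fun x => ⟨x.1 / x₀, ?_⟩) fun x y e => Subtype.ext ?_
  · rw [map_div₀]
    calc σ x.1 / σ x₀ = (κ * σ x.1) / (κ * σ x₀) := (mul_div_mul_left _ _ hκ).symm
      _ = x.1 / x₀ := by rw [x.2, hx₀]
  · exact (div_left_inj' hne).1 (congrArg Subtype.val e)



theorem isCyclic_aut {F : Type u} [Field F] [Fintype F] [CharP F 2] : IsCyclic (F ≃+* F) := by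
  let : Algebra (ZMod 2) F := ZMod.algebra F 2
  have : Fact (Nat.Prime 2) := ⟨Nat.prime_two⟩
  let e : Gal(F/ZMod 2) →* (F ≃+* F) :=
    { toFun := fun σ => σ.toRingEquiv
      map_one' := rfl
      map_mul' := fun _ _ => rfl }
  refine isCyclic_of_surjective e fun σ => ⟨AlgEquiv.ofRingEquiv (f := σ) fun x =>
    RingHom.congr_fun (RingHom.ext_zmod (σ.toRingHom.comp (algebraMap (ZMod 2) F)) (algebraMap (ZMod 2) F)) x,
    RingEquiv.ext fun _ => rfl⟩

variable {G : Type u} {Ω : Type v} [Group G] [MulAction G Ω] {a : Ω} {t : G} {Q : Subgroup G}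
variable [Finite G] (hS : Cfsg.IsRankOneSetup G Ω a t Q)
  (h2 : ∃ x y : G, x ≠ 1 ∧ y ≠ 1 ∧ x ≠ y ∧ x * x = 1 ∧ y * y = 1 ∧ x * y = y * x)
include hS h2

/-- The involutions centralised by `d`, with `1`. -/
def fixInv (d : G) : Set G := {z | z ∈ invSub hS h2 ∧ d * z = z * d}

/-- An element of `V` acts on the involutions of `G_a` as a field automorphism, and `V / W` embeds
into a cyclic group of order `n`. -/
theorem exists_galois_full {n : ℕ} (hn : qSize a t = 2 ^ n) :
    (∃ (A : Type u) (_ : Group A) (_ : Finite A)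
        (Γ : ↥(twoStab a t ⊓ Subgroup.centralizer {t}) →* A),
      IsCyclic A ∧ Nat.card A = n ∧ ∀ v, Γ v = 1 ↔ (v : G) ∈ wSub a t) ∧
    (∀ v ∈ twoStab a t ⊓ Subgroup.centralizer {t}, v ^ n ∈ wSub a t) ∧
      ∀ v ∈ twoStab a t ⊓ Subgroup.centralizer {t}, v ∉ wSub a t →
        ∃ o : ℕ, 3 ≤ o ∧ Odd o ∧ o ∣ n ∧ v ^ o ∈ wSub a t ∧
          Nat.card (fixInv hS h2 v) ^ o = qSize a t ∧
          ∀ k ∈ invK a t, Nat.card (fixInv hS h2 (k * v)) ≤ Nat.card (fixInv hS h2 v) := by
  classical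
  obtain ⟨⟨s, r⟩, ⟨hs, hr, heq⟩, -⟩ := structure_equation hS
  have hVs := centralizer_t_eq hS hs hr heq
  set Z := invSub hS h2 with hZ
  have hKZ : ∀ (k : invK a t) (z : Z), (k : G) * z * (k : G)⁻¹ ∈ Z := fun k z =>
    conj_mem_invSub hS h2 (invK_le hS k.2) z.2
  letI : CommGroup Z :=
    { (inferInstance : Group Z) with
      mul_comm := fun x y => Subtype.ext (invSub_comm hS h2 x.2 (invSub_le_Q hS h2 y.2)) }
  obtain ⟨k₀, -, hgen, -, -⟩ := exists_generator hS h2
  have hKcomm : ∀ k l : invK a t, k * l = l * k := fun k l => by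
    obtain ⟨i, hi⟩ := (hgen k).1 ((mem_invK hS h2).1 k.2)
    obtain ⟨j, hj⟩ := (hgen l).1 ((mem_invK hS h2).1 l.2)
    refine Subtype.ext ?_
    show (k : G) * l = l * k
    rw [← hi, ← hj]
    exact (((Commute.refl k₀).zpow_left i).zpow_right j).eq
  obtain ⟨F, iF, iFt, iC, e, g, hg⟩ := Suzuki2.exists_field (U := Additive Z) (K := invK a t)
    (fun k u => Additive.ofMul ⟨(k : G) * (u.toMul : Z) * (k : G)⁻¹, hKZ k u.toMul⟩)
    (fun u => Additive.toMul.injective (Subtype.ext (by simp)))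
    (fun k l u => Additive.toMul.injective (Subtype.ext (by simp [mul_assoc])))
    (fun k u w => Additive.toMul.injective (Subtype.ext (by simp [mul_assoc])))
    (fun u => Additive.toMul.injective (Subtype.ext (invSub_sq hS h2 u.toMul.2))) hKcomm
    (fun u w hu hw => by
      have hu' : ((u.toMul : Z) : G) ∈ Cfsg.involutionsIn (stabilizer G a : Set G) :=
        u.toMul.2.resolve_left fun h => hu (Additive.toMul.injective (Subtype.ext h))
      have hw' : ((w.toMul : Z) : G) ∈ Cfsg.involutionsIn (stabilizer G a : Set G) :=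
        w.toMul.2.resolve_left fun h => hw (Additive.toMul.injective (Subtype.ext h))
      obtain ⟨k, hk, hkw⟩ := inverted_transitive hS hu' hw'
      refine ⟨⟨k⁻¹, inv_mem (Subgroup.subset_closure hk)⟩,
        Additive.toMul.injective (Subtype.ext ?_), fun l hl => Subtype.ext ?_⟩
      · show k⁻¹ * ((u.toMul : Z) : G) * k⁻¹⁻¹ = _
        rw [inv_inv]; exact hkw
      · obtain ⟨hui, hua⟩ := (mem_involutionsIn hS).1 hu'
        show (l : G) = k⁻¹
        rw [← inv_inv (l : G)]
        refine congrArg _ (inverted_conj_inj hS hui hua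
          (inv_mem_inverted hS ((mem_invK hS h2).1 l.2)) hk ?_)
        rw [inv_inv, hkw]
        exact congrArg (fun y : Additive Z => ((y.toMul : Z) : G)) hl)
    ⟨Additive.ofMul ⟨s, Or.inr hs⟩, fun h =>
      hs.2.1 (congrArg (fun y : Additive Z => ((y.toMul : Z) : G)) h)⟩
  set co : Z → F := fun z => e (Additive.ofMul z) with hco
  have hcadd : ∀ z w : Z, co (z * w) = co z + co w := fun z w => map_add e _ _
  have hck : ∀ (k : invK a t) (z : Z), co ⟨(k : G) * z * (k : G)⁻¹, hKZ k z⟩ = (g k : F) * co z :=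
    fun k z => hg k (Additive.ofMul z)
  have hcinj : Function.Injective co := fun z w h => Additive.ofMul.injective (e.injective h)
  have hcsurj : Function.Surjective co := fun x =>
    ⟨(e.symm x).toMul, by show e (e.symm x) = x; exact e.apply_symm_apply x⟩
  set s₀ : Z := ⟨s, Or.inr hs⟩ with hs₀
  have hc0 : co s₀ ≠ 0 := fun h => hs.2.1 (congrArg Subtype.val (hcinj (h.trans (map_zero e).symm) :
    s₀ = (1 : Z)))
  -- the automorphisms
  set V := twoStab a t ⊓ Subgroup.centralizer {t} with hV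
  have hvD : ∀ v ∈ V, v ∈ twoStab a t := fun v hv => (Subgroup.mem_inf.1 hv).1
  have hvs : ∀ v ∈ V, v * s = s * v := fun v hv => by
    have hv : v ∈ twoStab a t ⊓ Subgroup.centralizer {s} := hVs ▸ hv
    exact Subgroup.mem_centralizer_singleton_iff.1 (Subgroup.mem_inf.1 hv).2
  let act : ∀ v : V, Z → Z := fun v z =>
    ⟨(v : G) * z * (v : G)⁻¹, conj_mem_invSub hS h2 (hvD v v.2) z.2⟩
  have hacts : ∀ v : V, act v s₀ = s₀ := fun v => Subtype.ext (by
    show (v : G) * s * (v : G)⁻¹ = s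
    rw [hvs v v.2]; group)
  have hex : ∀ v : V, ∃ σ : F ≃+* F, ∀ z, co (act v z) = σ (co z / co s₀) * co s₀ := by
    intro v
    have hK' : ∀ k : invK a t, (v : G) * k * (v : G)⁻¹ ∈ invK a t := fun k =>
      conj_mem_invK hS h2 (hvD v v.2) k.2
    let f : F → F := fun x => co (act v (e.symm (x * co s₀)).toMul) / co s₀
    have hf : ∀ z, f (co z / co s₀) = co (act v z) / co s₀ := fun z => by
      show co (act v (e.symm (co z / co s₀ * co s₀)).toMul) / co s₀ = _
      rw [div_mul_cancel₀ _ hc0, show e.symm (co z) = Additive.ofMul z from e.symm_apply_apply _]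
      rfl
    have hsurjz : ∀ x : F, ∃ z, co z / co s₀ = x := fun x => by
      obtain ⟨z, hz⟩ := hcsurj (x * co s₀)
      exact ⟨z, by rw [hz, mul_div_cancel_right₀ _ hc0]⟩
    have hone : f 1 = 1 := by
      have := hf s₀
      rwa [hacts, div_self hc0] at this
    have hadd : ∀ x y, f (x + y) = f x + f y := by
      intro x y
      obtain ⟨z, rfl⟩ := hsurjz x
      obtain ⟨w, rfl⟩ := hsurjz y
      rw [← add_div, ← hcadd, hf, hf, hf, ← add_div, ← hcadd]
      refine congrArg (fun u => co u / co s₀) (Subtype.ext ?_)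
      show (v : G) * (z * w : G) * (v : G)⁻¹ = (v : G) * z * (v : G)⁻¹ * ((v : G) * w * (v : G)⁻¹)
      group
    have hf0 : f 0 = 0 := by
      have h := hadd 0 0
      rw [add_zero] at h
      exact left_eq_add.1 h
    have hgk : ∀ k : invK a t, f (g k : F) = (g ⟨_, hK' k⟩ : F) := by
      intro k
      have h := hf ⟨(k : G) * s * (k : G)⁻¹, hKZ k s₀⟩
      rw [show co ⟨(k : G) * s * (k : G)⁻¹, hKZ k s₀⟩ = (g k : F) * co s₀ from hck k s₀,
        mul_div_cancel_right₀ _ hc0] at h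
      rw [h, show act v ⟨(k : G) * s * (k : G)⁻¹, hKZ k s₀⟩ =
        ⟨((v : G) * k * (v : G)⁻¹) * s₀ * ((v : G) * k * (v : G)⁻¹)⁻¹, hKZ ⟨_, hK' k⟩ s₀⟩ from
          Subtype.ext (by
            show (v : G) * ((k : G) * s * (k : G)⁻¹) * (v : G)⁻¹ = _
            nth_rewrite 1 [show s = (v : G)⁻¹ * s * v by rw [mul_assoc, ← hvs v v.2]; group]
            rw [hs₀]; group), show co ⟨((v : G) * k * (v : G)⁻¹) * s₀ * ((v : G) * k * (v : G)⁻¹)⁻¹,
          hKZ ⟨_, hK' k⟩ s₀⟩ = (g ⟨_, hK' k⟩ : F) * co s₀ from hck ⟨_, hK' k⟩ s₀,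
        mul_div_cancel_right₀ _ hc0]
    have hmul : ∀ x y, f (x * y) = f x * f y := by
      intro x y
      by_cases hx : x = 0
      · rw [hx, zero_mul, hf0, zero_mul]
      by_cases hy : y = 0
      · rw [hy, mul_zero, hf0, mul_zero]
      obtain ⟨k, hk⟩ := g.surjective (Units.mk0 x hx)
      obtain ⟨l, hl⟩ := g.surjective (Units.mk0 y hy)
      rw [show x = (g k : F) by rw [hk]; rfl, show y = (g l : F) by rw [hl]; rfl, ← Units.val_mul,
        ← map_mul, hgk, hgk, hgk, ← Units.val_mul, ← map_mul]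
      refine congrArg (fun u => (g u : F)) (Subtype.ext ?_)
      show (v : G) * (k * l : G) * (v : G)⁻¹ = (v : G) * k * (v : G)⁻¹ * ((v : G) * l * (v : G)⁻¹)
      group
    have hinj : Function.Injective f := fun x y h => by
      obtain ⟨z, rfl⟩ := hsurjz x
      obtain ⟨w, rfl⟩ := hsurjz y
      rw [hf, hf, div_left_inj' hc0] at h
      have h' := congrArg Subtype.val (hcinj h)
      rw [show z = w from Subtype.ext (mul_left_cancel (mul_right_cancel h'))]
    refine ⟨{ Equiv.ofBijective f (Finite.injective_iff_bijective.1 hinj) with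
      map_mul' := hmul, map_add' := hadd }, fun z => ?_⟩
    show co (act v z) = f (co z / co s₀) * co s₀
    rw [hf, div_mul_cancel₀ _ hc0]
  choose σ hσ using hex
  have hσu : ∀ (v : V) (τ : F ≃+* F), (∀ z, co (act v z) = τ (co z / co s₀) * co s₀) → σ v = τ := by
    intro v τ hτ
    refine RingEquiv.ext fun x => ?_
    obtain ⟨z, hz⟩ := hcsurj (x * co s₀)
    have h := (hσ v z).symm.trans (hτ z)
    rw [hz, mul_div_cancel_right₀ _ hc0] at h
    exact mul_right_cancel₀ hc0 h
  let Γ : V →* (F ≃+* F) :=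
    { toFun := σ
      map_one' := hσu 1 1 fun z => by
        rw [show act 1 z = z from Subtype.ext (by show (1 : G) * z * (1 : G)⁻¹ = z; group)]
        exact (div_mul_cancel₀ _ hc0).symm
      map_mul' := fun v w => hσu (v * w) (σ v * σ w) fun z => by
        rw [show act (v * w) z = act v (act w z) from Subtype.ext (by
          show ((v : G) * w) * z * ((v : G) * w)⁻¹ = (v : G) * ((w : G) * z * (w : G)⁻¹) * (v : G)⁻¹
          group), hσ, hσ, mul_div_cancel_right₀ _ hc0]
        rfl }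
  have hker : ∀ v : V, Γ v = 1 ↔ (v : G) ∈ wSub a t := by
    intro v
    rw [mem_wSub hS h2]
    refine ⟨fun h => ⟨hvD v v.2, fun z hz => ?_⟩, fun h => hσu v 1 fun z => ?_⟩
    · have h' := hσ v ⟨z, hz⟩
      rw [show σ v = 1 from h] at h'
      change co (act v ⟨z, hz⟩) = co ⟨z, hz⟩ / co s₀ * co s₀ at h'
      rw [div_mul_cancel₀ _ hc0] at h'
      exact mul_inv_eq_iff_eq_mul.1 (congrArg Subtype.val (hcinj h'))
    · rw [show act v z = z from Subtype.ext (by
        show (v : G) * z * (v : G)⁻¹ = z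
        rw [h.2 _ z.2]; group)]
      exact (div_mul_cancel₀ _ hc0).symm
  have hcardF : Fintype.card F = 2 ^ n := by
    rw [← hn, qSize_eq hS h2, ← Nat.card_eq_fintype_card]
    exact (Nat.card_congr e.toEquiv).symm
  have hautn : Nat.card (F ≃+* F) = n := by
    haveI := iC
    have h := FieldMaps.card_aut (F := F)
    rw [hcardF] at h
    exact (Nat.pow_right_injective le_rfl h).symm
  refine ⟨?_, fun v hv => ?_, fun v hv hvW => ?_⟩
  · haveI := iC
    exact ⟨F ≃+* F, inferInstance, inferInstance, Γ, isCyclic_aut, hautn, hker⟩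
  · have h : Γ (⟨v, hv⟩ ^ n) = 1 := by rw [map_pow, ← hautn, pow_card_eq_one']
    simpa using (hker _).1 h
  set vv : V := ⟨v, hv⟩ with hvv
  have hfix : Nat.card (fixInv hS h2 v) = Nat.card {x : F // σ vv x = x} := by
    refine Nat.card_eq_of_bijective (fun z => ⟨co ⟨z.1, z.2.1⟩ / co s₀, ?_⟩) ⟨fun z w h => ?_, fun x => ?_⟩
    · have h := hσ vv ⟨z.1, z.2.1⟩
      rw [show act vv ⟨z.1, z.2.1⟩ = ⟨z.1, z.2.1⟩ from Subtype.ext (by
        show v * z.1 * v⁻¹ = z.1
        rw [z.2.2]; group)] at h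
      nth_rewrite 2 [h]
      rw [mul_div_cancel_right₀ _ hc0]
    · exact Subtype.ext (congrArg (fun u : Z => (u : G))
        (hcinj ((div_left_inj' hc0).1 (congrArg Subtype.val h))))
    · obtain ⟨z, hz⟩ := hcsurj (x.1 * co s₀)
      refine ⟨⟨z.1, z.2, ?_⟩, Subtype.ext (by
        show co ⟨z.1, z.2⟩ / co s₀ = x.1
        rw [show (⟨z.1, z.2⟩ : Z) = z from rfl, hz, mul_div_cancel_right₀ _ hc0])⟩
      have h := hσ vv z
      rw [hz, mul_div_cancel_right₀ _ hc0, x.2, ← hz] at h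
      exact mul_inv_eq_iff_eq_mul.1 (congrArg Subtype.val (hcinj h))
  refine ⟨orderOf (σ vv), ?_, ?_, hautn ▸ orderOf_dvd_natCard (σ vv), ?_, ?_, fun k hk => ?_⟩
  · have hodd : Odd (orderOf (σ vv)) := (odd_orderOf hS.odd_card (hvD v hv)).of_dvd_nat
      ((orderOf_map_dvd Γ vv).trans (Subgroup.orderOf_coe vv ▸ dvd_rfl))
    have hne : orderOf (σ vv) ≠ 1 := fun h => hvW ((hker vv).1 (orderOf_eq_one_iff.1 h))
    obtain ⟨m, hm⟩ := hodd
    omega
  · exact (odd_orderOf hS.odd_card (hvD v hv)).of_dvd_nat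
      ((orderOf_map_dvd Γ vv).trans (Subgroup.orderOf_coe vv ▸ dvd_rfl))
  · have h : Γ (vv ^ orderOf (σ vv)) = 1 := by rw [map_pow]; exact pow_orderOf_eq_one _
    simpa using (hker _).1 h
  · rw [hfix, fixed_card, hn, ← hcardF, Nat.card_eq_fintype_card]
  · rw [hfix]
    refine le_trans ?_ (semilinear_fixed_le (σ vv) (g ⟨k, hk⟩).ne_zero)
    refine Nat.card_le_card_of_injective (fun z => ⟨co ⟨z.1, z.2.1⟩ / co s₀, ?_⟩) fun z w h =>
      Subtype.ext (congrArg (fun u : Z => (u : G))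
        (hcinj ((div_left_inj' hc0).1 (congrArg Subtype.val h))))
    have h := hck ⟨k, hk⟩ (act vv ⟨z.1, z.2.1⟩)
    rw [show (⟨k * (act vv ⟨z.1, z.2.1⟩ : G) * k⁻¹, hKZ ⟨k, hk⟩ _⟩ : Z) = ⟨z.1, z.2.1⟩ from Subtype.ext (by
      show k * (v * z.1 * v⁻¹) * k⁻¹ = z.1
      calc k * (v * z.1 * v⁻¹) * k⁻¹ = (k * v) * z.1 * (k * v)⁻¹ := by group
        _ = z.1 := by rw [z.2.2]; group), hσ] at h
    nth_rewrite 2 [h]
    field_simp

/-- An element of `V` acts on the involutions of `G_a` as a field automorphism. -/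
theorem exists_galois {n : ℕ} (hn : qSize a t = 2 ^ n) :
    (∀ v ∈ twoStab a t ⊓ Subgroup.centralizer {t}, v ^ n ∈ wSub a t) ∧
      ∀ v ∈ twoStab a t ⊓ Subgroup.centralizer {t}, v ∉ wSub a t →
        ∃ o : ℕ, 3 ≤ o ∧ Odd o ∧ o ∣ n ∧ v ^ o ∈ wSub a t ∧
          Nat.card (fixInv hS h2 v) ^ o = qSize a t ∧
          ∀ k ∈ invK a t, Nat.card (fixInv hS h2 (k * v)) ≤ Nat.card (fixInv hS h2 v) :=
  (exists_galois_full hS h2 hn).2

end Cfsg.Agent.RankOne
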