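import Cfsg.Agent.Lib.RankOneW.Small

/-!
# The stabiliser of the orbit of the small group

`D = V K`; `D` normalises the small group, and the elements preserving `Δ` are the products of an
element of the small group and an element of `V`.
-/

set_option autoImplicit false
set_option linter.unusedSectionVars false

namespace Cfsg.Agent.RankOne

open MulAction

variable {G Ω : Type*} [Group G] [MulAction G Ω] {a : Ω} {t : G} {Q : Subgroup G}
variable [Finite G] (hS : Cfsg.IsRankOneSetup G Ω a t Q)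
  (h2 : ∃ x y : G, x ≠ 1 ∧ y ≠ 1 ∧ x ≠ y ∧ x * x = 1 ∧ y * y = 1 ∧ x * y = y * x)
include hS

theorem exists_vk {d : G} (hd : d ∈ twoStab a t) :
    ∃ v ∈ twoStab a t ⊓ Subgroup.centralizer {t}, ∃ k ∈ invK a t, d = v * k := by
  obtain ⟨y, z, hy, hyf, hz, e⟩ := exists_decomp hS.mul_self hS.odd_card
    (fun x hx => conj_twoStab hS hx) hd
  exact ⟨y, Subgroup.mem_inf.2 ⟨hy, mem_centralizer_iff_conj.2 hyf⟩, z,
    Subgroup.subset_closure hz, e⟩

include h2

theorem conj_mem_small {d x : G} (hd : d ∈ twoStab a t) (hx : x ∈ smallGroup a t) :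
    d * x * d⁻¹ ∈ smallGroup a t := by
  have hle : smallGroup a t ≤ (smallGroup a t).comap (MulAut.conj d).toMonoidHom := by
    refine (Subgroup.closure_le _).2 ?_
    rintro y ((hy | hy) | rfl)
    · refine Subgroup.subset_closure (Or.inl (Or.inl ?_))
      have h := conj_mem_involutionsIn hS hy (d := d⁻¹) (inv_smul_eq_iff.2 (mem_twoStab hS hd).1.symm)
      rwa [inv_inv] at h
    · exact invK_le_small hS h2 (conj_mem_invK hS h2 hd (Subgroup.subset_closure hy))
    · have hk : d⁻¹ * (y * d * y) ∈ invK a y := conj_t_mod hS hd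
      have h := mul_mem (invK_le_small hS h2 (conj_mem_invK hS h2 hd (inv_mem hk))) (t_mem_small hS h2)
      have e : d * y * d⁻¹ = d * (d⁻¹ * (y * d * y))⁻¹ * d⁻¹ * y := by
        rw [mul_inv_rev, inv_inv, mul_inv_rev, mul_inv_rev, inv_t hS]
        calc d * y * d⁻¹ = d * y * d⁻¹ * (y * y) := by rw [hS.mul_self, mul_one]
          _ = _ := by group
      show d * y * d⁻¹ ∈ smallGroup a y
      rw [e]
      exact h
  exact hle hx

variable (hr : RInvol hS h2)
include hr

/-- An element preserving `Δ` is the product of an element of the small group and one of `V`. -/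
theorem exists_lv {s : G} (hs : ∀ p ∈ orbitSet hS h2, s • p ∈ orbitSet hS h2) :
    ∃ l ∈ smallGroup a t, ∃ v ∈ twoStab a t ⊓ Subgroup.centralizer {t}, s = l * v := by
  have ha : a ∈ orbitSet hS h2 := Or.inl rfl
  have hb : t • a ∈ orbitSet hS h2 := Or.inr ⟨1, one_mem _, one_smul _ _⟩
  obtain ⟨g, hg, hga, hgb⟩ := small_move hS h2 hr (hs _ ha) (hs _ hb)
    fun h => ta_ne hS (MulAction.injective s h).symm
  have hd : g⁻¹ * s ∈ twoStab a t := Subgroup.mem_inf.2
    ⟨by rw [mem_stabilizer_iff, mul_smul, inv_smul_eq_iff, hga],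
      by rw [mem_stabilizer_iff, mul_smul, inv_smul_eq_iff, hgb]⟩
  obtain ⟨v, hv, k, hk, e⟩ := exists_vk hS hd
  refine ⟨g * (v * k * v⁻¹), mul_mem hg (conj_mem_small hS h2 (Subgroup.mem_inf.1 hv).1
    (invK_le_small hS h2 hk)), v, hv, ?_⟩
  calc s = g * (g⁻¹ * s) := by group
    _ = _ := by rw [e]; group

end Cfsg.Agent.RankOne
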