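import Cfsg.Agent.Lib.RankOneW.MateTorus
import Cfsg.Agent.Lib.RankOneW.Normal
import Cfsg.Agent.Lib.RankOneW.Galois

/-!
# The field part of the tori outside the orbit is trivial

An element conjugating `W` onto the mate at an outside point moves the torus of that point into the
stabiliser of `Δ`; its part in `V` acts on the involutions as a field automorphism with few fixed points,
so lies in `W` unless `q = 8` and `|W| = 3`.
-/

set_option autoImplicit false
set_option linter.unusedSectionVars false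

namespace Cfsg.Agent.RankOne

open MulAction

variable {G Ω : Type*} [Group G] [MulAction G Ω] {a : Ω} {t : G} {Q : Subgroup G}

theorem field_count {n j o : ℕ} (ho : 3 ≤ o) (hjo : j * o = n) (hn : 4 ≤ n) :
    n * (2 ^ j + 1) < 2 ^ n + 1 := by
  subst hjo
  rcases Nat.eq_zero_or_pos j with rfl | hj
  · simp at hn
  by_cases h1 : j = 1
  · subst h1
    simp only [one_mul, pow_one] at hn ⊢
    have key : ∀ i, (i + 4) * 3 < 2 ^ (i + 4) + 1 := fun i => by
      induction i with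
      | zero => norm_num
      | succ i ih =>
        rw [show i + 1 + 4 = (i + 4) + 1 by omega, pow_succ 2 (i + 4)]
        omega
    obtain ⟨i, rfl⟩ : ∃ i, o = i + 4 := ⟨o - 4, by omega⟩
    simpa using key i
  have hj2 : 2 ≤ j := by omega
  have hle : ∀ i, j * (i + 3) * (2 ^ j + 1) < 2 ^ (j * (i + 3)) + 1 := fun i => by
    induction i with
    | zero =>
      have h4 : 4 ≤ 2 ^ j := le_trans (by norm_num) (Nat.pow_le_pow_right two_pos hj2)
      have hj' : j < 2 ^ j := j.lt_two_pow_self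
      rw [Nat.zero_add, show 2 ^ (j * 3) = 2 ^ j * 2 ^ j * 2 ^ j by rw [← pow_add, ← pow_add]; ring_nf]
      nlinarith [Nat.mul_le_mul h4 (Nat.mul_le_mul (le_refl (2 ^ j)) (le_refl (2 ^ j)))]
    | succ i ih =>
      rw [show j * (i + 1 + 3) = j * (i + 3) + j by ring, pow_add]
      have h4 : 4 ≤ 2 ^ j := le_trans (by norm_num) (Nat.pow_le_pow_right two_pos hj2)
      have hm : j * (2 ^ j + 1) ≤ j * (i + 3) * (2 ^ j + 1) :=
        Nat.mul_le_mul_right _ (Nat.le_mul_of_pos_right j (by omega))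
      have hP : 2 ^ (j * (i + 3)) * 4 ≤ 2 ^ (j * (i + 3)) * 2 ^ j := Nat.mul_le_mul_left _ h4
      have hsplit : (j * (i + 3) + j) * (2 ^ j + 1) = j * (i + 3) * (2 ^ j + 1) + j * (2 ^ j + 1) :=
        Nat.add_mul _ _ _
      omega
  obtain ⟨i, rfl⟩ : ∃ i, o = i + 3 := ⟨o - 3, by omega⟩
  exact hle i

variable [Finite G] [FaithfulSMul G Ω] (hS : Cfsg.IsRankOneSetup G Ω a t Q)
  (h2 : ∃ x y : G, x ≠ 1 ∧ y ≠ 1 ∧ x ≠ y ∧ x * x = 1 ∧ y * y = 1 ∧ x * y = y * x)
  (hC : IsCube a t Q) (hr : RInvol hS h2)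
include hS h2 hC hr

theorem small_inf_wSub {l : G} (hl : l ∈ smallGroup a t) (hw : l ∈ wSub a t) : l = 1 := by
  have hK := small_twoStab hS h2 hr hl (wSub_le hS h2 hw)
  obtain ⟨s, s', hs, -⟩ := two_invol_fixing hS h2
  exact eq_one_of_inverted_commute hS ((mem_invK hS h2).1 hK) ((mem_involutionsIn hS).1 hs).1
    ((mem_involutionsIn hS).1 hs).2 (((mem_wSub hS h2).1 hw).2 s (Or.inr hs))

/-- An element commuting with `W` preserves the orbit. -/
theorem orbit_of_comm {x : G} (hW : wSub a t ≠ ⊥) (hx : ∀ w ∈ wSub a t, w * x = x * w) {p : Ω}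
    (hp : p ∈ orbitSet hS h2) : x • p ∈ orbitSet hS h2 := by
  obtain ⟨w, hw⟩ := Subgroup.ne_bot_iff_exists_ne_one.1 hW
  refine wSub_fixed_mem hS h2 hC hr w.2 (fun e => hw (Subtype.ext e)) ?_
  rw [← mul_smul, hx w w.2, mul_smul, wSub_fix_orbit hS h2 hC hr w.2 hp]

theorem mem_sup_of_fix {x : G} (hx : ∀ p ∈ orbitSet hS h2, x • p = p) :
    x ∈ smallGroup a t ⊔ wSub a t :=
  Subgroup.mem_sup_right (mem_wSub_of_fix_orbit hS h2 hC hr hx)

/-- A torus is transitive on the orbit. -/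
theorem torus_transitive {x : G} (hx : IsFree hS h2 x) {b c : Ω} (hb : b ∈ orbitSet hS h2)
    (hc : c ∈ orbitSet hS h2) : ∃ y ∈ torus a t x, y • b = c := by
  have := finite_points hS
  let f : torus a t x → orbitSet hS h2 := fun y =>
    ⟨(y : G) • b, smul_orbitSet hS h2 hr (mem_torus.1 y.2).1 hb⟩
  have hf : Function.Injective f := by
    intro y z h
    by_contra hne
    have h' : (y : G) • b = (z : G) • b := congrArg Subtype.val h
    refine (torus_isFree hS h2 hr hx (mul_mem (inv_mem z.2) y.2)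
      fun e => hne (Subtype.ext (inv_mul_eq_one.1 e).symm)).free b hb ?_
    rw [mul_smul, h', inv_smul_smul]
  have hcard : Nat.card (torus a t x) = Nat.card (orbitSet hS h2) := by
    rw [(torus_spec hS h2 hr hx).2, card_orbitSet hS h2 hr]
  obtain ⟨y, hy⟩ := ((Nat.bijective_iff_injective_and_card f).2 ⟨hf, hcard⟩).2 ⟨c, hc⟩
  exact ⟨y, y.2, congrArg Subtype.val hy⟩

/-- An element with field part `v` fixes at most `q₀ + 1` points of the orbit besides being the identity there. -/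
theorem card_fixed_orbit {d : G} (hd : d ∈ twoStab a t) :
    Nat.card {p : Ω // p ∈ orbitSet hS h2 ∧ d • p = p} ≤ Nat.card (fixInv hS h2 d) + 1 := by
  classical
  have := finite_points hS
  rw [← Finite.card_option]
  refine Nat.card_le_card_of_surjective
    (fun o : Option (fixInv hS h2 d) => (o.elim ⟨a, Or.inl rfl, (mem_twoStab hS hd).1⟩
      fun z => ⟨(z : G) • (t • a), Or.inr ⟨z, z.2.1, rfl⟩, by
        rw [← mul_smul, z.2.2, mul_smul, (mem_twoStab hS hd).2]⟩ :
      {p : Ω // p ∈ orbitSet hS h2 ∧ d • p = p})) ?_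
  rintro ⟨p, hp | ⟨z, hz, hzp⟩, hdp⟩
  · exact ⟨none, Subtype.ext hp.symm⟩
  · refine ⟨some ⟨z, hz, ?_⟩, Subtype.ext hzp⟩
    exact mul_inv_eq_iff_eq_mul.1 (mem_centralizer_iff_fix hS hd (invSub_le_Q hS h2 hz) hzp hdp)

variable {ω : Ω} (hω : ω ∉ orbitSet hS h2) {g : G}

section
variable (hW : wSub a t ≠ ⊥) (hg : ConjMate a t ω g)
include hω hW hg

/-- The pulled back torus centralises `W`. -/
theorem pull_comm {τ : G} (hτ : τ ∈ mateTorus a t ω) :
    ∀ w ∈ wSub a t, w * (g⁻¹ * τ * g) = g⁻¹ * τ * g * w := by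
  intro w hw
  have h := Subgroup.mem_centralizer_iff.1 (Subgroup.mem_inf.1 hτ).2 _ ((hg w).2 hw)
  calc w * (g⁻¹ * τ * g) = g⁻¹ * (g * w * g⁻¹ * τ) * g := by group
    _ = g⁻¹ * (τ * (g * w * g⁻¹)) * g := by rw [h]
    _ = _ := by group

/-- The orbit is carried to the torus orbit of `ω`, outside the orbit. -/
theorem push_orbit {p : Ω} (hp : p ∈ orbitSet hS h2) : g • p ∉ orbitSet hS h2 := by
  obtain ⟨w, hw⟩ := Subgroup.ne_bot_iff_exists_ne_one.1 hW
  have hm : g * (w : G) * g⁻¹ ∈ mate a t ω := (hg w).2 w.2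
  have hfix : (g * (w : G) * g⁻¹) • (g • p) = g • p := by
    rw [mul_smul, mul_smul, inv_smul_smul, wSub_fix_orbit hS h2 hC hr w.2 hp]
  obtain ⟨σ, hσ, e⟩ := (mate_fixed hS h2 hC hr hω hW hm
    (fun e => hw (Subtype.ext (conj_eq_one_iff.1 e))) (g • p)).1 hfix
  intro hgp
  rw [← e] at hgp
  exact hω (by
    have := smul_orbitSet hS h2 hr (inv_mem (Subgroup.mem_inf.1 hσ).1) hgp
    rwa [inv_smul_smul] at this)

theorem pull_free {τ : G} (hτ : τ ∈ mateTorus a t ω) (hτ1 : τ ≠ 1) {p : Ω} (hp : p ∈ orbitSet hS h2) :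
    (g⁻¹ * τ * g) • p ≠ p := by
  rw [mul_smul, mul_smul, ne_eq, inv_smul_eq_iff]
  exact small_semiregular hS h2 hr (Subgroup.mem_inf.1 hτ).1 hτ1 (push_orbit hS h2 hC hr hω hW hg hp)

/-- The case `|W| = q + 1`. -/
theorem sup_of_full (hfull : Nat.card (wSub a t) = qSize a t + 1) {τ : G} (hτ : τ ∈ mateTorus a t ω) :
    g⁻¹ * τ * g ∈ smallGroup a t ⊔ wSub a t := by
  classical
  have hiota : ∀ {η : Ω} (hη : η ∉ orbitSet hS h2) {y : G}, y ∈ mateTorus a t η →
      ∃ (w : G) (hw : w ∈ wSub a t), iota hS h2 hC hr hη hw = y := by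
    intro η hη y hy
    let f : wSub a t → mateTorus a t η := fun w => ⟨_, iota_mem_mateTorus hS h2 hC hr hη w.2⟩
    have hf : Function.Injective f := fun v w h =>
      iotaHom_injective hS h2 hC hr hη hW (congrArg (fun z : mateTorus a t η => (z : G)) h)
    have hcard : Nat.card (wSub a t) = Nat.card (mateTorus a t η) :=
      hfull.trans (mateTorus_spec hS h2 hC hr hη hW).2.symm
    obtain ⟨w, hw⟩ := ((Nat.bijective_iff_injective_and_card f).2 ⟨hf, hcard⟩).2 ⟨y, hy⟩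
    exact ⟨w, w.2, congrArg Subtype.val hw⟩
  obtain ⟨w, hw, hwτ⟩ := hiota hω hτ
  -- `τ` is `w` times an element of the mate
  have hιL := iota_mem hS h2 hC hr hω hw
  have hτe : τ = w * ((iota hS h2 hC hr hω hw)⁻¹ * w)⁻¹ := by
    rw [mul_inv_rev, inv_inv, ← mul_assoc, mul_inv_cancel, one_mul, hwτ]
  have hmW : g⁻¹ * ((iota hS h2 hC hr hω hw)⁻¹ * w) * g ∈ wSub a t := by
    refine (hg _).1 ?_
    rw [show g * (g⁻¹ * ((iota hS h2 hC hr hω hw)⁻¹ * w) * g) * g⁻¹ =
      (iota hS h2 hC hr hω hw)⁻¹ * w by group]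
    exact mate_elem hS h2 hC hr hω hw
  set x := g⁻¹ * w * g with hx
  suffices hxs : x ∈ smallGroup a t ⊔ wSub a t by
    have h := mul_mem hxs (inv_mem (Subgroup.mem_sup_right (S := smallGroup a t) hmW))
    rw [hτe]
    convert h using 1
    rw [hx]; group
  -- `x` commutes with `W` and fixes a point outside
  have hwmate : ∀ m ∈ mate a t ω, m * w = w * m := by
    intro m hm
    obtain ⟨u, hu, rfl⟩ := (mem_mate hS h2 hC hr hω).1 hm
    have h1 : Commute w (iota hS h2 hC hr hω hu) := wSub_comm_small hS h2 hC hr hw (iota_mem hS h2 hC hr hω hu)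
    have h3 : Commute w u := wSub_comm hS h2 hC hr hω hW hw hu
    exact (h1.inv_right.mul_right h3).symm.eq
  have hxW : ∀ u ∈ wSub a t, u * x = x * u := by
    intro u hu
    calc u * x = g⁻¹ * (g * u * g⁻¹ * w) * g := by rw [hx]; group
      _ = g⁻¹ * (w * (g * u * g⁻¹)) * g := by rw [hwmate _ ((hg u).2 hu)]
      _ = _ := by rw [hx]; group
  set p := g⁻¹ • a with hp
  have hpout : p ∉ orbitSet hS h2 := fun h => by
    have := push_orbit hS h2 hC hr hω hW hg h
    rw [hp, smul_inv_smul] at this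
    exact this (Or.inl rfl)
  have hxp : x • p = p := by
    rw [hx, hp, mul_smul, mul_smul, smul_inv_smul, (mem_twoStab hS (wSub_le hS h2 hw)).1]
  obtain ⟨l, hl, v, hv, hlv⟩ := exists_lv hS h2 hr (s := x) fun q hq =>
    orbit_of_comm hS h2 hC hr hW hxW hq
  have hxL : ∀ y ∈ smallGroup a t, x * y * x⁻¹ ∈ smallGroup a t := by
    intro y hy
    have h1 := mul_mem (mul_mem hl (conj_mem_small hS h2 (Subgroup.mem_inf.1 hv).1 hy)) (inv_mem hl)
    rw [hlv]
    convert h1 using 1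
    group
  have hxT : ∀ y ∈ mateTorus a t p, x * y = y * x := by
    intro y hy
    obtain ⟨u, hu, rfl⟩ := hiota hpout hy
    have e : x * iota hS h2 hC hr hpout hu * x⁻¹ = iota hS h2 hC hr hpout hu := by
      refine iota_eq hS h2 hC hr hpout hu (hxL _ (iota_mem hS h2 hC hr hpout hu)) ?_
      rw [mul_smul, mul_smul, show x⁻¹ • p = p by rw [inv_smul_eq_iff, hxp], iota_smul, ← mul_smul,
        ← hxW u hu, mul_smul, hxp]
    calc x * iota hS h2 hC hr hpout hu = x * iota hS h2 hC hr hpout hu * x⁻¹ * x := by group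
      _ = _ := by rw [e]
  have ha : a ∈ orbitSet hS h2 := Or.inl rfl
  obtain ⟨σ, hσ, hσa⟩ := mateTorus_transitive hS h2 hC hr hpout hW ha
    (orbit_of_comm hS h2 hC hr hW hxW ha)
  have hfix : ∀ q ∈ orbitSet hS h2, (σ⁻¹ * x) • q = q := by
    intro q hq
    obtain ⟨y, hy, rfl⟩ := mateTorus_transitive hS h2 hC hr hpout hW ha hq
    rw [← mul_smul, mul_assoc, hxT y hy, ← mul_assoc,
      mateTorus_comm hS h2 hC hr hpout hW (inv_mem hσ) hy, mul_assoc, mul_smul, mul_smul, ← hσa, inv_smul_smul]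
  have := mul_mem (Subgroup.mem_sup_left (Subgroup.mem_inf.1 hσ).1)
    (mem_sup_of_fix hS h2 hC hr hfix)
  rwa [mul_inv_cancel_left] at this

end

theorem betaTriv_or_pocket (hW : wSub a t ≠ ⊥) :
    BetaTriv hS h2 ∨ (qSize a t = 8 ∧ Nat.card (wSub a t) = 3 ∧
      Nat.card ↥(twoStab a t ⊓ Subgroup.centralizer {t}) = 9) := by
  classical
  refine (em (BetaTriv hS h2)).imp id fun hneg => ?_
  unfold BetaTriv at hneg
  push Not at hneg
  obtain ⟨ω, hω, g, hg, τ, hτ, hτs⟩ := hneg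
  set T := mateTorus a t ω with hT
  obtain ⟨hcyc, hcardT⟩ := mateTorus_spec hS h2 hC hr hω hW
  obtain ⟨⟨τ₀, hτ₀⟩, hgen⟩ := hcyc.exists_generator
  set s := g⁻¹ * τ₀ * g with hs
  have hsW := pull_comm hS h2 hC hr hω hW hg hτ₀
  have hsout : s ∉ smallGroup a t ⊔ wSub a t := fun hmem => hτs (by
    obtain ⟨i, hi⟩ := hgen ⟨τ, hτ⟩
    have hi' : τ₀ ^ i = τ := congrArg Subtype.val hi
    have := zpow_mem hmem i
    rw [hs, show g⁻¹ * τ₀ * g = g⁻¹ * τ₀ * g⁻¹⁻¹ by rw [inv_inv], conj_zpow, hi', inv_inv] at this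
    exact this)
  obtain ⟨l, hl, v, hv, hlv⟩ := exists_lv hS h2 hr (s := s) fun p hp =>
    orbit_of_comm hS h2 hC hr hW hsW hp
  have hvW : v ∉ wSub a t := fun h => hsout (hlv ▸ mul_mem (Subgroup.mem_sup_left hl) (Subgroup.mem_sup_right h))
  have hvD : v ∈ twoStab a t := (Subgroup.mem_inf.1 hv).1
  obtain ⟨n, hn2, hn⟩ := qSize_pow hS h2
  obtain ⟨⟨A, iA, iF, Γ, hcycA, hcardA, hΓ⟩, hvn, hgal⟩ := exists_galois_full hS h2 hn
  obtain ⟨o, ho3, -, hon, -, hq0, hkv⟩ := hgal v hv hvW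
  -- `s ^ n` is an element of the small group times one of `W`
  have hpowlv : ∀ i : ℕ, ∃ l' ∈ smallGroup a t, s ^ i = l' * v ^ i := by
    intro i
    induction i with
    | zero => exact ⟨1, one_mem _, by rw [pow_zero, pow_zero, mul_one]⟩
    | succ i ih =>
      obtain ⟨l', hl', e⟩ := ih
      refine ⟨l' * (v ^ i * l * (v ^ i)⁻¹), mul_mem hl' (conj_mem_small hS h2 (pow_mem hvD i) hl), ?_⟩
      rw [pow_succ, e, hlv, pow_succ]; group
  obtain ⟨x, hxL, hsn⟩ := hpowlv n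
  have hw1 : v ^ n ∈ wSub a t := hvn v hv
  set w1 := v ^ n
  have hpow_pull : ∀ i : ℕ, s ^ i = g⁻¹ * τ₀ ^ i * g := fun i => by
    rw [hs, show g⁻¹ * τ₀ * g = g⁻¹ * τ₀ * g⁻¹⁻¹ by rw [inv_inv], conj_pow, inv_inv]
  have hord : orderOf τ₀ = qSize a t + 1 := by
    rw [← hcardT, ← Subgroup.orderOf_mk τ₀ hτ₀]
    exact orderOf_eq_card_of_forall_mem_zpowers hgen
  have hqn : n < qSize a t + 1 := by rw [hn]; exact Nat.lt_succ_of_lt n.lt_two_pow_self
  have hfreex : ∀ p ∈ orbitSet hS h2, x • p ≠ p := by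
    intro p hp e
    refine pull_free hS h2 hC hr hω hW hg (pow_mem hτ₀ n) (fun h1 => ?_) hp (show (g⁻¹ * τ₀ ^ n * g) • p = p from ?_)
    · have := Nat.le_of_dvd (by omega) (orderOf_dvd_of_pow_eq_one h1)
      rw [hord] at this
      omega
    · rw [← hpow_pull, hsn, mul_smul, wSub_fix_orbit hS h2 hC hr hw1 hp, e]
  have hxw : x * w1 = w1 * x := (wSub_comm_small hS h2 hC hr hw1 hxL).symm
  have hxq : x ^ (qSize a t + 1) = 1 := by
    refine small_inf_wSub hS h2 hC hr (pow_mem hxL _) ?_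
    have e : (s ^ n) ^ (qSize a t + 1) = 1 := by
      rw [← pow_mul, hpow_pull, mul_comm, pow_mul, ← hord, pow_orderOf_eq_one, one_pow]; group
    rw [hsn, (show Commute x w1 from hxw).mul_pow] at e
    rw [eq_inv_of_mul_eq_one_left e]
    exact inv_mem (pow_mem hw1 _)
  have hqodd : Odd (qSize a t + 1) := by
    rw [hn]; exact (Nat.even_pow.2 ⟨even_two, by omega⟩).add_one
  have hxfree : IsFree hS h2 x :=
    ⟨hxL, fun e => hfreex a (Or.inl rfl) (by rw [e, one_smul]),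
      hqodd.of_dvd_nat (orderOf_dvd_of_pow_eq_one hxq), hfreex⟩
  have hsx : s * x = x * s := by
    have hx' : x = s ^ n * w1⁻¹ := by rw [hsn, mul_inv_cancel_right]
    have h1 : Commute s (s ^ n) := (Commute.refl s).pow_right n
    have h3 : Commute s w1 := (hsW w1 hw1).symm
    rw [hx']
    exact (h1.mul_right h3.inv_right).eq
  -- a two-point element with many fixed points
  have ha : a ∈ orbitSet hS h2 := Or.inl rfl
  obtain ⟨y, hy, hya⟩ := torus_transitive hS h2 hC hr hxfree (orbit_of_comm hS h2 hC hr hW hsW ha) ha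
  set v1 := y * s with hv1
  have hv1x : v1 * x = x * v1 := by
    calc v1 * x = y * (s * x) := by rw [hv1]; group
      _ = (y * x) * s := by rw [hsx, mul_assoc]
      _ = (x * y) * s := by rw [(mem_torus.1 hy).2]
      _ = _ := by rw [hv1, mul_assoc]
  have hv1a : v1 • a = a := by rw [hv1, mul_smul]; exact hya
  obtain ⟨l2, hl2, hl2a, hl2b⟩ := small_move hS h2 hr ha (smul_orbitSet hS h2 hr hxL ha)
    (fun e => hfreex a ha e.symm)
  have hv1pow : ∀ i : ℕ, v1 • ((x ^ i) • a) = (x ^ i) • a := fun i => by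
    rw [← mul_smul, ((show Commute v1 x from hv1x).pow_right i).eq, mul_smul, hv1a]
  set d := l2⁻¹ * v1 * l2 with hd
  have hdD : d ∈ twoStab a t := by
    refine Subgroup.mem_inf.2 ⟨?_, ?_⟩
    · rw [mem_stabilizer_iff, hd, mul_smul, mul_smul, hl2a, hv1a, inv_smul_eq_iff, hl2a]
    · rw [mem_stabilizer_iff, hd, mul_smul, mul_smul, hl2b, inv_smul_eq_iff, hl2b]
      simpa using hv1pow 1
  have hk : d * v⁻¹ ∈ invK a t := by
    refine small_twoStab hS h2 hr ?_ (mul_mem hdD (inv_mem hvD))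
    have e : d * v⁻¹ = l2⁻¹ * y * l * (v * l2 * v⁻¹) := by rw [hd, hv1, hlv]; group
    rw [e]
    exact mul_mem (mul_mem (mul_mem (inv_mem hl2) (mem_torus.1 hy).1) hl) (conj_mem_small hS h2 hvD hl2)
  have hle : orderOf x ≤ Nat.card (fixInv hS h2 v) + 1 := by
    have h1 := hkv _ hk
    rw [inv_mul_cancel_right] at h1
    refine le_trans ?_ (Nat.add_le_add_right h1 1)
    refine le_trans ?_ (card_fixed_orbit hS h2 hC hr hdD)
    have := finite_points hS
    rw [← Nat.card_fin (orderOf x)]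
    refine Nat.card_le_card_of_injective (fun i => ⟨l2⁻¹ • ((x ^ (i : ℕ)) • a),
      smul_orbitSet hS h2 hr (inv_mem hl2) (smul_orbitSet hS h2 hr (pow_mem hxL _) ha), ?_⟩) fun i j e => ?_
    · rw [hd, mul_smul, mul_smul, smul_inv_smul, hv1pow]
    · have e1 : (x ^ (i : ℕ)) • a = (x ^ (j : ℕ)) • a := MulAction.injective l2⁻¹ (congrArg Subtype.val e)
      by_contra hne
      have hxne : (x ^ (j : ℕ))⁻¹ * x ^ (i : ℕ) ≠ 1 := fun h => hne (Fin.ext
        (pow_injOn_Iio_orderOf i.2 j.2 (inv_mul_eq_one.1 h).symm))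
      refine (torus_isFree hS h2 hr hxfree (mul_mem (inv_mem (pow_mem (self_mem_torus hS h2 hr hxfree) _))
        (pow_mem (self_mem_torus hS h2 hr hxfree) _)) hxne).free a ha ?_
      rw [mul_smul, e1, inv_smul_smul]
  have hbig : qSize a t + 1 ≤ n * orderOf x := by
    refine Nat.le_of_dvd (Nat.mul_pos (by omega) (orderOf_pos x)) ?_
    rw [← hord]
    refine orderOf_dvd_of_pow_eq_one ?_
    by_contra h1
    refine pull_free hS h2 hC hr hω hW hg (pow_mem hτ₀ _) h1 ha ?_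
    rw [← hpow_pull, pow_mul, hsn, (show Commute x w1 from hxw).mul_pow, pow_orderOf_eq_one, one_mul,
      wSub_fix_orbit hS h2 hC hr (pow_mem hw1 _) ha]
  -- numbers
  obtain ⟨j, hj, hq0j⟩ : ∃ j, j * o = n ∧ Nat.card (fixInv hS h2 v) = 2 ^ j := by
    obtain ⟨j, -, hj⟩ := (Nat.dvd_prime_pow Nat.prime_two).1 (show Nat.card (fixInv hS h2 v) ∣ 2 ^ n by
      rw [← hn, ← hq0]; exact dvd_pow_self _ (by omega))
    refine ⟨j, Nat.pow_right_injective le_rfl ?_, hj⟩
    show 2 ^ (j * o) = 2 ^ n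
    rw [pow_mul, ← hj, hq0, hn]
  have hn3 : n = 3 := by
    rcases Nat.lt_or_ge n 4 with h | h
    · rcases Nat.lt_or_ge n 3 with h' | h'
      · have := Nat.le_of_dvd (by omega) hon; omega
      · omega
    · have h5 := field_count ho3 hj h
      rw [hn] at hbig
      rw [hq0j] at hle
      have := Nat.mul_le_mul_left n hle
      omega
  have hq8 : qSize a t = 8 := by rw [hn, hn3]; norm_num
  have hdvd := (wSub_cyclic hS h2 hC hr hω hW).2
  rw [hq8] at hdvd
  have hne1 : Nat.card (wSub a t) ≠ 1 := fun h => hW (Subgroup.eq_bot_of_card_eq _ h)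
  have hne9 : Nat.card (wSub a t) ≠ 9 := fun h => hsout
    (sup_of_full hS h2 hC hr hω hW hg (h.trans (by rw [hq8])) hτ₀)
  have hw3 : Nat.card (wSub a t) = 3 := by
    obtain ⟨i, hi, e⟩ := (Nat.dvd_prime_pow Nat.prime_three).1 (show Nat.card (wSub a t) ∣ 3 ^ 2 from hdvd)
    interval_cases i
    · exact absurd (e.trans (pow_zero 3)) hne1
    · exact e.trans (pow_one 3)
    · exact absurd (e.trans (by norm_num)) hne9
  refine ⟨hq8, hw3, ?_⟩
  -- the centraliser of `t` in `D`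
  rw [hn3] at hcardA
  have hker : Nat.card Γ.ker = 3 := by
    rw [← hw3]
    refine Nat.card_congr
      { toFun := fun u => ⟨((u.1 : ↥(twoStab a t ⊓ Subgroup.centralizer {t})) : G), (hΓ u.1).1 u.2⟩
        invFun := fun w => ⟨⟨w, wSub_le_v hS h2 w.2⟩, (hΓ _).2 w.2⟩
        left_inv := fun u => rfl
        right_inv := fun w => rfl }
  have hrange : Nat.card Γ.range = 3 := by
    rcases (Nat.dvd_prime Nat.prime_three).1 (hcardA ▸ Subgroup.card_subgroup_dvd_card Γ.range) with h | h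
    · exfalso
      refine hvW ((hΓ ⟨v, hv⟩).1 ?_)
      exact Subgroup.mem_bot.1 (Subgroup.eq_bot_of_card_eq _ h ▸ ⟨⟨v, hv⟩, rfl⟩)
    · exact h
  rw [← Γ.ker.card_mul_index, Subgroup.index_ker, hker, hrange]

end Cfsg.Agent.RankOne
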