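import Cfsg.Agent.Lib.RankOneW.PocketDegree
import Cfsg.Agent.Lib.Zassenhaus.Feit

/-!
# The case `q = 8`, `|W| = 3`, `|V| = 9`: a normal subgroup of index three

The character induced from the linear character `λ` of order three of `G_a` has two irreducible
constituents, of degrees `1`, `512` or `57`, `456`.  The determinant of the one of degree at most
`57` is a linear character of `G` which is trivial on `Q` and non-trivial on a generator of `V`.
-/

set_option autoImplicit false
set_option linter.unusedSectionVars false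
set_option linter.style.haveILetI false

namespace Cfsg.Agent.RankOne

open MulAction Cfsg.Agent.Char PocketChar

universe u v

theorem pocket_degrees : ∀ d ∈ Finset.range 514, d % 7 = 1 → d ∣ 16547328 → (513 - d) ∣ 16547328 →
    d = 1 ∨ d = 57 ∨ d = 456 ∨ d = 512 := by decide +kernel

theorem pocket_exponent : ∀ j₀ : ZMod 9, j₀ ≠ 3 →
    (512 : ZMod 9) * ∑ j : ZMod 9, (((if j = j₀ then 0 else 1) +
      2 * ((if j = j₀ then 0 else 1) + (if j + 3 = j₀ then 0 else 1) +
        (if j + 6 = j₀ then 0 else 1)) + (if j = 3 then 1 else 0) : ℕ) : ZMod 9) * j ≠ 0 := by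
  decide +kernel

theorem pocket_exponent_linear :
    (512 : ZMod 9) * ∑ j : ZMod 9, (((if j = 3 then 1 else 0) : ℕ) : ZMod 9) * j ≠ 0 := by
  decide +kernel

open scoped Classical ComplexConjugate

namespace Pocket

variable {G : Type u} {Ω : Type v} [Group G] [MulAction G Ω] {a : Ω} {t : G} {Q : Subgroup G}

local notation "V" => pocketV a t
local notation "K" => invK a t
local notation "D" => twoStab a t
local notation "H" => stabilizer G a

variable [Fintype G] [FaithfulSMul G Ω] (P : Pocket a t Q)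
include P

/-- A character of `G` with suitable eigenvalues on a generator of `V` gives the normal subgroup. -/
theorem of_det {n : ℕ} (ρ : Representation ℂ G (Fin n → ℂ)) (m : ZMod 9 → ℕ)
    (hm : ∀ j, ∑ i : ZMod 9, ρ.character (P.el i) * ep (-(j * i)) = 9 * (m j : ℂ))
    (hE : (512 : ZMod 9) * ∑ j : ZMod 9, (m j : ZMod 9) * j ≠ 0) :
    ∃ N : Subgroup G, N.Normal ∧ N ≠ ⊤ ∧ Q ≤ N := by
  let φ : Multiplicative (ZMod 9) →* G := (Subgroup.subtype V).comp P.iso.toMonoidHom
  obtain ⟨m', hχ, hdet⟩ := PocketChar.exists_det (ρ.comp φ)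
  have hmm : ∀ j, m' j = m j := by
    intro j
    have h := hm j
    have hφ : ∀ i : ZMod 9, ρ.character (P.el i) = ∑ l, (m' l : ℂ) * ep (l * i) := fun i => hχ i
    simp only [hφ, Finset.sum_mul, mul_assoc, ← AddChar.map_add_eq_mul, ← sub_eq_add_neg,
      ← sub_mul] at h
    rw [Finset.sum_comm] at h
    simp only [← Finset.mul_sum] at h
    rw [Fintype.sum_eq_single j fun l hl => ?_] at h
    · simp only [sub_self, zero_mul, AddChar.map_zero_eq_one, Finset.sum_const, Finset.card_univ,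
        ZMod.card, nsmul_eq_mul, mul_one] at h
      have h' : ((9 * m' j : ℕ) : ℂ) = ((9 * m j : ℕ) : ℂ) := by push_cast at h ⊢; linear_combination h
      have : 9 * m' j = 9 * m j := by exact_mod_cast h'
      omega
    · rw [Finset.sum_congr rfl fun i _ => by rw [mul_comm], ep_sum,
        if_neg (sub_ne_zero.2 hl), mul_zero]
  let f : G →* ℂˣ := CharExtend.detHom ρ ^ 512
  refine ⟨f.ker, inferInstance, fun htop => ?_, fun x hx => ?_⟩
  · have h1 : f (φ (Multiplicative.ofAdd 1)) = 1 :=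
      MonoidHom.mem_ker.1 (htop ▸ Subgroup.mem_top _)
    have h2 : LinearMap.det (ρ (φ (Multiplicative.ofAdd 1))) ^ 512 = 1 := by
      have h := congrArg (fun u : ℂˣ => (u : ℂ)) h1
      simpa [f, MonoidHom.pow_apply, CharExtend.detHom_apply] using h
    rw [show LinearMap.det (ρ (φ (Multiplicative.ofAdd 1))) = ep (∑ j, m' j • j) from hdet,
      ← AddChar.map_nsmul_eq_pow, ← AddChar.map_zero_eq_one ep] at h2
    have h3 := ep_inj h2
    simp only [hmm, nsmul_eq_mul, Nat.cast_ofNat] at h3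
    exact hE h3
  · rw [MonoidHom.mem_ker, show f x = CharExtend.detHom ρ x ^ 512 from rfl, ← map_pow]
    have h : x ^ 512 = 1 := by
      have h := congrArg Subtype.val (pow_card_eq_one' (G := Q) (x := ⟨x, hx⟩))
      rwa [P.card_Q] at h
    rw [h, map_one]

variable {s : G} (hs : P.IsBase s)
include hs

/-- The constituent of degree at most `57` yields the normal subgroup. -/
theorem of_small {χ χ' : G → ℂ} (hχ : Cfsg.IsIrrCharacter G χ) (hχ' : Cfsg.IsIrrCharacter G χ')
    (hsum : Cfsg.indFun H (fun y : H => P.lam y) = χ + χ')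
    (hlam : Cfsg.classInner (fun y : H => χ y) (fun y : H => P.lam y) = 1)
    (hdeg : χ 1 = 1 ∨ (χ 1 = 57 ∧ ∑ z : P.Z, χ z = 8)) :
    ∃ N : Subgroup G, N.Normal ∧ N ≠ ⊤ ∧ Q ≤ N := by
  have hlamirr : Cfsg.IsIrrCharacter H (fun y : H => P.lam y) := by
    have h := isIrrCharacter_linear (P.mu 3)
    have e : (fun y : H => P.lam y) = fun y => ((P.mu 3 y : ℂˣ) : ℂ) :=
      funext fun y => extendByZero_coe H _ y
    rwa [e]
  set ψ : H → ℂ := (fun y : H => χ y) - fun y : H => P.lam y with hψdef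
  have hψ : Cfsg.IsCharacter H ψ := sub_constituent
    (IsCharacter.restrict (IsIrrCharacter.isCharacter hχ) H) hlamirr (by rw [hlam]; exact one_ne_zero)
  set F := Cfsg.extendByZero H ψ with hFdef
  have hF : ∀ y ∈ H, F y = χ y - P.lam y := fun y hy => by
    rw [hFdef, extendByZero_mem _ _ hy]; rfl
  obtain ⟨n, ρ, -, hρ⟩ := hχ
  have hlam0 : ∀ i, P.lam (P.el i) = ep (3 * i) := fun i => by
    simpa using P.lam_el (one_mem _) i
  have helH : ∀ i, P.el i ∈ H := fun i => (Subgroup.mem_inf.1 (P.v_le (P.el_mem i))).1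
  have hF1 : F 1 = χ 1 - 1 := by rw [hF 1 (one_mem _), P.lam_Q (one_mem _)]
  rcases hdeg with hd | ⟨hd, hz⟩
  · have h0 : ψ = 0 := IsCharacter.eq_zero_of_one hψ (by
      rw [← extendByZero_one H ψ, ← hFdef, hF1, hd, sub_self])
    refine P.of_det ρ (fun j => if j = 3 then 1 else 0) (fun j => ?_) pocket_exponent_linear
    have hχe : ∀ i, χ (P.el i) = ep (3 * i) := fun i => by
      have h := congrFun h0 ⟨P.el i, helH i⟩
      rw [hψdef, Pi.sub_apply, Pi.zero_apply, sub_eq_zero] at h
      exact h.trans (hlam0 i)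
    simp only [hρ, hχe, ← AddChar.map_add_eq_mul, ← sub_eq_add_neg, ← sub_mul]
    rw [Finset.sum_congr rfl fun i _ => by rw [mul_comm], ep_sum]
    by_cases hj : j = 3
    · rw [if_pos hj, if_pos (by rw [hj, sub_self])]; norm_num
    · rw [if_neg hj, if_neg (sub_ne_zero.2 (Ne.symm hj))]; norm_num
  -- the constituent of degree `57`
  have hψ56 : F 1 = 56 := by rw [hF1, hd]; norm_num
  have hψZ : ∑ z : P.Z, F z = 0 := by
    rw [Finset.sum_congr rfl fun z _ => by
      rw [hF z (P.setup.le (P.Z_le z.2)), P.lam_Q (P.Z_le z.2)],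
      Finset.sum_sub_distrib, hz, Finset.sum_const, Finset.card_univ, ← Nat.card_eq_fintype_card,
      P.card_Z]
    norm_num
  have hne : ψ ≠ 0 := fun h => by
    have := congrFun h 1
    rw [← extendByZero_one H ψ, ← hFdef, hψ56] at this
    norm_num at this
  obtain ⟨⟨θ, hθ⟩, hθψ⟩ := IsCharacter.exists_constituent hψ hne
  have hrest : Cfsg.IsCharacter H (ψ - θ) := sub_constituent hψ hθ hθψ
  have hext : ∀ y ∈ H, Cfsg.extendByZero H (ψ - θ) y = F y - Cfsg.extendByZero H θ y := fun y hy => by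
    rw [hFdef, extendByZero_mem _ _ hy, extendByZero_mem _ _ hy, extendByZero_mem _ _ hy]; rfl
  obtain ⟨c₁, -, -, -, -, -, hc₁, -⟩ := P.degree_facts hs (IsIrrCharacter.isCharacter hθ)
  obtain ⟨c₂, -, -, -, -, -, hc₂, -⟩ := P.degree_facts hs hrest
  rw [Finset.sum_congr rfl fun (z : P.Z) _ => hext z (P.setup.le (P.Z_le z.2)), Finset.sum_sub_distrib,
    hψZ, hc₁] at hc₂
  have hc0 : c₁ = 0 := by
    have h : ((c₁ + c₂ : ℕ) : ℂ) = 0 := by push_cast; linear_combination -(1 / 8 : ℂ) * hc₂
    have : c₁ + c₂ = 0 := by exact_mod_cast h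
    omega
  rw [hc0, Nat.cast_zero, mul_zero] at hc₁
  obtain ⟨hclean, e, he, hθ1⟩ := P.clean_of_irr hs hθ hc₁
  have hψθ : ψ = θ := by
    obtain ⟨d, hd'⟩ := IsCharacter.exists_degree hrest
    have hψ1 : ψ 1 = 56 := (extendByZero_one H ψ).symm.trans hψ56
    rw [Pi.sub_apply, hψ1, hθ1] at hd'
    have h : ((d + 7 * e : ℕ) : ℂ) = ((56 : ℕ) : ℂ) := by
      push_cast at hd' ⊢; linear_combination -hd'
    have h' : d + 7 * e = 56 := by exact_mod_cast h
    refine sub_eq_zero.1 (IsCharacter.eq_zero_of_one hrest ?_)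
    rw [Pi.sub_apply, hψ1, hθ1, show e = 8 by omega]
    norm_num
  subst hψθ
  change P.IsClean F at hclean
  -- the sums over the cosets of `K`
  set g : ZMod 9 → ℂ := fun i => ∑ k : K, F ((k : G) * P.el i) with hg
  have hg0 : g 0 = 56 := by
    rw [hg]
    simp only [P.el_zero]
    rw [P.sum_K hclean hs (one_mem V), if_pos (one_mem _), hψ56]
  have hVsum : ∀ f : G → ℂ, ∑ v : V, f v = ∑ i : ZMod 9, f (P.el i) := fun f =>
    (Fintype.sum_bijective (fun i : ZMod 9 => P.iso (Multiplicative.ofAdd i))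
      (P.iso.bijective.comp Multiplicative.ofAdd.bijective) _ _ fun _ => rfl).symm
  have hnorm : ∑ i, g i * conj (g i) = 3528 := by
    have h := P.norm_eq hclean hs
    rw [hVsum fun v => (∑ k : K, F ((k : G) * v)) * conj (∑ k : K, F ((k : G) * v))] at h
    have hN : ∑ y : H, F y * conj (F y) = 32256 := by
      have h1 := classInner_self_irr hθ
      rw [Cfsg.classInner, P.card_H] at h1
      simp only [hFdef, extendByZero_coe]
      push_cast at h1
      linear_combination (32256 : ℂ) * h1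
    rw [hN, hψ56, map_ofNat] at h
    linear_combination -(1 / 512 : ℂ) * h
  have hmult : ∀ j, ∃ m : ℕ, ∑ i, g i * ep (-(j * i)) = 63 * (m : ℂ) := by
    intro j
    have hDH : D ≤ H := inf_le_left
    obtain ⟨m, hm⟩ := P.exists_inner hψ D hDH
      (IsCharacter.comp (IsIrrCharacter.isCharacter (isIrrCharacter_linear (P.mu j)))
        (Subgroup.inclusion hDH))
    refine ⟨m, ?_⟩
    let μ : G → ℂ := Cfsg.extendByZero H fun y => ((P.mu j y : ℂˣ) : ℂ)
    have hμ : ∀ k : K, ∀ i, μ ((k : G) * P.el i) = ep (j * i) := fun k i => by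
      simp only [μ]
      rw [extendByZero_mem _ _ (mul_mem (hDH (P.K_le k.2)) (helH i)), P.mu_apply,
        P.proj_eq (x := 1) (i := i) (one_mem _) k.2 (one_mul _).symm]
    rw [P.card_D] at hm
    refine Eq.trans ?_ hm
    rw [Finset.sum_congr rfl fun (d : D) _ => show _ = F d * conj (μ d) by
      simp only [μ, hFdef, extendByZero_mem _ _ (hDH d.2)]
      rfl,
      P.sum_D fun d => F d * conj (μ d), hVsum fun v => ∑ k : K, F ((k : G) * v) * conj (μ ((k : G) * v))]
    refine Finset.sum_congr rfl fun i _ => ?_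
    rw [hg, Finset.sum_mul]
    exact Finset.sum_congr rfl fun k _ => by rw [hμ, conj_ep]
  choose nn hnn using hmult
  have hn8 : ∑ j, nn j = 8 := by
    have h : ((63 * ∑ j, nn j : ℕ) : ℂ) = ((504 : ℕ) : ℂ) := by
      push_cast
      rw [Finset.mul_sum, ← Finset.sum_congr rfl fun j _ => hnn j, Finset.sum_comm]
      simp only [← Finset.mul_sum, ← mul_neg, ep_sum, neg_eq_zero, mul_ite, mul_zero]
      rw [Finset.sum_ite_eq', if_pos (Finset.mem_univ _), hg0]
      norm_num
    have : 63 * ∑ j, nn j = 504 := by exact_mod_cast h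
    omega
  have hn2 : ∑ j, nn j * nn j = 8 := by
    have h : ((63 * 63 * ∑ j, nn j * nn j : ℕ) : ℂ) = ((31752 : ℕ) : ℂ) := by
      push_cast
      rw [Finset.mul_sum, Finset.sum_congr rfl fun j _ => show (3969 : ℂ) * ((nn j : ℂ) * nn j) =
        (∑ i, g i * ep (-(j * i))) * conj (∑ i, g i * ep (-(j * i))) by
          rw [hnn j, map_mul, map_natCast, map_ofNat]; ring]
      have hexp : ∀ j, (∑ i, g i * ep (-(j * i))) * conj (∑ i, g i * ep (-(j * i))) =
          ∑ i, ∑ l, g i * conj (g l) * ep (j * (l - i)) := by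
        intro j
        rw [map_sum, Finset.sum_mul_sum]
        refine Finset.sum_congr rfl fun i _ => Finset.sum_congr rfl fun l _ => ?_
        rw [map_mul, conj_ep, neg_neg, mul_sub, sub_eq_add_neg, AddChar.map_add_eq_mul]
        ring
      rw [Finset.sum_congr rfl fun j _ => hexp j, Finset.sum_comm,
        Finset.sum_congr rfl fun i _ => Finset.sum_comm]
      simp only [← Finset.mul_sum, ep_sum, sub_eq_zero, mul_ite, mul_zero]
      simp only [Finset.sum_ite_eq', Finset.mem_univ, if_true]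
      rw [← Finset.sum_mul, hnorm]
      norm_num
    have : 63 * 63 * ∑ j, nn j * nn j = 31752 := by exact_mod_cast h
    omega
  have hn3 : 1 ≤ nn 3 := by
    have hst := hclean.stable
    have h := P.sum_ind hst
    have h0 : ∑ y : H, F y * conj (P.lam y) = 0 := by
      have h1 : Cfsg.classInner ψ (fun y : H => P.lam y) = 0 := by
        refine classInner_irr_of_ne hθ hlamirr fun e => ?_
        have := congrFun e 1
        rw [← extendByZero_one H ψ, ← hFdef, hψ56] at this
        simp only [OneMemClass.coe_one, P.lam_Q (one_mem _)] at this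
        norm_num at this
      rw [Cfsg.classInner, mul_eq_zero] at h1
      have h1' := h1.resolve_left (inv_ne_zero (Nat.cast_ne_zero.2 Nat.card_pos.ne'))
      simpa only [hFdef, extendByZero_coe] using h1'
    have hD3 : ∑ d : D, F d * conj (P.lam d) = 63 * (nn 3 : ℂ) := by
      rw [← hnn 3, P.sum_D fun d => F d * conj (P.lam d),
        hVsum fun v => ∑ k : K, F ((k : G) * v) * conj (P.lam ((k : G) * v))]
      refine Finset.sum_congr rfl fun i _ => ?_
      rw [hg, Finset.sum_mul]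
      exact Finset.sum_congr rfl fun k _ => by rw [P.lam_el k.2, conj_ep]
    obtain ⟨m', hm'⟩ := IsCharacter.exists_classInner_nat hψ
      (IsCharacter.restrict (IsIrrCharacter.isCharacter hχ') H)
    have hψχ : Cfsg.classInner ψ (fun y : H => χ y) = 1 := by
      have e : (fun y : H => χ y) = ψ + fun y : H => P.lam y := by rw [hψdef]; simp
      rw [e, classInner_add_right, classInner_self_irr hθ]
      rw [Cfsg.classInner, Finset.sum_congr rfl fun y _ =>
        show ψ y * conj (P.lam y) = F y * conj (P.lam y) by rw [hFdef, extendByZero_coe], h0]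
      ring
    have h1 : Cfsg.classInner ψ (fun y : H => Cfsg.indFun H (fun y : H => P.lam y) y) =
        1 + (m' : ℂ) := by
      rw [hsum, ← hψχ, ← hm', ← classInner_add_right]
      rfl
    rw [h0, hD3, zero_add] at h
    rw [Cfsg.classInner, Finset.sum_congr rfl fun y _ =>
      show ψ y * conj (Cfsg.indFun H (fun y : H => P.lam y) y) =
        F y * conj (Cfsg.indFun H (fun y : H => P.lam y) y) by rw [hFdef, extendByZero_coe],
      h, P.card_H] at h1
    push_cast at h1
    have h2 : ((nn 3 : ℕ) : ℂ) = ((1 + m' : ℕ) : ℂ) := by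
      push_cast
      linear_combination h1
    have : nn 3 = 1 + m' := by exact_mod_cast h2
    omega
  have hle1 : ∀ j, nn j ≤ 1 := by
    have hpt : ∀ j ∈ (Finset.univ : Finset (ZMod 9)), nn j ≤ nn j * nn j := fun j _ => Nat.le_mul_self _
    intro j
    have := (Finset.sum_eq_sum_iff_of_le hpt).1 (hn8.trans hn2.symm) j (Finset.mem_univ _)
    by_contra hj
    push Not at hj
    have := Nat.mul_le_mul_right (nn j) hj
    omega
  obtain ⟨j₀, hj₀⟩ : ∃ j₀, nn j₀ = 0 := by
    by_contra hall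
    push Not at hall
    rw [Finset.sum_congr rfl fun j _ =>
      show nn j = 1 from le_antisymm (hle1 j) (Nat.one_le_iff_ne_zero.2 (hall j))] at hn8
    simp [ZMod.card] at hn8
  have hnf : ∀ j, nn j = if j = j₀ then 0 else 1 := by
    intro j
    split_ifs with hj
    · rw [hj, hj₀]
    rw [← Finset.add_sum_erase _ _ (Finset.mem_univ j₀), hj₀, zero_add] at hn8
    exact (Finset.sum_eq_sum_iff_of_le (s := Finset.univ.erase j₀) (g := fun _ => 1)
      fun l _ => hle1 l).1 (by simpa [ZMod.card] using hn8) j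
      (Finset.mem_erase.2 ⟨hj, Finset.mem_univ _⟩)
  have hj3 : j₀ ≠ 3 := fun e => by rw [e] at hj₀; omega
  -- the eigenvalues
  set m : ZMod 9 → ℕ := fun j => nn j + 2 * (nn j + nn (j + 3) + nn (j + 6)) +
    (if j = 3 then 1 else 0) with hm
  refine P.of_det ρ m (fun j => ?_) ?_
  swap
  · rw [hm]
    simp only [hnf]
    exact pocket_exponent j₀ hj3
  have hFel : ∀ i, F (P.el i) = g i / 7 + 6 / 7 * (if 3 * i = 0 then g i else 0) := by
    intro i
    rw [hg]
    simp only [P.sum_K hclean hs (P.el_mem i), P.el_mem_w]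
    split_ifs <;> ring
  have hS : ∑ i, (if 3 * i = 0 then g i else 0) * ep (-(j * i)) =
      21 * ((nn j : ℂ) + nn (j + 3) + nn (j + 6)) := by
    have h3 : ∑ i, g i * ep (-(j * i)) + ∑ i, g i * ep (-((j + 3) * i)) +
        ∑ i, g i * ep (-((j + 6) * i)) =
        3 * ∑ i, (if 3 * i = 0 then g i else 0) * ep (-(j * i)) := by
      rw [← Finset.sum_add_distrib, ← Finset.sum_add_distrib, Finset.mul_sum]
      refine Finset.sum_congr rfl fun i _ => ?_
      have h := ep_cube_sum i
      simp only [AddChar.map_zero_eq_one] at h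
      simp only [add_mul, neg_add, AddChar.map_add_eq_mul]
      split_ifs at h ⊢ with h3
      · linear_combination g i * ep (-(j * i)) * h
      · linear_combination g i * ep (-(j * i)) * h
    rw [hnn, hnn, hnn] at h3
    linear_combination -(1 / 3 : ℂ) * h3
  have hχe : ∀ i, χ (P.el i) = F (P.el i) + ep (3 * i) := fun i => by
    rw [hF _ (helH i), hlam0]; ring
  have h9 : ∑ i, ep (3 * i) * ep (-(j * i)) = if j = 3 then 9 else 0 := by
    simp only [← AddChar.map_add_eq_mul, ← sub_eq_add_neg, ← sub_mul]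
    rw [Finset.sum_congr rfl fun i _ => by rw [mul_comm], ep_sum]
    by_cases hj : j = 3
    · rw [if_pos hj, if_pos (by rw [hj, sub_self])]
    · rw [if_neg hj, if_neg (sub_ne_zero.2 (Ne.symm hj))]
  simp only [hρ, hχe, hFel, add_mul, Finset.sum_add_distrib, h9, div_mul_eq_mul_div, mul_assoc,
    ← Finset.mul_sum, ← Finset.sum_div, hnn, hS, hm]
  split_ifs <;> push_cast <;> ring

end Pocket

section Main

variable {G : Type u} {Ω : Type v} [Group G] [MulAction G Ω] {a : Ω} {t : G} {Q : Subgroup G}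
variable [Finite G] [FaithfulSMul G Ω]

/-- The case `q = 8`, `|W| = 3`, `|V| = 9` has a proper normal subgroup containing `Q`. -/
theorem pocket_normal (P : Pocket a t Q) : ∃ N : Subgroup G, N.Normal ∧ N ≠ ⊤ ∧ Q ≤ N := by
  haveI : Fintype G := Fintype.ofFinite G
  obtain ⟨s, hs⟩ := P.exists_base
  set lamH : stabilizer G a → ℂ := fun y => P.lam y with hlamH
  have hlirr : Cfsg.IsIrrCharacter (stabilizer G a) lamH := by
    rw [show lamH = fun y => ((P.mu 3 y : ℂˣ) : ℂ) from funext fun y => extendByZero_coe _ _ y]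
    exact isIrrCharacter_linear _
  set Φ := Cfsg.indFun (stabilizer G a) lamH with hΦ
  have hΦch : Cfsg.IsCharacter G Φ := isCharacter_indFun _ (IsIrrCharacter.isCharacter hlirr)
  have hres : Cfsg.classInner lamH (fun y : stabilizer G a => Φ y) = 2 := by
    have h := P.sum_ind (f := P.lam) fun g hg x _ => P.lam_conj hg x
    rw [Finset.sum_congr rfl fun (y : stabilizer G a) _ => P.lam_mul_conj y.2,
      Finset.sum_congr rfl fun (d : twoStab a t) _ => P.lam_mul_conj (Subgroup.mem_inf.1 d.2).1] at h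
    simp only [Finset.sum_const, Finset.card_univ, ← Nat.card_eq_fintype_card, P.card_H, P.card_D,
      nsmul_eq_mul, mul_one] at h
    rw [Cfsg.classInner, P.card_H,
      show ∑ y : stabilizer G a, lamH y * starRingEnd ℂ (Φ y) = _ from h]
    norm_num
  obtain ⟨χ₁, χ₂, h₁, h₂, hne, hsum⟩ := Zass.split_two hΦch
    (by rw [hΦ, classInner_indFun_left _ _ (IsCharacter.isClassFunction hΦch)]; exact hres)
  have hrec : ∀ χ χ' : G → ℂ, Cfsg.IsIrrCharacter G χ → Cfsg.IsIrrCharacter G χ' → χ ≠ χ' →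
      Φ = χ + χ' → Cfsg.classInner (fun y : stabilizer G a => χ y) lamH = 1 := by
    intro χ χ' h h' hne hsum
    rw [← classInner_indFun_right (stabilizer G a) lamH
      (IsCharacter.isClassFunction (IsIrrCharacter.isCharacter h)), ← hΦ, hsum, classInner_add_right,
      classInner_self_irr h, classInner_irr_of_ne h h' hne, add_zero]
  have hl₁ := hrec χ₁ χ₂ h₁ h₂ hne hsum
  have hl₂ := hrec χ₂ χ₁ h₂ h₁ hne.symm (by rw [hsum, add_comm])
  have hfacts : ∀ χ : G → ℂ, Cfsg.IsIrrCharacter G χ →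
      Cfsg.classInner (fun y : stabilizer G a => χ y) lamH = 1 →
      ∃ c e r m : ℕ, χ 1 = ((c + 7 * e : ℕ) : ℂ) ∧ c = r + 63 * m ∧ 1 ≤ r ∧
        ∑ z : P.Z, χ z = 8 * (c : ℂ) ∧ ∑ x : Q, χ x = 512 * (r : ℂ) := by
    intro χ h hl
    have hθ := IsCharacter.restrict (IsIrrCharacter.isCharacter h) (stabilizer G a)
    obtain ⟨c, e, r, m, hd, hc, hZ, hQ⟩ := P.degree_facts hs hθ
    obtain ⟨-, -, r', -, -, -, -, hQ'⟩ := P.degree_facts hs
      (sub_constituent hθ hlirr (by rw [hl]; exact one_ne_zero))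
    rw [Finset.sum_congr rfl fun (z : P.Z) _ =>
      extendByZero_mem _ _ (P.setup.le (P.Z_le z.2))] at hZ
    rw [Finset.sum_congr rfl fun (x : Q) _ => extendByZero_mem _ _ (P.setup.le x.2)] at hQ hQ'
    simp only [Pi.sub_apply, Finset.sum_sub_distrib] at hQ'
    rw [show ∑ x : Q, lamH ⟨x, P.setup.le x.2⟩ = 512 by
      rw [Finset.sum_congr rfl fun (x : Q) _ => show lamH ⟨x, _⟩ = 1 from P.lam_Q x.2, Finset.sum_const,
        Finset.card_univ, ← Nat.card_eq_fintype_card, P.card_Q]
      norm_num, hQ] at hQ'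
    have h' : (r : ℂ) = ((r' + 1 : ℕ) : ℂ) := by
      push_cast
      linear_combination (1 / 512 : ℂ) * hQ'
    have hr : r = r' + 1 := by exact_mod_cast h'
    rw [extendByZero_one] at hd
    exact ⟨c, e, r, m, hd, hc, by omega, hZ, hQ⟩
  obtain ⟨c₁, e₁, r₁, m₁, hd₁, hc₁, hr₁, hZ₁, hQ₁⟩ := hfacts χ₁ h₁ hl₁
  obtain ⟨c₂, e₂, r₂, m₂, hd₂, hc₂, hr₂, hZ₂, hQ₂⟩ := hfacts χ₂ h₂ hl₂
  have hr : r₁ + r₂ = 2 := by
    have hQH : Q ≤ stabilizer G a := P.setup.le
    have hst : Pocket.IsStable a fun x : G => if x ∈ Q then (1 : ℂ) else 0 := by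
      intro g hg x _
      have hiff : g * x * g⁻¹ ∈ Q ↔ x ∈ Q := ⟨fun h => by
        simpa [mul_assoc] using P.setup.conj_mem g⁻¹ (inv_mem hg) _ h, P.setup.conj_mem g hg x⟩
      simp only [hiff]
    have h := P.sum_ind hst
    simp only [ite_mul, one_mul, zero_mul] at h
    rw [P.sum_inclusion Q hQH fun y => starRingEnd ℂ (Cfsg.indFun (stabilizer G a) lamH y),
      P.sum_inclusion Q hQH fun y => starRingEnd ℂ (P.lam y),
      Fintype.sum_eq_single (1 : twoStab a t) fun d hd => if_neg fun hdQ => hd (Subtype.ext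
        (Subgroup.mem_bot.1 (P.setup.inf_eq_bot ▸
          Subgroup.mem_inf.2 ⟨hdQ, (Subgroup.mem_inf.1 d.2).2⟩))),
      OneMemClass.coe_one, if_pos (one_mem Q), P.lam_Q (one_mem Q),
      Finset.sum_congr rfl fun (x : Q) _ => show starRingEnd ℂ (P.lam x) = 1 by
        rw [P.lam_Q x.2, map_one],
      Finset.sum_const, Finset.card_univ, ← Nat.card_eq_fintype_card, P.card_Q, map_one, ← map_sum,
      ← hΦ, hsum] at h
    simp only [Pi.add_apply, Finset.sum_add_distrib, hQ₁, hQ₂, map_add, map_mul, map_natCast,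
      map_ofNat, nsmul_eq_mul, mul_one] at h
    push_cast at h
    have h' : ((r₁ + r₂ : ℕ) : ℂ) = ((2 : ℕ) : ℂ) := by
      push_cast
      linear_combination (1 / 512 : ℂ) * h
    exact_mod_cast h'
  have hdsum : c₁ + 7 * e₁ + (c₂ + 7 * e₂) = 513 := by
    have h := congrFun hsum 1
    rw [hΦ, indFun_one_apply, show lamH 1 = 1 from P.lam_Q (one_mem Q), mul_one, Pi.add_apply, hd₁,
      hd₂] at h
    haveI := pretransitive P.setup
    rw [MulAction.index_stabilizer_of_transitive, card_points P.setup, P.card_Q] at h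
    exact_mod_cast h.symm
  have hdvd : ∀ χ : G → ℂ, ∀ d : ℕ, Cfsg.IsIrrCharacter G χ → χ 1 = (d : ℂ) → d ∣ 16547328 := by
    intro χ d h hd
    have := degree_dvd_card h hd
    rwa [P.card_G] at this
  rcases pocket_degrees (c₁ + 7 * e₁) (Finset.mem_range.2 (by omega)) (by omega) (hdvd χ₁ _ h₁ hd₁)
    ((show 513 - (c₁ + 7 * e₁) = c₂ + 7 * e₂ by omega) ▸ hdvd χ₂ _ h₂ hd₂) with h | h | h | h
  · exact P.of_small hs h₁ h₂ hsum hl₁ (Or.inl (by rw [hd₁, h, Nat.cast_one]))
  · refine P.of_small hs h₁ h₂ hsum hl₁ (Or.inr ⟨by rw [hd₁, h]; norm_num, ?_⟩)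
    rw [hZ₁, show c₁ = 1 by omega]; norm_num
  · refine P.of_small hs h₂ h₁ (hsum.trans (add_comm _ _)) hl₂ (Or.inr ⟨?_, ?_⟩)
    · rw [hd₂, show c₂ + 7 * e₂ = 57 by omega]; norm_num
    · rw [hZ₂, show c₂ = 1 by omega]; norm_num
  · exact P.of_small hs h₂ h₁ (hsum.trans (add_comm _ _)) hl₂
      (Or.inl (by rw [hd₂, show c₂ + 7 * e₂ = 1 by omega, Nat.cast_one]))

/-- The case `q = 8`, `|W| = 3`, `V` cyclic of order nine. -/
theorem exists_normal_of_pocket (hS : Cfsg.IsRankOneSetup G Ω a t Q)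
    (h2 : ∃ x y : G, x ≠ 1 ∧ y ≠ 1 ∧ x ≠ y ∧ x * x = 1 ∧ y * y = 1 ∧ x * y = y * x)
    (hC : IsCube a t Q) (hq : qSize a t = 8) (hW : Nat.card (wSub a t) = 3)
    (hVc : IsCyclic (twoStab a t ⊓ Subgroup.centralizer {t} : Subgroup G))
    (hV : Nat.card (twoStab a t ⊓ Subgroup.centralizer {t} : Subgroup G) = 9) :
    ∃ N : Subgroup G, N.Normal ∧ N ≠ ⊤ ∧ Q ≤ N :=
  pocket_normal ⟨hS, h2, hC, hq, hW, hVc, hV⟩

end Main

end Cfsg.Agent.RankOne
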