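import Cfsg.Agent.Lib.RankOneW.Basic

/-!
# The centraliser of a nontrivial element of `W`

It acts transitively on its `q + 1` fixed points and meets `G_a` in `Z C_D(w)`.
-/

set_option autoImplicit false
set_option linter.unusedSectionVars false

namespace Cfsg.Agent.RankOne

open MulAction

variable {G Ω : Type*} [Group G] [MulAction G Ω] [Finite G] [FaithfulSMul G Ω]
  {a : Ω} {t : G} {Q : Subgroup G} (hS : Cfsg.IsRankOneSetup G Ω a t Q)
  (h2 : ∃ x y : G, x ≠ 1 ∧ y ≠ 1 ∧ x ≠ y ∧ x * x = 1 ∧ y * y = 1 ∧ x * y = y * x)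
  (hC : IsCube a t Q)
include hS h2 hC

theorem card_cent_wSub_dvd {w : G} (hw : w ∈ wSub a t) (hw1 : w ≠ 1) :
    Nat.card (Subgroup.centralizer ({w} : Set G)) ∣
      (qSize a t + 1) * (qSize a t * Nat.card (twoStab a t)) := by
  classical
  haveI := finite_points hS
  obtain ⟨hwD, hwZ⟩ := (mem_wSub hS h2).1 hw
  obtain ⟨hwa, hwb⟩ := mem_twoStab hS hwD
  set C := Subgroup.centralizer ({w} : Set G) with hCdef
  have hq : qSize a t = Nat.card (invSub hS h2) := qSize_eq hS h2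
  have memC : ∀ {g : G}, g ∈ C ↔ g * w = w * g := fun {g} => Subgroup.mem_centralizer_singleton_iff
  have hzfix : ∀ z ∈ invSub hS h2, w • (z • (t • a)) = z • (t • a) := fun z hz => by
    rw [← mul_smul, hwZ z hz, mul_smul, hwb]
  have hcentQ : ∀ p ∈ Q, p * w = w * p → p ∈ invSub hS h2 := fun p hp e =>
    cent_wSub hS h2 hC hw hw1 hp e.symm
  -- the fixed points
  let f : invSub hS h2 → Ω := fun z => (z : G) • (t • a)
  have hf : Function.Injective f := by
    intro z z' e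
    have h1 : ((z' : G)⁻¹ * z) • (t • a) = t • a := by
      rw [mul_smul]; exact inv_smul_eq_iff.2 e
    by_contra hne
    refine ta_ne hS (eq_a_of_fixed hS ?_ ?_ h1)
    · exact mul_mem (inv_mem (invSub_le_Q hS h2 z'.2)) (invSub_le_Q hS h2 z.2)
    · exact fun h => hne (Subtype.ext (inv_mul_eq_one.1 h).symm)
  have hfa : a ∉ Set.range f := by
    rintro ⟨z, hz⟩
    exact ta_ne hS (MulAction.injective (z : G) (hz.trans (smul_a hS (invSub_le_Q hS h2 z.2)).symm))
  have hfix : ∀ p : Ω, w • p = p ↔ p ∈ insert a (Set.range f) := by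
    intro p
    constructor
    · intro hp
      by_cases hpa : p = a
      · exact Or.inl hpa
      obtain ⟨q, hq, rfl⟩ := exists_centralizing_q hS (X := ({w} : Set G))
        (Set.singleton_subset_iff.2 hwD) hpa (fun x hx => by rw [Set.mem_singleton_iff.1 hx]; exact hp)
      obtain ⟨hqc, hqQ⟩ := Subgroup.mem_inf.1 hq
      exact Or.inr ⟨⟨q, hcentQ q hqQ (memC.1 hqc)⟩, rfl⟩
    · rintro (rfl | ⟨z, rfl⟩)
      exacts [hwa, hzfix z z.2]
  obtain ⟨z₀, hz₀, hz₀1⟩ : ∃ z ∈ invSub hS h2, z ≠ 1 := by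
    by_contra hcon
    push Not at hcon
    have : invSub hS h2 = ⊥ := (Subgroup.eq_bot_iff_forall _).2 hcon
    have h4 := four_le hS h2
    rw [this, Subgroup.card_bot] at h4
    omega
  have horb : orbit C a = insert a (Set.range f) := by
    ext p
    rw [← hfix]
    constructor
    · rintro ⟨g, rfl⟩
      show w • ((g : G) • a) = (g : G) • a
      rw [← mul_smul, ← memC.1 g.2, mul_smul, hwa]
    · intro hp
      by_cases hpa : p = a
      · subst hpa; exact mem_orbit_self p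
      obtain ⟨g, hg, hga, -⟩ := centralizer_two_transitive hS (X := ({w} : Set G))
        (Set.singleton_subset_iff.2 hwD)
        (fix_three_of_centralized hS hwD (invSub_le_Q hS h2 hz₀) hz₀1 (hwZ z₀ hz₀))
        (b₁ := a) (b₂ := t • a) (c₁ := p) (c₂ := a)
        (fun x hx => by rw [Set.mem_singleton_iff.1 hx]; exact ⟨hwa, hwb, hp, hwa⟩)
        (ta_ne hS).symm hpa
      exact ⟨⟨g, hg⟩, hga⟩
  have hcard : (orbit C a).ncard = qSize a t + 1 := by
    rw [horb, Set.ncard_insert_of_notMem hfa, Set.ncard_range_of_injective hf, ← hq]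
  have hst : Nat.card (stabilizer C a) = qSize a t * Nat.card ↥(C ⊓ twoStab a t) := by
    rw [hq, ← Nat.card_prod]
    refine (Nat.card_eq_of_bijective (fun p : invSub hS h2 × ↥(C ⊓ twoStab a t) =>
      (⟨⟨(p.1 : G) * (p.2 : G), mul_mem (memC.2 (hwZ p.1 p.1.2).symm) (Subgroup.mem_inf.1 p.2.2).1⟩, by
        show ((p.1 : G) * (p.2 : G)) • a = a
        rw [mul_smul, (mem_twoStab hS (Subgroup.mem_inf.1 p.2.2).2).1,
          smul_a hS (invSub_le_Q hS h2 p.1.2)]⟩ : stabilizer C a)) ⟨fun p p' e => ?_, fun g => ?_⟩).symm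
    · obtain ⟨e1, e2⟩ := qd_unique hS (invSub_le_Q hS h2 p.1.2) (invSub_le_Q hS h2 p'.1.2)
        (Subgroup.mem_inf.1 p.2.2).2 (Subgroup.mem_inf.1 p'.2.2).2
        (congrArg (fun x : stabilizer C a => ((x : C) : G)) e)
      exact Prod.ext (Subtype.ext e1) (Subtype.ext e2)
    · obtain ⟨q, hqQ, d, hd, hqd⟩ := exists_qd hS (g := ((g : C) : G)) g.2
      have hgw : w * ((g : C) : G) * w⁻¹ = (g : C) := by
        rw [← memC.1 (g : C).2, mul_inv_cancel_right]
      obtain ⟨e1, e2⟩ := qd_unique hS (hS.conj_mem w hwa q hqQ) hqQ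
        (mul_mem (mul_mem hwD hd) (inv_mem hwD)) hd (by rw [conj_mul, ← hqd, hgw])
      exact ⟨(⟨q, hcentQ q hqQ (mul_inv_eq_iff_eq_mul.1 e1).symm⟩,
        ⟨d, Subgroup.mem_inf.2 ⟨memC.2 (mul_inv_eq_iff_eq_mul.1 e2).symm, hd⟩⟩),
        Subtype.ext (Subtype.ext hqd.symm)⟩
  rw [← Subgroup.card_mul_index (stabilizer C a), index_stabilizer, hcard, hst, mul_comm]
  exact Nat.mul_dvd_mul_left _ (Nat.mul_dvd_mul_left _ (Subgroup.card_dvd_of_le inf_le_right))

end Cfsg.Agent.RankOne
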