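import Cfsg.Agent.Lib.RankOneW.TorusThree
import Cfsg.Agent.Lib.RankOneW.TorusCent

/-!
# The intersection of a torus with its mate has order at most three

Otherwise it contains an element `e` of order nine, central in the centraliser `X` of `e ^ 3`, and the
elements of `X` of order not divisible by nine generate a proper normal subgroup, against the
character argument. Consequently `|W| = (q + 1) / d` with `d` a divisor of `gcd 3 (q + 1)`.
-/

set_option autoImplicit false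
set_option linter.unusedSectionVars false

namespace Cfsg.Agent.RankOne

open MulAction
open scoped Pointwise

variable {G : Type*} [Group G]

/-- The product of two commutative subgroups centralising each other. -/
theorem mem_sup_comm {T W : Subgroup G} (hc : ∀ τ ∈ T, ∀ w ∈ W, τ * w = w * τ) {x : G}
    (hx : x ∈ T ⊔ W) : ∃ τ ∈ T, ∃ w ∈ W, x = τ * w := by
  have hn : W ≤ Subgroup.normalizer (T : Set G) := fun w hw => Subgroup.mem_normalizer_iff.2 fun τ => by
    constructor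
    · intro hτ
      rwa [← hc τ hτ w hw, mul_inv_cancel_right]
    · intro hτ
      have h1 := hc _ hτ w⁻¹ (inv_mem hw)
      have : τ = w * τ * w⁻¹ := by
        calc τ = w⁻¹ * (w * τ * w⁻¹) * w := by group
          _ = (w * τ * w⁻¹) * w⁻¹ * w := by rw [← h1]
          _ = w * τ * w⁻¹ := by group
      exact this ▸ hτ
  have hx' : x ∈ (↑(T ⊔ W) : Set G) := hx
  rw [Subgroup.coe_mul_of_right_le_normalizer_left T W hn, Set.mem_mul] at hx'
  obtain ⟨τ, hτ, w, hw, rfl⟩ := hx'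
  exact ⟨τ, hτ, w, hw, rfl⟩

/-- Exponents: dividing `n` with no factor nine means dividing three times the part prime to three. -/
theorem dvd_three_mul_ordCompl {o n : ℕ} (hn : n ≠ 0) (ho : o ∣ n) (h9 : ¬ 9 ∣ o) :
    o ∣ 3 * (n / 3 ^ n.factorization 3) := by
  have ho0 : o ≠ 0 := fun e => hn (Nat.eq_zero_of_zero_dvd (e ▸ ho))
  rw [← Nat.ordProj_mul_ordCompl_eq_self o 3]
  refine Nat.mul_dvd_mul ?_ (Nat.ordCompl_dvd_ordCompl_of_dvd ho 3)
  have h1 : o.factorization 3 ≤ 1 := by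
    by_contra hlt
    exact h9 ((show 9 = 3 ^ 2 by norm_num) ▸
      (Nat.Prime.pow_dvd_iff_le_factorization Nat.prime_three ho0).2 (by omega))
  exact (pow_dvd_pow 3 h1).trans (by rw [pow_one])

variable {Ω : Type*} [MulAction G Ω] [Finite G] [FaithfulSMul G Ω] {a : Ω} {t : G}
  {Q T R : Subgroup G} {i : G}
variable (hS : Cfsg.IsRankOneSetup G Ω a t Q)
  (h2 : ∃ x y : G, x ≠ 1 ∧ y ≠ 1 ∧ x ≠ y ∧ x * x = 1 ∧ y * y = 1 ∧ x * y = y * x)
  (h : TorusSys a t Q T R i)
include hS h2 h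

theorem TorusSys.card_sup : Nat.card (T ⊔ wSub a t : Subgroup G) =
    (qSize a t + 1) * Nat.card (wSub a t) := by
  rw [← h.card_t, ← Nat.card_prod]
  refine (Nat.card_eq_of_bijective (fun p : T × wSub a t => (⟨(p.1 : G) * (p.2 : G),
    mul_mem (Subgroup.mem_sup_left p.1.2) (Subgroup.mem_sup_right p.2.2)⟩ :
      (T ⊔ wSub a t : Subgroup G))) ⟨fun p p' e => ?_, fun x => ?_⟩).symm
  · have e' : (p.1 : G) * p.2 = p'.1 * p'.2 := congrArg Subtype.val e
    have h1 : (p'.1 : G)⁻¹ * p.1 = p'.2 * (p.2 : G)⁻¹ := by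
      calc (p'.1 : G)⁻¹ * p.1 = (p'.1 : G)⁻¹ * (p.1 * p.2) * (p.2 : G)⁻¹ := by group
        _ = (p'.1 : G)⁻¹ * (p'.1 * p'.2) * (p.2 : G)⁻¹ := by rw [e']
        _ = p'.2 * (p.2 : G)⁻¹ := by group
    have h3 : (p'.1 : G)⁻¹ * p.1 ∈ T ⊓ wSub a t :=
      Subgroup.mem_inf.2 ⟨T.mul_mem (T.inv_mem p'.1.2) p.1.2,
        h1 ▸ (wSub a t).mul_mem p'.2.2 ((wSub a t).inv_mem p.2.2)⟩
    rw [h.disjoint, Subgroup.mem_bot] at h3
    rw [h3] at h1
    exact Prod.ext (Subtype.ext (inv_mul_eq_one.1 h3).symm)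
      (Subtype.ext (mul_inv_eq_one.1 h1.symm).symm)
  · obtain ⟨τ, hτ, w, hw, e⟩ := mem_sup_comm h.t_comm_w x.2
    exact ⟨(⟨τ, hτ⟩, ⟨w, hw⟩), Subtype.ext e.symm⟩

/-- The intersection with the mate has no element of order nine. -/
theorem TorusSys.nine_not_dvd : ¬ 9 ∣ Nat.card R := by
  classical
  intro h9R
  haveI hTc : IsCyclic T := h.t_cyclic
  haveI hWc : IsCyclic (wSub a t : Subgroup G) := h.w_cyclic
  haveI : Fact (Nat.Prime 3) := ⟨Nat.prime_three⟩
  have hTcomm : ∀ x ∈ T, ∀ y ∈ T, x * y = y * x := fun x hx y hy =>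
    congrArg Subtype.val (IsMulCommutative.is_comm.comm (⟨x, hx⟩ : T) ⟨y, hy⟩)
  have hWcomm : ∀ x ∈ wSub a t, ∀ y ∈ wSub a t, x * y = y * x := fun x hx y hy =>
    congrArg Subtype.val (IsMulCommutative.is_comm.comm (⟨x, hx⟩ : wSub a t) ⟨y, hy⟩)
  obtain ⟨e, heR, heo⟩ : ∃ e ∈ R, orderOf e = 9 := by
    haveI : IsCyclic R :=
      isCyclic_of_injective (Subgroup.inclusion h.r_le) (Subgroup.inclusion_injective h.r_le)
    obtain ⟨g, hg⟩ := IsCyclic.exists_generator (α := R)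
    have hgo : orderOf (g : G) = Nat.card R := by
      rw [Subgroup.orderOf_coe]
      exact orderOf_eq_card_of_forall_mem_zpowers hg
    exact ⟨(g : G) ^ (orderOf (g : G) / 9), pow_mem g.2 _,
      orderOf_pow_orderOf_div (orderOf_pos _).ne' (hgo ▸ h9R)⟩
  have heT := h.r_le heR
  set m := Nat.card (wSub a t) with hm
  have h9m : ¬ 9 ∣ m := fun hd => by
    have h3 := orderOf_dvd_of_pow_eq_one (h.r_small e heR (orderOf_dvd_iff_pow_eq_one.1 (heo ▸ hd)))
    rw [heo] at h3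
    omega
  set c := e ^ 3 with hcdef
  have hc3 : orderOf c = 3 := by
    rw [hcdef, orderOf_pow_of_dvd (by norm_num) (by rw [heo]; norm_num), heo]
  have hcT : c ∈ T := pow_mem heT 3
  have hc1 : c ≠ 1 := fun e0 => by rw [e0, orderOf_one] at hc3; omega
  set X := Subgroup.centralizer ({c} : Set G) with hXdef
  have hodd : Odd (Nat.card X) := h.odd_centralizer hS h2 hcT hc1
  set A := T ⊔ wSub a t with hA
  have memA : ∀ {x : G}, x ∈ A → ∃ τ ∈ T, ∃ w ∈ wSub a t, x = τ * w := fun {x} hx =>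
    mem_sup_comm h.t_comm_w hx
  have hAcomm : ∀ x ∈ A, ∀ y ∈ A, Commute x y := by
    intro x hx y hy
    obtain ⟨τ, hτ, w, hw, rfl⟩ := memA hx
    obtain ⟨σ, hσ, v, hv, rfl⟩ := memA hy
    exact Commute.mul_left (Commute.mul_right (hTcomm τ hτ σ hσ) (h.t_comm_w τ hτ v hv))
      (Commute.mul_right (h.t_comm_w σ hσ w hw).symm (hWcomm w hw v hv))
  have hAX : A ≤ X := fun x hx =>
    Subgroup.mem_centralizer_singleton_iff.2 (hAcomm x hx c (Subgroup.mem_sup_left hcT))
  set AX := A.subgroupOf X with hAXdef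
  have hcardAX : Nat.card AX = (qSize a t + 1) * m := by
    rw [hAXdef, Nat.card_congr (Subgroup.subgroupOfEquivOfLe hAX).toEquiv, h.card_sup hS h2]
  have hidx : AX.index ∣ 3 := by
    have hd := h.centralizer_dvd hS h2 hcT hc3
    rw [← Subgroup.card_mul_index AX, ← hcardAX, mul_comm 3] at hd
    exact Nat.dvd_of_mul_dvd_mul_left Nat.card_pos hd
  haveI hAXn : AX.Normal := by
    rcases (Nat.dvd_prime Nat.prime_three).1 hidx with e1 | e1
    · rw [Subgroup.index_eq_one.1 e1]; infer_instance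
    · have h3 : 3 ∣ Nat.card X := e1 ▸ Subgroup.index_dvd_card AX
      have hne : Nat.card X ≠ 1 := fun e0 => by rw [e0] at h3; omega
      refine Subgroup.normal_of_index_eq_minFac_card (e1.trans ?_)
      have h5 := Nat.minFac_prime hne
      have h6 := Nat.minFac_le_of_dvd (by norm_num) h3
      have h7 : Nat.minFac (Nat.card X) ≠ 2 := fun e2 =>
        Nat.not_even_iff_odd.2 hodd (even_iff_two_dvd.2 (e2 ▸ Nat.minFac_dvd _))
      have := h5.two_le
      omega
  have hconjA : ∀ g ∈ X, ∀ x ∈ A, g * x * g⁻¹ ∈ A := fun g hg x hx =>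
    hAXn.conj_mem ⟨x, hAX hx⟩ hx ⟨g, hg⟩
  have hcubeA : ∀ x ∈ X, x ^ 3 ∈ A := by
    intro x hx
    have h1 : ((QuotientGroup.mk (⟨x, hx⟩ : X)) : X ⧸ AX) ^ 3 = 1 :=
      orderOf_dvd_iff_pow_eq_one.1 ((orderOf_dvd_natCard _).trans hidx)
    rw [← QuotientGroup.mk_pow, QuotientGroup.eq_one_iff] at h1
    exact h1
  have hoddX : ∀ {x : G}, x ∈ X → Odd (orderOf x) := fun {x} hx =>
    hodd.of_dvd_nat (Subgroup.orderOf_dvd_natCard X hx)
  -- `X` centralises `R`
  have hXR : ∀ g ∈ X, ∀ r ∈ R, g * r * g⁻¹ = r := by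
    intro g hg r hr
    by_cases hr1 : r = 1
    · simp [hr1]
    rcases h.fusion r (h.r_le hr) hr1 g (h.r_le (h.r_perm g (hconjA g hg) r hr)) with h1 | h1
    · exact h1
    · exact absurd (eq_one_of_inverted (hoddX hg) (h.odd_order_t hS h2 (h.r_le hr)) h1) hr1
  -- exponents
  have hT3 : ∀ τ ∈ T, τ ^ 3 = 1 → τ ∈ Subgroup.zpowers c := fun τ hτ e0 =>
    mem_zpowers_of_cyclic hTc hτ hcT (hc3 ▸ orderOf_dvd_of_pow_eq_one e0)
  have hT9 : ∀ τ ∈ T, τ ^ 9 = 1 → τ ∈ R := fun τ hτ e0 =>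
    (Subgroup.zpowers_le.2 heR) (mem_zpowers_of_cyclic hTc hτ heT (heo ▸ orderOf_dvd_of_pow_eq_one e0))
  have hW9 : ∀ w ∈ wSub a t, w ^ 9 = 1 → w ^ 3 = 1 := by
    intro w hw e0
    obtain ⟨j, hj, ho⟩ := (Nat.dvd_prime_pow Nat.prime_three).1
      (show orderOf w ∣ 3 ^ 2 by norm_num; exact orderOf_dvd_of_pow_eq_one e0)
    refine orderOf_dvd_iff_pow_eq_one.1 (ho ▸ ?_)
    by_cases hj2 : j = 2
    · subst hj2
      exact absurd (show 9 ∣ m by
        have := Subgroup.orderOf_dvd_natCard _ hw; rw [ho] at this; simpa using this) h9m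
    · exact (pow_dvd_pow 3 (show j ≤ 1 by omega)).trans (by rw [pow_one])
  have hsplit : ∀ {τ w : G}, τ ∈ T → w ∈ wSub a t → ∀ n : ℕ, (τ * w) ^ n = 1 → τ ^ n = 1 ∧ w ^ n = 1 := by
    intro τ w hτ hw n e0
    rw [(show Commute τ w from h.t_comm_w τ hτ w hw).mul_pow] at e0
    have h1 : τ ^ n ∈ T ⊓ wSub a t :=
      Subgroup.mem_inf.2 ⟨T.pow_mem hτ n,
        (eq_inv_of_mul_eq_one_left e0) ▸ (wSub a t).inv_mem ((wSub a t).pow_mem hw n)⟩
    rw [h.disjoint, Subgroup.mem_bot] at h1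
    exact ⟨h1, by rw [h1, one_mul] at e0; exact e0⟩
  -- the small elements
  set M' := Nat.card G / 3 ^ (Nat.card G).factorization 3 with hM'
  set M := 3 * M' with hM
  have hM'3 : ¬ 3 ∣ M' := Nat.not_dvd_ordCompl Nat.prime_three Nat.card_pos.ne'
  have h9M : ¬ 9 ∣ M := by omega
  have small : ∀ {x : G}, ¬ 9 ∣ orderOf x → x ^ M = 1 := fun {x} hx => orderOf_dvd_iff_pow_eq_one.1
    (dvd_three_mul_ordCompl Nat.card_pos.ne' (orderOf_dvd_natCard x) hx)
  let OA : Subgroup G :=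
    { carrier := {x | x ∈ A ∧ x ^ M = 1}
      one_mem' := ⟨one_mem _, one_pow _⟩
      mul_mem' := fun {x y} hx hy =>
        ⟨mul_mem hx.1 hy.1, by rw [(hAcomm x hx.1 y hy.1).mul_pow, hx.2, hy.2, one_mul]⟩
      inv_mem' := fun {x} hx => ⟨inv_mem hx.1, by rw [inv_pow, hx.2, inv_one]⟩ }
  have hOAn : ∀ g ∈ X, ∀ x ∈ OA, g * x * g⁻¹ ∈ OA := fun g hg x hx =>
    ⟨hconjA g hg x hx.1, by rw [conj_pow, hx.2, mul_one, mul_inv_cancel]⟩
  -- elements of order three outside `A` in one coset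
  have key : ∀ y ∈ A, ∀ r ∈ X, r ^ 3 = 1 → (y * r) ^ 3 = 1 → y ^ M = 1 := by
    intro y hy r hr hr3 hyr
    by_contra hyM
    have h9y : 9 ∣ orderOf y := by_contra fun h9 => hyM (small h9)
    set α := MulAut.conj r with hα
    have hαapp : ∀ x, α x = r * x * r⁻¹ := fun x => rfl
    have hαA : ∀ x ∈ A, α x ∈ A := fun x hx => hconjA r hr x hx
    have hN : y * (α y * α (α y)) = 1 := by
      have e0 : (y * r) ^ 3 = y * (α y * α (α y)) * r ^ 3 := by
        rw [hαapp (α y), hαapp y, pow_succ, pow_two, pow_succ, pow_two]; group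
      rw [e0, hr3, mul_one] at hyr
      exact hyr
    set k := orderOf y / 9 with hk
    set v := y ^ k with hvdef
    have hvo : orderOf v = 9 := orderOf_pow_orderOf_div (orderOf_pos y).ne' h9y
    have hNv : v * (α v * α (α v)) = 1 := by
      rw [hvdef, map_pow, map_pow, ← (hAcomm _ (hαA y hy) _ (hαA _ (hαA y hy))).mul_pow,
        ← (hAcomm y hy _ (mul_mem (hαA y hy) (hαA _ (hαA y hy)))).mul_pow, hN, one_pow]
    obtain ⟨τ, hτ, w, hw, hvtw⟩ := memA (pow_mem hy k : v ∈ A)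
    have hv9 : (τ * w) ^ 9 = 1 := by rw [← hvtw, ← hvo]; exact pow_orderOf_eq_one v
    obtain ⟨hτ9, hw9⟩ := hsplit hτ hw 9 hv9
    have hw3 : w ^ 3 = 1 := hW9 w hw hw9
    have hατ : α τ = τ := hXR r hr τ (hT9 τ hτ hτ9)
    have hτA : τ ∈ A := Subgroup.mem_sup_left hτ
    have hwA : w ∈ A := Subgroup.mem_sup_right hw
    have hNw : w * (α w * α (α w)) = 1 := by
      by_cases hw1 : w = 1
      · simp [hw1]
      obtain ⟨d, hd, v', hv', hαw⟩ := memA (hαA w hwA)
      have hαw3 : (d * v') ^ 3 = 1 := by rw [← hαw, ← map_pow, hw3, map_one]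
      obtain ⟨hd3, hv3⟩ := hsplit hd hv' 3 hαw3
      have hwo : orderOf w = 3 := orderOf_eq_prime hw3 hw1
      obtain ⟨s, hs⟩ := mem_zpowers_of_cyclic hWc hv' hw (hwo ▸ orderOf_dvd_of_pow_eq_one hv3)
      obtain ⟨s', hs'⟩ := hT3 d hd hd3
      have hdR : d ∈ R := hs' ▸ zpow_mem (pow_mem heR 3) s'
      have hαd : α d = d := hXR r hr d hdR
      have hαw' : α w = d * w ^ s := by rw [hαw]; exact congrArg (d * ·) hs.symm
      have hdw : Commute d (w ^ s) := hAcomm d (Subgroup.mem_sup_left hd) _ (zpow_mem hwA s)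
      have hcdw : Commute d w := hAcomm d (Subgroup.mem_sup_left hd) w hwA
      have hα2 : α (α w) = d ^ (1 + s) * w ^ (s * s) := by
        rw [hαw', map_mul, map_zpow, hαd, hαw', hdw.mul_zpow, ← mul_assoc, ← zpow_mul, zpow_one_add]
      have hα3 : α (α (α w)) = w := by
        rw [hαapp (α (α w)), hαapp (α w), hαapp w]
        calc r * (r * (r * w * r⁻¹) * r⁻¹) * r⁻¹ = r ^ 3 * w * (r ^ 3)⁻¹ := by
              rw [pow_succ, pow_two]; group
          _ = w := by rw [hr3]; group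
      rw [hα2, map_mul, map_zpow, map_zpow, hαd, hαw', hdw.mul_zpow, ← zpow_mul, ← mul_assoc,
        ← zpow_add] at hα3
      -- the `W`-part
      have hsep : d ^ (1 + s + s * s) = w ^ (1 - s * (s * s)) := by
        rw [zpow_sub, zpow_one]
        exact eq_mul_inv_of_mul_eq hα3
      have hbot : d ^ (1 + s + s * s) ∈ T ⊓ wSub a t := ⟨zpow_mem hd _, hsep ▸ zpow_mem hw _⟩
      rw [h.disjoint, Subgroup.mem_bot] at hbot
      rw [hbot] at hsep
      have h3s : (3 : ℤ) ∣ 1 - s * (s * s) := by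
        have := orderOf_dvd_iff_zpow_eq_one.2 hsep.symm
        rwa [hwo] at this
      have hs1 : s % 3 = 1 := by
        have h3 : s % 3 = 0 ∨ s % 3 = 1 ∨ s % 3 = 2 := by omega
        have h5 : (1 - s * (s * s)) % 3 = 0 := Int.emod_eq_zero_of_dvd h3s
        rw [Int.sub_emod, Int.mul_emod, Int.mul_emod s s] at h5
        rcases h3 with e3 | e3 | e3 <;> rw [e3] at h5 <;> norm_num at h5
        exact e3
      have hws : w ^ s = w := by
        rw [← zpow_mod_orderOf w s, hwo]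
        norm_num [hs1]
      rw [hαw', hws, map_mul, hαd, hαw', hws]
      calc w * (d * w * (d * (d * w))) = d ^ 3 * w ^ 3 := by
            simp only [pow_succ, pow_zero, one_mul, mul_assoc, hcdw.symm.left_comm, hcdw.symm.eq]
        _ = 1 := by rw [hd3, hw3, one_mul]
    have hNτ : τ ^ 3 = 1 := by
      have h1 : τ * w * (α (τ * w) * α (α (τ * w))) = 1 := by rw [← hvtw]; exact hNv
      rw [map_mul, map_mul, hατ, hατ] at h1
      have c1 : Commute w τ := hAcomm w hwA τ hτA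
      have c2 : Commute (α w) τ := hAcomm _ (hαA w hwA) τ hτA
      have h5 : τ * w * (τ * α w * (τ * α (α w))) = τ ^ 3 * (w * (α w * α (α w))) := by
        rw [pow_succ, pow_two]
        simp only [mul_assoc]
        rw [c1.left_comm, c2.left_comm, c1.left_comm]
      rw [h5, hNw, mul_one] at h1
      exact h1
    have hv3 : v ^ 3 = 1 := by
      rw [show v = τ * w from hvtw, (show Commute τ w from h.t_comm_w τ hτ w hw).mul_pow, hNτ, hw3,
        one_mul]
    have h3 := orderOf_dvd_of_pow_eq_one hv3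
    rw [hvo] at h3
    omega
  set O := Subgroup.closure {x | x ∈ X ∧ x ^ M = 1} with hO
  have hOle : ∃ H : Subgroup G, O ≤ H ∧ ∀ x ∈ A, x ∈ H → x ∈ OA := by
    by_cases hex : ∃ ρ ∈ X, ρ ∉ A ∧ ρ ^ M = 1
    swap
    · push Not at hex
      refine ⟨OA, (Subgroup.closure_le _).2 fun x hx => ⟨?_, hx.2⟩, fun x _ hx => hx⟩
      exact by_contra fun hxA => hex x hx.1 hxA hx.2
    · obtain ⟨ρ₁, hρ₁, hρ₁A, hρ₁M⟩ := hex
      have hc33 : Nat.Coprime 3 M' := Nat.prime_three.coprime_iff_not_dvd.2 hM'3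
      set ρ := ρ₁ ^ M' with hρdef
      have hρX : ρ ∈ X := pow_mem hρ₁ _
      have hρ3 : ρ ^ 3 = 1 := by rw [hρdef, ← pow_mul, mul_comm, ← hM, hρ₁M]
      have hρA : ρ ∉ A := fun hin => hρ₁A (mem_of_pow_mem hc33 (hcubeA _ hρ₁) hin)
      have hρn : Subgroup.zpowers ρ ≤ Subgroup.normalizer (OA : Set G) := Subgroup.zpowers_le.2 <|
        Subgroup.mem_normalizer_iff.2 fun x => ⟨hOAn ρ hρX x, fun hx => by
          have := hOAn ρ⁻¹ (inv_mem hρX) _ hx
          rwa [inv_inv, show ρ⁻¹ * (ρ * x * ρ⁻¹) * ρ = x by group] at this⟩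
      have memH : ∀ x, x ∈ OA ⊔ Subgroup.zpowers ρ → ∃ o ∈ OA, ∃ r ∈ Subgroup.zpowers ρ, x = o * r := by
        intro x hx
        have hx' : x ∈ (↑(OA ⊔ Subgroup.zpowers ρ) : Set G) := hx
        rw [Subgroup.coe_mul_of_right_le_normalizer_left _ _ hρn, Set.mem_mul] at hx'
        obtain ⟨o, ho, r, hr, rfl⟩ := hx'
        exact ⟨o, ho, r, hr, rfl⟩
      refine ⟨OA ⊔ Subgroup.zpowers ρ, (Subgroup.closure_le _).2 fun x hx => ?_, fun x hxA hx => ?_⟩
      · obtain ⟨hxX, hxM⟩ := hx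
        set x₁ := x ^ M' with hx₁
        have hx₁X : x₁ ∈ X := pow_mem hxX _
        have hx₁3 : x₁ ^ 3 = 1 := by rw [hx₁, ← pow_mul, mul_comm, ← hM, hxM]
        refine mem_of_pow_mem hc33 (Subgroup.mem_sup_left ⟨hcubeA x hxX, by
          rw [← pow_mul, mul_comm, pow_mul, hxM, one_pow]⟩) (?_ : x₁ ∈ _)
        have hidx3 : AX.index = 3 := ((Nat.dvd_prime Nat.prime_three).1 hidx).resolve_left fun e1 =>
          hρA (show (⟨ρ, hρX⟩ : X) ∈ AX by rw [Subgroup.index_eq_one.1 e1]; exact Subgroup.mem_top _)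
        haveI : Fact (Nat.Prime 3) := ⟨Nat.prime_three⟩
        obtain ⟨k, hk⟩ : (QuotientGroup.mk (⟨x₁, hx₁X⟩ : X) : X ⧸ AX) ∈
            Subgroup.zpowers (QuotientGroup.mk (⟨ρ, hρX⟩ : X) : X ⧸ AX) :=
          mem_zpowers_of_prime_card (p := 3) (by rw [← Subgroup.index_eq_card]; exact hidx3)
            (fun e1 => hρA ((QuotientGroup.eq_one_iff (N := AX) (⟨ρ, hρX⟩ : X)).1 e1))
        simp only at hk
        rw [← QuotientGroup.mk_zpow, QuotientGroup.eq] at hk
        have hy : (ρ ^ k)⁻¹ * x₁ ∈ A := hk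
        set r := ρ ^ k with hr
        have hrX : r ∈ X := zpow_mem hρX k
        have hr3 : r ^ 3 = 1 := by
          rw [hr, ← zpow_natCast, ← zpow_mul, mul_comm, zpow_mul, zpow_natCast, hρ3, one_zpow]
        set y := x₁ * r⁻¹ with hy'
        have hyA : y ∈ A := by
          have := hconjA r hrX _ hy
          rwa [show r * (r⁻¹ * x₁) * r⁻¹ = y by rw [hy']; group] at this
        rw [show x₁ = y * r by rw [hy']; group]
        exact mul_mem (Subgroup.mem_sup_left ⟨hyA, key y hyA r hrX hr3 (by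
          rw [hy', inv_mul_cancel_right]; exact hx₁3)⟩) (Subgroup.mem_sup_right ⟨k, rfl⟩)
      · obtain ⟨o, ho, r, hr, rfl⟩ := memH x hx
        have hrA : r ∈ A := (A.mul_mem_cancel_left ho.1).1 hxA
        obtain ⟨k, rfl⟩ := hr
        have hr1 : ρ ^ k = 1 := by
          have hρo : orderOf ρ = 3 := orderOf_eq_prime hρ3 fun e1 => hρA (e1 ▸ one_mem _)
          by_contra hne
          refine hρA ?_
          have h3k : ¬ (3 : ℤ) ∣ k := fun hd => hne (orderOf_dvd_iff_zpow_eq_one.1 (by rwa [hρo]))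
          obtain ⟨u, v, huv⟩ : IsCoprime (3 : ℤ) k :=
            (Prime.coprime_iff_not_dvd (Int.prime_three)).2 h3k
          rw [← zpow_one ρ, ← huv, zpow_add, mul_comm u, zpow_mul, show ρ ^ (3 : ℤ) = ρ ^ 3 from
            zpow_natCast ρ 3, hρ3, one_zpow, one_mul, mul_comm v, zpow_mul]
          exact zpow_mem hrA v
        show o * ρ ^ k ∈ OA
        rw [hr1, mul_one]; exact ho
  obtain ⟨H, hOH, hHA⟩ := hOle
  have heA : e ∈ A := Subgroup.mem_sup_left heT
  refine h.char_false hS h2 hcT hc1 (O := O) ?_ ?_ ?_ ?_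
  · refine lt_of_le_of_ne ((Subgroup.closure_le _).2 fun x hx => hx.1) fun e0 => ?_
    have h1 := (hHA e heA (hOH (e0.symm ▸ hAX heA))).2
    have h3 := orderOf_dvd_of_pow_eq_one h1
    rw [heo] at h3
    exact h9M h3
  · intro g hg y hy
    have hmap : O.map (MulAut.conj g).toMonoidHom ≤ O := by
      rw [hO, MonoidHom.map_closure, Subgroup.closure_le]
      rintro _ ⟨x, ⟨hx, hxM⟩, rfl⟩
      exact Subgroup.subset_closure ⟨mul_mem (mul_mem hg hx) (inv_mem hg), by
        show (g * x * g⁻¹) ^ M = 1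
        rw [conj_pow, hxM, mul_one, mul_inv_cancel]⟩
    exact hmap ⟨y, hy, rfl⟩
  · intro x hx hix
    exact Subgroup.subset_closure ⟨hx, small fun hd =>
      h9m (hd.trans (h.fixed_dvd hS h2 hodd hx hix))⟩
  · intro x hx hxO
    have h9x : 9 ∣ orderOf x := by_contra fun h9 => hxO (Subgroup.subset_closure ⟨hx, small h9⟩)
    set u := x ^ (orderOf x / 9) with hu
    have huo : orderOf u = 9 := orderOf_pow_orderOf_div (orderOf_pos x).ne' h9x
    have huX : u ∈ X := pow_mem hx _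
    obtain ⟨τ, hτ, w, hw, hz⟩ := memA (hcubeA u huX)
    have hu9 : (τ * w) ^ 3 = 1 := by
      rw [← hz, ← pow_mul, show 3 * 3 = 9 from rfl, ← huo]
      exact pow_orderOf_eq_one u
    obtain ⟨hτ3, hw3⟩ := hsplit hτ hw 3 hu9
    have huo3 : orderOf (u ^ 3) = 3 := by
      rw [orderOf_pow_of_dvd (by norm_num) (by rw [huo]; norm_num), huo]
    have hw1 : w = 1 := by
      by_contra hw1
      by_cases huA : u ∈ A
      · obtain ⟨σ, hσ, v, hv, huσ⟩ := memA huA
        have hu1 : (σ * v) ^ 9 = 1 := by rw [← huσ, ← huo]; exact pow_orderOf_eq_one u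
        obtain ⟨-, hv9⟩ := hsplit hσ hv 9 hu1
        have h1 : u ^ 3 = σ ^ 3 := by
          rw [huσ, (show Commute σ v from h.t_comm_w σ hσ v hv).mul_pow, hW9 v hv hv9, mul_one]
        have h3 : w ∈ T ⊓ wSub a t :=
          ⟨(T.mul_mem_cancel_left hτ).1 (by rw [← hz, h1]; exact pow_mem hσ 3), hw⟩
        rw [h.disjoint, Subgroup.mem_bot] at h3
        exact hw1 h3
      · obtain ⟨s', hs'⟩ := hT3 τ hτ hτ3
        have hτR : τ ∈ R := hs' ▸ zpow_mem (pow_mem heR 3) s'
        have cuτ : Commute u τ := mul_inv_eq_iff_eq_mul.1 (hXR u huX τ hτR)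
        have cuz : Commute u (τ * w) := hz ▸ Commute.self_pow u 3
        have cuw : u * w = w * u := by
          have h1 : Commute u (τ⁻¹ * (τ * w)) := cuτ.inv_right.mul_right cuz
          rw [inv_mul_cancel_left] at h1
          exact h1
        set C := (Subgroup.centralizer ({w} : Set G)).subgroupOf X
        have hlt : AX < C := by
          refine lt_of_le_of_ne (fun y hy => Subgroup.mem_centralizer_singleton_iff.2
            (hAcomm y hy w (Subgroup.mem_sup_right hw))) fun e1 => huA ?_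
          have h1 : (⟨u, huX⟩ : X) ∈ C := Subgroup.mem_centralizer_singleton_iff.2 cuw
          rw [← e1] at h1
          exact h1
        have hidx3 : AX.index = 3 := ((Nat.dvd_prime Nat.prime_three).1 hidx).resolve_left fun e1 => by
          rw [Subgroup.index_eq_one.1 e1] at hlt
          exact not_top_lt hlt
        have hCtop : C.index = 1 := by
          have h1 : C.index ∣ 3 := hidx3 ▸ Subgroup.index_dvd_of_le hlt.le
          refine ((Nat.dvd_prime Nat.prime_three).1 h1).resolve_right fun e1 => ?_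
          exact absurd (Subgroup.index_strictAnti hlt) (by omega)
        have hXC : X ≤ Subgroup.centralizer ({w} : Set G) :=
          fun y hy => (show (⟨y, hy⟩ : X) ∈ C by rw [Subgroup.index_eq_one.1 hCtop]; exact Subgroup.mem_top _)
        have hd := (Subgroup.card_dvd_of_le hXC).trans (card_cent_wSub_dvd hS h2 h.cube hw hw1)
        rw [← Subgroup.card_mul_index AX, hidx3, hcardAX, h.card_D hS h2,
          show (qSize a t + 1) * (qSize a t * ((qSize a t - 1) * m)) =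
            (qSize a t + 1) * m * (qSize a t * (qSize a t - 1)) by ring] at hd
        have h3 : 3 ∣ qSize a t * (qSize a t - 1) :=
          Nat.dvd_of_mul_dvd_mul_left (Nat.mul_pos (Nat.succ_pos _) Nat.card_pos) hd
        have h3q : 3 ∣ qSize a t + 1 := h.card_t ▸ hc3 ▸ Subgroup.orderOf_dvd_natCard T hcT
        rcases Nat.prime_three.dvd_mul.1 h3 with h4 | h4 <;> omega
    rw [hw1, mul_one] at hz
    exact (Subgroup.zpowers_le.2 (pow_mem (pow_mem (Subgroup.mem_zpowers x) _) 3))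
      (mem_zpowers_of_cyclic hTc hcT (hz ▸ hτ) (by rw [hc3, huo3]))

/-- The intersection with the mate has order dividing three. -/
theorem TorusSys.card_r : Nat.card R ∣ 3 := by
  have h0 : Nat.card R ≠ 0 := Nat.card_pos.ne'
  refine (Nat.factorization_le_iff_dvd h0 (by norm_num)).1 fun p => ?_
  by_cases hp : p.Prime
  · by_cases h3 : p = 3
    · subst h3
      rw [Nat.Prime.factorization_self Nat.prime_three]
      by_contra hlt
      exact h.nine_not_dvd hS h2 ((show 9 = 3 ^ 2 by norm_num) ▸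
        (Nat.Prime.pow_dvd_iff_le_factorization Nat.prime_three h0).2 (by omega))
    · rw [Nat.factorization_eq_zero_of_not_dvd (h.prime_not_dvd hS h2 hp h3)]
      exact Nat.zero_le _
  · rw [Nat.factorization_eq_zero_of_not_prime _ hp]
    exact Nat.zero_le _

/-- `|W| = (q + 1) / d` with `d` a divisor of `gcd 3 (q + 1)`. -/
theorem TorusSys.exists_card_w :
    ∃ d, d ∣ Nat.gcd 3 (qSize a t + 1) ∧ Nat.card (wSub a t) * d = qSize a t + 1 := by
  obtain ⟨d, hd⟩ := h.w_dvd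
  refine ⟨d, ?_, hd.symm⟩
  have hdq : d ∣ qSize a t + 1 := hd ▸ dvd_mul_left _ _
  have hle : d ≤ Nat.card R := by
    have h1 := h.r_index
    rw [hd, mul_comm (Nat.card R)] at h1
    exact Nat.le_of_mul_le_mul_left h1 Nat.card_pos
  have hR := Nat.le_of_dvd (by norm_num) (h.card_r hS h2)
  have hd0 : d ≠ 0 := fun e => by rw [e, mul_zero] at hd; omega
  have hd2 : d ≠ 2 := fun e => Nat.not_even_iff_odd.2 (h.q_succ_odd hS h2)
    (even_iff_two_dvd.2 (e ▸ hdq))
  refine Nat.dvd_gcd ?_ hdq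
  rcases (show d = 1 ∨ d = 3 by omega) with e | e <;> rw [e]
  exact one_dvd _

end Cfsg.Agent.RankOne
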