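import Cfsg.Agent.Lib.RankOneW.Blocks
import Cfsg.Agent.Lib.RankOneW.GaloisStep
import Cfsg.Agent.Lib.RankOneW.TorusBound

/-!
# The torus system

When `V = W`, the torus at a point outside `Δ`, an involution inverting it and the intersection with its
image under the involution exchanging `W` and the mate form a torus system, so the case is unitary.
-/

set_option autoImplicit false
set_option linter.unusedSectionVars false

namespace Cfsg.Agent.RankOne

open MulAction

universe u v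

variable {G : Type u} {Ω : Type v} [Group G] [MulAction G Ω] {a : Ω} {t : G} {Q : Subgroup G}
variable [Finite G] [FaithfulSMul G Ω] (hS : Cfsg.IsRankOneSetup G Ω a t Q)
  (h2 : ∃ x y : G, x ≠ 1 ∧ y ≠ 1 ∧ x ≠ y ∧ x * x = 1 ∧ y * y = 1 ∧ x * y = y * x)
  (hC : IsCube a t Q)

include hS h2

/-- An involution `i` and a second involution `j` are conjugate by an element centralising everything
both invert. -/
theorem exists_conj_centralizing {i j τ : G} (hi : IsInvol i) (hj : IsInvol j)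
    (hfix : ∀ p : Ω, τ • p ≠ p) (hiτ : i * τ * i = τ⁻¹) (hjτ : j * τ * j = τ⁻¹) :
    ∃ x : G, x * i * x⁻¹ = j ∧ x * τ * x⁻¹ = τ := by
  have hiτ' : i * τ⁻¹ * i = τ := by
    rw [← hiτ, show i * (i * τ * i) * i = (i * i) * τ * (i * i) by group, hi.2, one_mul, mul_one]
  have hc : Commute (i * j) τ := by
    calc i * j * τ = i * (j * τ * j) * j := by
          rw [show i * (j * τ * j) * j = i * j * τ * (j * j) by group, hj.2, mul_one]
      _ = i * τ⁻¹ * j := by rw [hjτ]
      _ = (i * τ⁻¹ * i) * (i * j) := by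
          rw [show i * τ⁻¹ * i * (i * j) = i * τ⁻¹ * (i * i) * j by group, hi.2, mul_one]
      _ = τ * (i * j) := by rw [hiτ']
  obtain ⟨p, hp⟩ := exists_fixed hS hi.2
  obtain ⟨c, hc'⟩ := exists_fixed hS hj.2
  by_cases hpc : p = c
  · subst hpc
    refine ⟨1, ?_, by group⟩
    rw [one_mul, inv_one, mul_one]
    by_contra hne
    have hij : i * j ≠ 1 := fun e => hne (by rw [← inv_eq_of_mul_eq_one_right e, hi.inv_eq])
    have := pretransitive hS
    obtain ⟨k, hkp⟩ := MulAction.exists_smul_eq G a p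
    -- both lie in the elementary abelian group of the involutions fixing `p`
    have hmem : ∀ u : G, IsInvol u → u • p = p →
        k⁻¹ * u * k ∈ Cfsg.involutionsIn (stabilizer G a : Set G) :=
      fun u hu hup => (mem_involutionsIn hS).2 ⟨by simpa using hu.conj k⁻¹, by
        rw [mul_smul, mul_smul, hkp, hup, ← hkp, inv_smul_smul]⟩
    rcases invol_mul hS h2 (hmem i hi hp) (hmem j hj hc') with e | e
    · exact hij (by
        calc i * j = k * ((k⁻¹ * i * k) * (k⁻¹ * j * k)) * k⁻¹ := by group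
          _ = 1 := by rw [e]; group)
    · have hij2 : IsInvol (i * j) := by
        have h := ((mem_involutionsIn hS).1 e).1.conj k
        rwa [show k * (k⁻¹ * i * k * (k⁻¹ * j * k)) * k⁻¹ = i * j by group] at h
      exact hfix p (fixed_of_commute hS hij2 (by rw [mul_smul, hc', hp]) hc.eq)
  · obtain ⟨k, -, hk⟩ := exists_conjugating hS hi hj hp hc' hpc
    refine ⟨i * (i * j) ^ k * i, ?_, ?_⟩
    · calc i * (i * j) ^ k * i * i * (i * (i * j) ^ k * i)⁻¹
          = (i * (i * j) ^ k) * ((i * i) * i⁻¹) * (i * (i * j) ^ k)⁻¹ := by group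
        _ = (i * (i * j) ^ k) * i * (i * (i * j) ^ k)⁻¹ := by rw [hi.2, one_mul, hi.inv_eq]
        _ = j := hk
    · have h := conj_pow_invol hi hj k
      rw [hi.inv_eq] at h
      rw [h, inv_inv, ((hc.pow_left k).inv_left).eq]
      group

theorem order_dvd_of_small (hr : RInvol hS h2) {g : G} (hg : g ∈ smallGroup a t) (hodd : Odd (orderOf g)) :
    orderOf g ∣ qSize a t - 1 ∨ orderOf g ∣ qSize a t + 1 := by
  by_cases hg1 : g = 1
  · subst hg1
    rw [orderOf_one]
    exact Or.inl (one_dvd _)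
  by_cases hfree : ∀ c ∈ orbitSet hS h2, g • c ≠ c
  · exact Or.inr (small_free_orbit hS h2 hr hg hg1 hodd hfree).1
  · push Not at hfree
    obtain ⟨c, hc, hgc⟩ := hfree
    exact Or.inl (small_fix_orbit hS h2 hr hg hg1 hodd hc hgc).1

/-- An element of odd order inverted by an involution has order dividing `q ± 1`. -/
theorem real_order_dvd (hr : RInvol hS h2) {x j : G} (hx : Odd (orderOf x)) (hj : j * j = 1)
    (hinv : j * x * j = x⁻¹) : orderOf x ∣ qSize a t - 1 ∨ orderOf x ∣ qSize a t + 1 := by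
  by_cases hx1 : x = 1
  · subst hx1
    rw [orderOf_one]
    exact Or.inl (one_dvd _)
  have hxx : x * x ≠ 1 := fun e => hx1 (sq_inj hx (by simp) (by rw [e, mul_one]))
  have hjI : IsInvol j := ⟨fun e => hxx (by
    subst e
    rw [one_mul, mul_one] at hinv
    nth_rewrite 1 [hinv]
    exact inv_mul_cancel x), hj⟩
  have hu : IsInvol (j * x) := ⟨fun e => hxx (by
      rw [← inv_eq_of_mul_eq_one_right e, hjI.inv_eq, hj]), by
    rw [show j * x * (j * x) = j * x * j * x by group, hinv, inv_mul_cancel]⟩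
  have hprod : j * (j * x) = x := by rw [← mul_assoc, hj, one_mul]
  obtain ⟨⟨g, u', hu', e⟩, -⟩ := product_invol hS h2 hjI hu (by rw [hprod]; exact hxx)
  rw [hprod] at e
  have hmem : g * x * g⁻¹ ∈ smallGroup a t := e ▸
    mul_mem (invSub_le_small hS h2 (Or.inr hu')) (t_mem_small hS h2)
  have ho : orderOf (g * x * g⁻¹) = orderOf x := (MulAut.conj g).orderOf_eq x
  have h := order_dvd_of_small hS h2 hr hmem (ho.symm ▸ hx)
  rwa [ho] at h

include hC

/-- If `V = W` the tori are moved into the product of the small group and `W`. -/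
theorem betaTriv_of_veq (hr : RInvol hS h2)
    (hv : twoStab a t ⊓ Subgroup.centralizer {t} = wSub a t) (hW : wSub a t ≠ ⊥) :
    BetaTriv (a := a) (t := t) hS h2 := by
  intro ω hω g hg τ hτ
  obtain ⟨l, hl, v, hv', e⟩ := exists_lv hS h2 hr fun p hp => orbit_of_comm hS h2 hC hr hW
    (x := g⁻¹ * τ * g) (pull_comm hS h2 hC hr hω hW hg hτ) hp
  rw [e]
  exact mul_mem (Subgroup.mem_sup_left hl) (Subgroup.mem_sup_right (hv ▸ hv'))

/-- The centraliser of an involution has order `q ^ 3 |W|`. -/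
theorem card_centralizer_invol_veq (hv : twoStab a t ⊓ Subgroup.centralizer {t} = wSub a t) {i : G}
    (hi : IsInvol i) :
    Nat.card (Subgroup.centralizer ({i} : Set G)) = qSize a t ^ 3 * Nat.card (wSub a t) := by
  obtain ⟨⟨s, r⟩, ⟨hs, hrr, heq⟩, -⟩ := structure_equation hS
  obtain ⟨hsi, hsa⟩ := (mem_involutionsIn hS).1 hs
  have hsV := centralizer_t_eq hS hs hrr heq
  obtain ⟨g, hg⟩ := all_conj hS hsi hi
  have e1 : Nat.card (Subgroup.centralizer ({i} : Set G)) =
      Nat.card (Subgroup.centralizer ({s} : Set G)) := by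
    refine Nat.card_eq_of_bijective (fun x => ⟨g⁻¹ * (x : G) * g, ?_⟩) ⟨fun x y h => ?_, fun y => ?_⟩
    · have hx := Subgroup.mem_centralizer_singleton_iff.1 x.2
      rw [Subgroup.mem_centralizer_singleton_iff, show s = g⁻¹ * i * g by rw [← hg]; group]
      calc g⁻¹ * (x : G) * g * (g⁻¹ * i * g) = g⁻¹ * ((x : G) * i) * g := by group
        _ = g⁻¹ * i * g * (g⁻¹ * (x : G) * g) := by rw [hx]; group
    · have h' : g⁻¹ * (x : G) * g = g⁻¹ * (y : G) * g := congrArg Subtype.val h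
      exact Subtype.ext (mul_left_cancel (mul_right_cancel h'))
    · refine ⟨⟨g * (y : G) * g⁻¹, ?_⟩, Subtype.ext (by group)⟩
      have hy := Subgroup.mem_centralizer_singleton_iff.1 y.2
      rw [Subgroup.mem_centralizer_singleton_iff, ← hg]
      calc g * (y : G) * g⁻¹ * (g * s * g⁻¹) = g * ((y : G) * s) * g⁻¹ := by group
        _ = g * s * g⁻¹ * (g * (y : G) * g⁻¹) := by rw [hy]; group
  rw [e1, ← hC.card_eq, ← Nat.card_prod]
  have hVs : ∀ v ∈ wSub a t, v * s = s * v := fun v hv' => ((mem_wSub hS h2).1 hv').2 s (Or.inr hs)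
  refine (Nat.card_eq_of_bijective (fun p : Q × wSub a t =>
    (⟨p.1.1 * p.2.1, mul_mem
      (Subgroup.mem_centralizer_singleton_iff.2 ((invol_central hS h2 hs).2 _ p.1.2).symm)
      (Subgroup.mem_centralizer_singleton_iff.2 (hVs _ p.2.2))⟩ : Subgroup.centralizer ({s} : Set G)))
    ⟨fun p p' h => ?_, fun y => ?_⟩).symm
  · obtain ⟨h1, h2'⟩ := qd_unique hS p.1.2 p'.1.2 (wSub_le hS h2 p.2.2) (wSub_le hS h2 p'.2.2)
      (congrArg Subtype.val h)
    exact Prod.ext (Subtype.ext h1) (Subtype.ext h2')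
  · have hy := Subgroup.mem_centralizer_singleton_iff.1 y.2
    obtain ⟨q, hq, d, hd, e⟩ := exists_qd hS (g := (y : G)) (fixed_of_commute hS hsi hsa hy.symm)
    have hds : d * s = s * d := by
      have hqs : Commute q s := ((invol_central hS h2 hs).2 q hq).symm
      have h3 := hqs.inv_left.mul_left (show Commute (y : G) s from hy)
      rw [e, inv_mul_cancel_left] at h3
      exact h3.eq
    have hdW : d ∈ wSub a t := by
      rw [← hv, hsV]
      exact Subgroup.mem_inf.2 ⟨hd, Subgroup.mem_centralizer_singleton_iff.2 hds⟩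
    exact ⟨(⟨q, hq⟩, ⟨d, hdW⟩), Subtype.ext e.symm⟩

/-- **The torus system.** -/
theorem exists_torusSys (hW : wSub a t ≠ ⊥)
    (hv : twoStab a t ⊓ Subgroup.centralizer {t} = wSub a t) :
    ∃ (T R : Subgroup G) (i : G), TorusSys a t Q T R i := by
  classical
  have := finite_points hS
  have hr := rInvol_of_cube hS h2 hC hW
  have hb := betaTriv_of_veq hS h2 hC hr hv hW
  obtain ⟨ω, hω⟩ := outside_nonempty hS h2 hC hr
  obtain ⟨g, hgi, hg⟩ := exists_swap hS h2 hC hr hω hW hb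
  obtain ⟨h, hhf, eT, hTi⟩ := exists_mateTorus hS h2 hC hr hω hW
  obtain ⟨i, hiL, hi, hinv⟩ := exists_inverter hS h2 hr hhf
  set T := mateTorus a t ω with hT
  have hinvT : ∀ τ ∈ T, i * τ * i = τ⁻¹ := fun τ hτ => hinv τ (eT ▸ hτ)
  have hginv := hgi.inv_eq
  have hgg : ∀ x : G, g * (g * x * g) * g = x := fun x => by
    rw [show g * (g * x * g) * g = (g * g) * x * (g * g) by group, hgi.2, one_mul, mul_one]
  have hgW : ∀ w ∈ wSub a t, g * w * g ∈ mate a t ω := fun w hw => by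
    have := (hg w).2 hw
    rwa [hginv] at this
  have hgM : ∀ m ∈ mate a t ω, g * m * g ∈ wSub a t := fun m hm => by
    rw [← hg, hginv, hgg]; exact hm
  have hTL : ∀ τ ∈ T, τ ∈ smallGroup a t := fun τ hτ => (Subgroup.mem_inf.1 hτ).1
  have hTm : ∀ τ ∈ T, ∀ m ∈ mate a t ω, Commute τ m := fun τ hτ m hm =>
    ((Subgroup.mem_centralizer_iff.1 (Subgroup.mem_inf.1 hτ).2) m hm).symm
  have hTw : ∀ τ ∈ T, ∀ w ∈ wSub a t, τ * w = w * τ := fun τ hτ w hw =>
    (wSub_comm_small hS h2 hC hr hw (hTL τ hτ)).symm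
  have hdis : ∀ x ∈ smallGroup a t, x ∈ wSub a t → x = 1 := fun x hx hxW =>
    small_inf_wSub hS h2 hC hr hx hxW
  -- uniqueness of the factors
  have huniq : ∀ {τ τ' w w' : G}, τ ∈ T → τ' ∈ T → w ∈ wSub a t → w' ∈ wSub a t →
      τ * w = τ' * w' → τ = τ' ∧ w = w' := fun {τ τ' w w'} hτ hτ' hw hw' e => by
    have e' : τ'⁻¹ * τ = w' * w⁻¹ := by
      calc τ'⁻¹ * τ = τ'⁻¹ * (τ * w) * w⁻¹ := by group
        _ = _ := by rw [e]; group
    have h1 := hdis _ (mul_mem (inv_mem (hTL _ hτ')) (hTL _ hτ)) (e' ▸ mul_mem hw' (inv_mem hw))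
    have e1 := (inv_mul_eq_one.1 h1).symm
    subst e1
    exact ⟨rfl, mul_left_cancel e⟩
  -- an element of the small group in `T W` lies in `T`
  have hA : ∀ x ∈ T ⊔ wSub a t, ∃ τ ∈ T, ∃ w ∈ wSub a t, x = τ * w := fun x hx => mem_sup_comm hTw hx
  have hAL : ∀ x ∈ T ⊔ wSub a t, x ∈ smallGroup a t → x ∈ T := fun x hx hxL => by
    obtain ⟨τ, hτ, w, hw, rfl⟩ := hA x hx
    have h1 := hdis w (by simpa using mul_mem (inv_mem (hTL τ hτ)) hxL) hw
    rw [h1, mul_one]; exact hτ
  -- `g T g` lies in `T W`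
  have hgT : ∀ τ ∈ T, ∃ l ∈ T, ∃ w ∈ wSub a t, g * τ * g = l * w := fun τ hτ => by
    obtain ⟨w₀, w₁, hw₀, hw₁, e⟩ := swap_decomp hS h2 hC hr hω hW hb hgi hg (inv_mem hτ)
    rw [inv_inv] at e
    exact ⟨_, mul_mem (inv_mem hτ) (iota_mem_mateTorus hS h2 hC hr hω hw₀), w₁, hw₁, e⟩
  set R : Subgroup G := T ⊓ T.map (MulAut.conj g).toMonoidHom with hRdef
  have hR : ∀ c : G, c ∈ R ↔ c ∈ T ∧ g * c * g ∈ T := fun c => by
    rw [hRdef, Subgroup.mem_inf, Subgroup.mem_map]
    refine and_congr_right fun _ => ⟨?_, fun h => ⟨g * c * g, h, ?_⟩⟩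
    · rintro ⟨y, hy, rfl⟩
      show g * (g * y * g⁻¹) * g ∈ T
      rw [hginv, hgg]; exact hy
    · show g * (g * c * g) * g⁻¹ = c
      rw [hginv, hgg]
  obtain ⟨hTcyc, hTcard⟩ := mateTorus_spec hS h2 hC hr hω hW
  obtain ⟨hWcyc, hWdvd⟩ := wSub_cyclic hS h2 hC hr hω hW
  have hfree : ∀ τ ∈ T, τ ≠ 1 → ∀ c : Ω, τ • c ≠ c := fun τ hτ hτ1 c => by
    by_cases hc : c ∈ orbitSet hS h2
    · exact (mateTorus_isFree hS h2 hC hr hω hW hτ hτ1).free c hc
    · exact small_semiregular hS h2 hr (hTL τ hτ) hτ1 hc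
  refine ⟨T, R, i, ⟨hC, hv, hWcyc, hWdvd, hTcyc, hTcard, hi, hinvT,
    fun w hw => (wSub_comm_small hS h2 hC hr hw hiL).symm, card_centralizer_invol_veq hS h2 hC hv hi,
    hTw, ?_, hfree, ?_, inf_le_left, ?_, ?_, ?_, fun x j hx hj hinv =>
      real_order_dvd hS h2 hr hx hj hinv⟩⟩
  · rw [Subgroup.eq_bot_iff_forall]
    exact fun x hx => hdis x (hTL x (Subgroup.mem_inf.1 hx).1) (Subgroup.mem_inf.1 hx).2
  · -- fusion in `T`
    intro τ hτ hτ1 y hy
    set τ' := y * τ * y⁻¹ with hτ'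
    have hτ'1 : τ' ≠ 1 := fun e => hτ1 (by
      calc τ = y⁻¹ * τ' * y := by rw [hτ']; group
        _ = 1 := by rw [e]; group)
    have hj : IsInvol (y * i * y⁻¹) := hi.conj y
    have hjτ' : (y * i * y⁻¹) * τ' * (y * i * y⁻¹) = τ'⁻¹ := by
      calc (y * i * y⁻¹) * τ' * (y * i * y⁻¹) = y * (i * τ * i) * y⁻¹ := by rw [hτ']; group
        _ = _ := by rw [hinvT τ hτ, hτ']; group
    obtain ⟨x, hxi, hxτ⟩ := exists_conj_centralizing hS h2 hi hj (hfree τ' hy hτ'1)
      (hinvT τ' hy) hjτ'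
    set z := x⁻¹ * y with hz
    have hzi : z * i * z⁻¹ = i := by
      calc z * i * z⁻¹ = x⁻¹ * (y * i * y⁻¹) * x := by rw [hz]; group
        _ = i := by rw [← hxi]; group
    have hzτ : z * τ * z⁻¹ = τ' := by
      calc z * τ * z⁻¹ = x⁻¹ * τ' * x := by rw [hz, hτ']; group
        _ = x⁻¹ * (x * τ' * x⁻¹) * x := by rw [hxτ]
        _ = τ' := by group
    obtain ⟨p, hp⟩ := exists_fixed hS hi.2
    have hpΔ := small_invol_fix hS h2 hr hiL hi hp
    obtain ⟨b, hb', hbp⟩ : ∃ b ∈ orbitSet hS h2, b ≠ p := by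
      by_cases hpa : p = a
      · exact ⟨t • a, Or.inr ⟨1, one_mem _, one_smul _ _⟩, fun h => ta_ne hS (h.trans hpa)⟩
      · exact ⟨a, Or.inl rfl, Ne.symm hpa⟩
    obtain ⟨l, hl, hla, -⟩ := small_move hS h2 hr hpΔ hb' (Ne.symm hbp)
    set s := l⁻¹ * i * l with hs
    have hsi : IsInvol s := by simpa [hs] using hi.conj l⁻¹
    have hsa : s • a = a := by rw [hs, mul_smul, mul_smul, hla, hp, ← hla, inv_smul_smul]
    set z' := l⁻¹ * z * l with hz'
    have hzs : z' * s = s * z' := by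
      calc z' * s = l⁻¹ * (z * i * z⁻¹) * z * l := by rw [hz', hs]; group
        _ = _ := by rw [hzi, hz', hs]; group
    obtain ⟨q, hq, d, hd, ezd⟩ := exists_qd hS (g := z') (fixed_of_commute hS hsi hsa hzs.symm)
    have hds : d * s = s * d := by
      have hqs : Commute q s :=
        ((invol_central hS h2 ((mem_involutionsIn hS).2 ⟨hsi, hsa⟩)).2 q hq).symm
      have h3 := hqs.inv_left.mul_left (show Commute z' s from hzs)
      rw [ezd, inv_mul_cancel_left] at h3
      exact h3.eq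
    obtain ⟨v, hv', k, hk, edk⟩ := exists_vk hS hd
    have hk1 : k = 1 := by
      have hvs : Commute v s := ((mem_wSub hS h2).1 (hv ▸ hv')).2 s
        (Or.inr ((mem_involutionsIn hS).2 ⟨hsi, hsa⟩))
      have h3 := hvs.inv_left.mul_left (show Commute d s from hds)
      rw [edk, inv_mul_cancel_left] at h3
      exact eq_one_of_inverted_commute hS ((mem_invK hS h2).1 hk) hsi hsa h3.eq
    rw [hk1, mul_one] at edk
    have hdW : d ∈ wSub a t := edk ▸ hv ▸ hv'
    set σ := l⁻¹ * τ * l with hσ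
    set σ' := l⁻¹ * τ' * l with hσ'
    have hσL : σ ∈ smallGroup a t := mul_mem (mul_mem (inv_mem hl) (hTL τ hτ)) hl
    have hσ'L : σ' ∈ smallGroup a t := mul_mem (mul_mem (inv_mem hl) (hTL τ' hy)) hl
    have hqσ : q * σ * q⁻¹ = σ' := by
      calc q * σ * q⁻¹ = q * (d * σ * d⁻¹) * q⁻¹ := by
            rw [wSub_comm_small hS h2 hC hr hdW hσL]; group
        _ = z' * σ * z'⁻¹ := by rw [ezd]; group
        _ = l⁻¹ * (z * τ * z⁻¹) * l := by rw [hz', hσ]; group
        _ = σ' := by rw [hzτ]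
    -- `q` is an involution of `G_a`
    have hσa : σ • a ∈ orbitSet hS h2 := smul_orbitSet hS h2 hr hσL (Or.inl rfl)
    have hσ'a : σ' • a ∈ orbitSet hS h2 := smul_orbitSet hS h2 hr hσ'L (Or.inl rfl)
    have hσne : σ • a ≠ a := fun h' => hfree τ hτ hτ1 (l • a) (by
      rw [hσ, mul_smul, mul_smul, inv_smul_eq_iff] at h'
      exact h')
    have hqa : q • (σ • a) = σ' • a := by
      rw [← hqσ, mul_smul (q * σ), show q⁻¹ • a = a from smul_a hS (inv_mem hq)]
      exact (mul_smul q σ a).symm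
    have hqZ : q ∈ invSub hS h2 := by
      have hσ'ne : σ' • a ≠ a := fun h' => hσne (MulAction.injective q
        ((hqa.trans h').trans (smul_a hS hq).symm))
      obtain ⟨z₁, hz₁, e₁⟩ := hσa.resolve_left hσne
      obtain ⟨z₂, hz₂, e₂⟩ := hσ'a.resolve_left hσ'ne
      have hu := (existsUnique_smul hS (ta_ne hS) (b := t • a) hσ'ne).unique
        (y₁ := ⟨q * z₁, mul_mem hq (invSub_le_Q hS h2 hz₁)⟩) (y₂ := ⟨z₂, invSub_le_Q hS h2 hz₂⟩)
        (by rw [mul_smul, e₁, hqa]) e₂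
      have e : q = z₂ * z₁⁻¹ := eq_mul_inv_of_mul_eq (congrArg Subtype.val hu)
      rw [e]
      exact mul_mem hz₂ (inv_mem hz₁)
    -- back in `T`
    set m := l * q * l⁻¹ with hm
    have hmL : m ∈ smallGroup a t :=
      mul_mem (mul_mem hl (invSub_le_small hS h2 hqZ)) (inv_mem hl)
    have hmτ : m * τ * m⁻¹ = τ' := by
      calc m * τ * m⁻¹ = l * (q * σ * q⁻¹) * l⁻¹ := by rw [hm, hσ]; group
        _ = τ' := by rw [hqσ, hσ']; group
    have hτt : τ ∈ torus a t h := eT ▸ hτ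
    have hτ't : τ' ∈ torus a t h := eT ▸ hy
    have hn : ∀ c ∈ torus a t h, m * c * m⁻¹ ∈ torus a t h := by
      intro c hc
      rw [← torus_eq_of_mem hS h2 hr hhf hτ't hτ'1, mem_torus]
      refine ⟨mul_mem (mul_mem hmL (mem_torus.1 hc).1) (inv_mem hmL), ?_⟩
      rw [← hmτ, conj_mul, conj_mul, torus_comm hS h2 hr hhf hc hτt]
    rcases torus_normalizer hS h2 hr hhf hmL hn with hmT | hminv
    · exact Or.inl (by rw [← hmτ, torus_comm hS h2 hr hhf hmT hτt]; group)
    · exact Or.inr (by rw [← hmτ, hminv τ hτt])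
  · -- the index of `R`
    choose lf hlf wf hwf hef using hgT
    let f : T →* wSub a t :=
      { toFun := fun τ => ⟨wf τ τ.2, hwf τ τ.2⟩
        map_one' := Subtype.ext (huniq (hlf 1 (one_mem _)) (one_mem _) (hwf 1 (one_mem _)) (one_mem _)
          (by rw [← hef 1 (one_mem _), mul_one, hgi.2, one_mul])).2
        map_mul' := fun σ τ => Subtype.ext (huniq (hlf _ (mul_mem σ.2 τ.2))
          (mul_mem (hlf σ σ.2) (hlf τ τ.2)) (hwf _ (mul_mem σ.2 τ.2)) (mul_mem (hwf σ σ.2) (hwf τ τ.2))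
          (by
            rw [← hef _ (mul_mem σ.2 τ.2)]
            calc g * ((σ : G) * τ) * g = (g * σ * g) * (g * τ * g) := by
                  rw [show (g * (σ : G) * g) * (g * τ * g) = g * σ * (g * g) * τ * g by group, hgi.2]
                  group
              _ = (lf σ σ.2 * wf σ σ.2) * (lf τ τ.2 * wf τ τ.2) := by rw [hef σ σ.2, hef τ τ.2]
              _ = lf σ σ.2 * (wf σ σ.2 * lf τ τ.2) * wf τ τ.2 := by group
              _ = _ := by rw [← hTw _ (hlf τ τ.2) _ (hwf σ σ.2)]; group)).2 }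
    have hker : Nat.card f.ker ≤ Nat.card R :=
      Nat.card_le_card_of_injective (fun τ => (⟨((τ : T) : G), (hR _).2 ⟨(τ : T).2, by
        have e : wf ((τ : T) : G) (τ : T).2 = 1 := congrArg Subtype.val (MonoidHom.mem_ker.1 τ.2)
        rw [hef _ (τ : T).2, e, mul_one]
        exact hlf _ _⟩⟩ : R)) fun σ τ h' =>
          Subtype.ext (Subtype.ext (congrArg (fun c : R => (c : G)) h'))
    have hran : Nat.card f.range ≤ Nat.card (wSub a t) := Subgroup.card_le_card_group _
    rw [← hTcard, ← Subgroup.card_mul_index f.ker, Subgroup.index_ker]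
    exact Nat.mul_le_mul hker hran
  · -- elements of `R` of order dividing `|W|`
    intro c hc hcm
    obtain ⟨hcT, hgcT⟩ := (hR c).1 hc
    obtain ⟨u, hu, rfl⟩ : ∃ (u : G) (hu : u ∈ wSub a t), c = iota hS h2 hC hr hω hu := by
      let _ : Fintype T := Fintype.ofFinite T
      have := hTcyc
      let f : wSub a t → {x : T // x ^ Nat.card (wSub a t) = 1} := fun w =>
        ⟨⟨iota hS h2 hC hr hω w.2, iota_mem_mateTorus hS h2 hC hr hω w.2⟩, Subtype.ext (by
          show iota hS h2 hC hr hω w.2 ^ Nat.card (wSub a t) = 1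
          exact (map_pow (iotaHom hS h2 hC hr hω hW) w _).symm.trans
            (by rw [pow_card_eq_one', map_one]))⟩
      have hf : Function.Injective f := fun v w e => Subtype.ext (iota_inj hS h2 hC hr hω v.2 w.2
        (congrArg (fun x : {x : T // x ^ Nat.card (wSub a t) = 1} => ((x.1 : T) : G)) e))
      have hle : Nat.card {x : T // x ^ Nat.card (wSub a t) = 1} ≤ Nat.card (wSub a t) := by
        rw [Nat.card_eq_fintype_card, Fintype.card_subtype]
        exact IsCyclic.card_pow_eq_one_le Nat.card_pos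
      obtain ⟨w, hw⟩ := ((Nat.bijective_iff_injective_and_card f).2
        ⟨hf, le_antisymm (Nat.card_le_card_of_injective f hf) hle⟩).2 ⟨⟨c, hcT⟩, Subtype.ext hcm⟩
      exact ⟨w, w.2, (congrArg (fun x : {x : T // x ^ Nat.card (wSub a t) = 1} => ((x.1 : T) : G)) hw).symm⟩
    set l := iota hS h2 hC hr hω hu with hl
    set m := l⁻¹ * u with hm
    have hmM : m ∈ mate a t ω := mate_elem hS h2 hC hr hω hu
    obtain ⟨z, hz, ez⟩ := (mem_mate hS h2 hC hr hω).1 (hgW u hu)
    set lz := iota hS h2 hC hr hω hz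
    have hyW : g * m * g ∈ wSub a t := hgM m hmM
    have hcm' : Commute l u := iota_comm_self hS h2 hC hr hω hu
    have hgc : g * l * g = lz⁻¹ * (z * (g * m * g)⁻¹) := by
      rw [← mul_assoc lz⁻¹, ← ez, mul_inv_rev, mul_inv_rev, hginv, hm, mul_inv_rev, inv_inv]
      calc g * l * g = g * (u * (u⁻¹ * l)) * g := by group
        _ = g * u * (g * g) * (u⁻¹ * l) * g := by rw [hgi.2]; group
        _ = _ := by group
    have hzeq : z * (g * m * g)⁻¹ = 1 := (huniq hgcT (inv_mem (iota_mem_mateTorus hS h2 hC hr hω hz))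
      (one_mem _) (mul_mem hz (inv_mem hyW)) (by rw [mul_one, hgc])).2.symm
    rw [hzeq, mul_one] at hgc
    -- `l u` fixes a point
    have hlu : (l * u) • (i • ω) = i • ω := by
      have hiu : Commute i u := (wSub_comm_small hS h2 hC hr hu hiL).symm
      have e : l * u = i * m * i := by
        calc l * u = (i * l⁻¹ * i) * u := by
              rw [hinvT _ (inv_mem (iota_mem_mateTorus hS h2 hC hr hω hu)), inv_inv]
          _ = i * l⁻¹ * (i * u) := by group
          _ = i * m * i := by rw [hiu.eq, hm]; group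
      rw [e, ← mul_smul, show i * m * i * i = i * m * (i * i) by group, hi.2, mul_one, mul_smul,
        mem_stabilizer_iff.1 (Subgroup.mem_inf.1 hmM).1]
    have hglu : (lz⁻¹ * lz⁻¹ * z) • (g • (i • ω)) = g • (i • ω) := by
      have e : lz⁻¹ * lz⁻¹ * z = g * (l * u) * g := by
        calc lz⁻¹ * lz⁻¹ * z = (g * l * g) * (g * u * g) := by rw [hgc, ez]; group
          _ = g * l * (g * g) * u * g := by group
          _ = _ := by rw [hgi.2]; group
      rw [e, ← mul_smul, show g * (l * u) * g * g = g * (l * u) * (g * g) by group, hgi.2, mul_one,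
        mul_smul, hlu]
    have hlz2 : lz⁻¹ * lz⁻¹ = iota hS h2 hC hr hω (inv_mem (mul_mem hz hz)) := by
      rw [iota_inv hS h2 hC hr hω (mul_mem hz hz), iota_mul hS h2 hC hr hω hz hz, mul_inv_rev]
    rw [hlz2] at hglu
    have hzu : z = 1 → l ^ 3 = 1 := fun hz1 => by
      subst hz1
      have e1 : lz = 1 := (iota_eq hS h2 hC hr hω hz (one_mem _) rfl).symm
      rw [e1, inv_one] at hgc
      have hl1 : l = 1 := by
        calc l = (g * g) * l * (g * g) := by rw [hgi.2]; group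
          _ = g * (g * l * g) * g := by group
          _ = g * 1 * g := by rw [hgc]
          _ = 1 := by rw [mul_one, hgi.2]
      rw [hl1, one_pow]
    rcases torus_fix hS h2 hC hr hω hW (iota_mem_mateTorus hS h2 hC hr hω _) hz hglu with e | e | e
    · have h1 := iota_one hS h2 hC hr hω _ e
      refine hzu (sq_inj (odd_orderOf hS.odd_card (wSub_le hS h2 hz)) (by simp) ?_)
      rw [inv_eq_one.1 h1, mul_one]
    · rw [← iota_inv hS h2 hC hr hω, ] at e
      have h1 := iota_inj hS h2 hC hr hω _ _ e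
      rw [inv_inv] at h1
      exact hzu (mul_eq_left.1 h1)
    · rw [← iota_inv hS h2 hC hr hω, ← iota_inv hS h2 hC hr hω] at e
      have h1 := iota_inj hS h2 hC hr hω _ _ e
      rw [inv_inv] at h1
      have hz3 : z ^ 3 = 1 := by
        rw [pow_succ, pow_two, h1, inv_mul_cancel]
      have hlz3 : lz ^ 3 = 1 :=
        (map_pow (iotaHom hS h2 hC hr hω hW) ⟨z, hz⟩ 3).symm.trans
          (by rw [show (⟨z, hz⟩ : wSub a t) ^ 3 = 1 from Subtype.ext hz3, map_one])
      calc l ^ 3 = g * (g * l * g) ^ 3 * g⁻¹ := by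
            rw [← conj_pow, hginv, hgg]
        _ = 1 := by rw [hgc, inv_pow, hlz3, inv_one, mul_one, mul_inv_cancel]
  · -- `R` is invariant under the normaliser of `T W`
    intro y hy c hc
    have hmemA : ∀ τ ∈ T, τ ∈ T ⊔ wSub a t := fun τ hτ => Subgroup.mem_sup_left hτ
    have hgA : ∀ x ∈ T ⊔ wSub a t, g * x * g ∈ T ⊔ wSub a t := fun x hx => by
      obtain ⟨τ, hτ, w, hw, rfl⟩ := hA x hx
      obtain ⟨l, hl, w', hw', e⟩ := hgT τ hτ
      obtain ⟨u, hu, e'⟩ := (mem_mate hS h2 hC hr hω).1 (hgW w hw)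
      have hmA : g * w * g ∈ T ⊔ wSub a t := e' ▸ mul_mem
        (hmemA _ (inv_mem (iota_mem_mateTorus hS h2 hC hr hω hu))) (Subgroup.mem_sup_right hu)
      rw [show g * (τ * w) * g = (g * τ * g) * (g⁻¹ * g⁻¹) * (g * w * g) by group, hginv, hgi.2,
        mul_one, e]
      exact mul_mem (mul_mem (hmemA l hl) (Subgroup.mem_sup_right hw')) hmA
    have hiA : ∀ x ∈ T ⊔ wSub a t, i * x * i ∈ T ⊔ wSub a t := fun x hx => by
      obtain ⟨τ, hτ, w, hw, rfl⟩ := hA x hx
      have hiw : Commute i w := (wSub_comm_small hS h2 hC hr hw hiL).symm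
      rw [show i * (τ * w) * i = (i * τ) * (w * i) by group, ← hiw.eq,
        show i * τ * (i * w) = (i * τ * i) * w by group, hinvT τ hτ]
      exact mul_mem (hmemA _ (inv_mem hτ)) (Subgroup.mem_sup_right hw)
    have hmA : ∀ m ∈ mate a t ω, m ∈ T ⊔ wSub a t := fun m hm => by
      obtain ⟨u, hu, e'⟩ := (mem_mate hS h2 hC hr hω).1 hm
      exact e' ▸ mul_mem (hmemA _ (inv_mem (iota_mem_mateTorus hS h2 hC hr hω hu)))
        (Subgroup.mem_sup_right hu)
    -- preserving `W` is preserving `T`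
    have hNT : ∀ n : G, (∀ x ∈ T ⊔ wSub a t, n * x * n⁻¹ ∈ T ⊔ wSub a t) →
        (∀ w ∈ wSub a t, n * w * n⁻¹ ∈ wSub a t) → ∀ τ ∈ T, n * τ * n⁻¹ ∈ T := by
      intro n hn hnW τ hτ
      obtain ⟨w₁, hw₁⟩ := Subgroup.ne_bot_iff_exists_ne_one.1 hW
      have hpres : ∀ p ∈ orbitSet hS h2, n • p ∈ orbitSet hS h2 := fun p hp =>
        wSub_fixed_mem hS h2 hC hr (hnW w₁ w₁.2) (fun e => hw₁ (Subtype.ext (by
          calc (w₁ : G) = n⁻¹ * (n * w₁ * n⁻¹) * n := by group
            _ = 1 := by rw [e]; group))) (by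
          rw [← mul_smul, show n * (w₁ : G) * n⁻¹ * n = n * w₁ by group, mul_smul,
            wSub_fix_orbit hS h2 hC hr w₁.2 hp])
      obtain ⟨l, hl, v, hv', rfl⟩ := exists_lv hS h2 hr hpres
      refine hAL _ (hn τ (hmemA τ hτ)) ?_
      rw [show l * v * τ * (l * v)⁻¹ = l * (v * τ * v⁻¹) * l⁻¹ by group,
        wSub_comm_small hS h2 hC hr (hv ▸ hv') (hTL τ hτ), mul_inv_cancel_right]
      exact mul_mem (mul_mem hl (hTL τ hτ)) (inv_mem hl)
    have hRg : ∀ x : G, x ∈ R → g * x * g ∈ R := fun x hx =>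
      (hR _).2 ⟨((hR x).1 hx).2, by rw [hgg]; exact ((hR x).1 hx).1⟩
    have hRi : ∀ x : G, x ∈ R → i * x * i ∈ R := fun x hx => by
      rw [hinvT x ((hR x).1 hx).1]; exact inv_mem hx
    have hcompg : ∀ n : G, (∀ x ∈ T ⊔ wSub a t, n * x * n⁻¹ ∈ T ⊔ wSub a t) →
        ∀ x ∈ T ⊔ wSub a t, g * n * x * (g * n)⁻¹ ∈ T ⊔ wSub a t := fun n hn x hx => by
      rw [show g * n * x * (g * n)⁻¹ = g * (n * x * n⁻¹) * g⁻¹ by group, hginv]
      exact hgA _ (hn x hx)
    have hcompi : ∀ n : G, (∀ x ∈ T ⊔ wSub a t, n * x * n⁻¹ ∈ T ⊔ wSub a t) →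
        ∀ x ∈ T ⊔ wSub a t, i * n * x * (i * n)⁻¹ ∈ T ⊔ wSub a t := fun n hn x hx => by
      rw [show i * n * x * (i * n)⁻¹ = i * (n * x * n⁻¹) * i⁻¹ by group, hi.inv_eq]
      exact hiA _ (hn x hx)
    -- the three blocks
    have hblock : ∀ n : G, (∀ x ∈ T ⊔ wSub a t, n * x * n⁻¹ ∈ T ⊔ wSub a t) → ∀ w₂ : G, w₂ ∈ T ⊔ wSub a t →
        (∃ p : Ω, w₂ • p = p) → n * w₂ * n⁻¹ ∈ wSub a t ∨ n * w₂ * n⁻¹ ∈ mate a t ω ∨
          i * (n * w₂ * n⁻¹) * i ∈ mate a t ω := by
      rintro n hn w₂ hw₂ ⟨p, hp⟩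
      obtain ⟨τ, hτ, w, hw, e⟩ := hA _ (hn w₂ hw₂)
      have hfix : (τ * w) • (n • p) = n • p := by
        rw [← e, ← mul_smul, show n * w₂ * n⁻¹ * n = n * w₂ by group, mul_smul, hp]
      rw [e]
      have hm := mate_elem hS h2 hC hr hω hw
      rcases torus_fix hS h2 hC hr hω hW hτ hw hfix with h1 | h1 | h1
      · exact Or.inl (by rwa [h1, one_mul])
      · exact Or.inr (Or.inl (by rwa [← h1, inv_inv] at hm))
      · refine Or.inr (Or.inr ?_)
        rw [inv_injective h1]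
        have hiw : Commute i w := (wSub_comm_small hS h2 hC hr hw hiL).symm
        rwa [show i * (iota hS h2 hC hr hω hw * w) * i = i * iota hS h2 hC hr hω hw * (w * i) by group,
          ← hiw.eq, show i * iota hS h2 hC hr hω hw * (i * w) = (i * iota hS h2 hC hr hω hw * i) * w by
            group, hinvT _ (iota_mem_mateTorus hS h2 hC hr hω hw)]
    -- generators
    obtain ⟨w₁, hw₁⟩ := hWcyc.exists_generator
    have hgen : ∀ (n : G) (X : Subgroup G), n * (w₁ : G) * n⁻¹ ∈ X → ∀ w ∈ wSub a t, n * w * n⁻¹ ∈ X := by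
      intro n X hn w hw
      obtain ⟨j, hj⟩ := Subgroup.mem_zpowers_iff.1 (hw₁ ⟨w, hw⟩)
      rw [show w = (w₁ : G) ^ j from (congrArg Subtype.val hj).symm.trans (by simp), ← conj_zpow]
      exact zpow_mem hn j
    have hw₁fix : ∃ p : Ω, (w₁ : G) • p = p := ⟨a, (mem_twoStab hS (wSub_le hS h2 w₁.2)).1⟩
    have hWA : ∀ w ∈ wSub a t, w ∈ T ⊔ wSub a t := fun w hw => Subgroup.mem_sup_right hw
    -- preserving `W` is enough
    have hP : ∀ n : G, (∀ x ∈ T ⊔ wSub a t, n * x * n⁻¹ ∈ T ⊔ wSub a t) →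
        (∀ w ∈ wSub a t, n * w * n⁻¹ ∈ wSub a t) → n * c * n⁻¹ ∈ R := by
      intro n hn hnW
      have hmain : ∀ n' : G, (∀ x ∈ T ⊔ wSub a t, n' * x * n'⁻¹ ∈ T ⊔ wSub a t) →
          (∀ w ∈ wSub a t, n' * w * n'⁻¹ ∈ wSub a t) →
          (∀ m ∈ mate a t ω, n' * m * n'⁻¹ ∈ mate a t ω) → n' * c * n'⁻¹ ∈ R := by
        intro n' hn' hn'W hn'M
        refine (hR _).2 ⟨hNT n' hn' hn'W c ((hR c).1 hc).1, ?_⟩
        have e : g * (n' * c * n'⁻¹) * g = (g * n' * g) * (g * c * g) * (g * n' * g)⁻¹ := by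
          rw [mul_inv_rev, mul_inv_rev, hginv,
            show g * n' * g * (g * c * g) * (g * (n'⁻¹ * g)) = g * n' * (g * g) * c * (g * g) * (n'⁻¹ * g)
              by group, hgi.2]
          group
        rw [e]
        refine hNT _ (fun x hx => ?_) (fun w hw => ?_) _ ((hR c).1 hc).2
        · rw [mul_inv_rev, mul_inv_rev, hginv,
            show g * n' * g * x * (g * (n'⁻¹ * g)) = g * (n' * (g * x * g) * n'⁻¹) * g by group]
          exact hgA _ (hn' _ (hgA x hx))
        · rw [mul_inv_rev, mul_inv_rev, hginv,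
            show g * n' * g * w * (g * (n'⁻¹ * g)) = g * (n' * (g * w * g) * n'⁻¹) * g by group]
          exact hgM _ (hn'M _ (hgW w hw))
      have hgw₁ : (g * (w₁ : G) * g) ∈ mate a t ω := hgW w₁ w₁.2
      have hMgen : ∀ (n' : G) (X : Subgroup G), n' * (g * (w₁ : G) * g) * n'⁻¹ ∈ X →
          ∀ m ∈ mate a t ω, n' * m * n'⁻¹ ∈ X := by
        intro n' X hn' m hm
        have h' := hgen (n' * g) X (by
          rwa [show n' * g * (w₁ : G) * (n' * g)⁻¹ = n' * (g * w₁ * g⁻¹) * n'⁻¹ by group, hginv])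
          _ (hgM m hm)
        rwa [show n' * g * (g * m * g) * (n' * g)⁻¹ = n' * ((g * g) * m * (g * g⁻¹)) * n'⁻¹ by group,
          hgi.2, one_mul, mul_inv_cancel, mul_one] at h'
      rcases hblock n hn _ (hmA _ hgw₁) ⟨ω, mem_stabilizer_iff.1 (Subgroup.mem_inf.1 hgw₁).1⟩
        with h1 | h1 | h1
      · exfalso
        -- two disjoint subgroups cannot both go onto `W`
        let f : wSub a t → wSub a t := fun w => ⟨n * w * n⁻¹, hnW w w.2⟩
        obtain ⟨w, hw⟩ := (Finite.injective_iff_surjective (f := f)).1 (fun v w e => Subtype.ext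
          (mul_left_cancel (mul_right_cancel (congrArg Subtype.val e)))) ⟨_, h1⟩
        have e : (w : G) = g * w₁ * g :=
          mul_left_cancel (mul_right_cancel (congrArg Subtype.val hw))
        obtain ⟨u, hu, e'⟩ := (mem_mate hS h2 hC hr hω).1 hgw₁
        have h3 := huniq (inv_mem (iota_mem_mateTorus hS h2 hC hr hω hu)) (one_mem _) hu w.2
          (by rw [one_mul, e, e'])
        have hu1 : u = 1 := iota_one hS h2 hC hr hω hu (inv_eq_one.1 h3.1)
        have hw₁1 : (w₁ : G) = 1 := by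
          rw [h3.2.symm.trans hu1] at e
          calc (w₁ : G) = (g * g) * w₁ * (g * g) := by rw [hgi.2]; group
            _ = g * (g * w₁ * g) * g := by group
            _ = 1 := by rw [← e, mul_one, hgi.2]
        exact hW ((Subgroup.eq_bot_iff_forall _).2 fun x hx => by
          have := hgen 1 ⊥ (by rw [hw₁1]; simp) x hx
          simpa using this)
      · exact hmain n hn hnW (hMgen n _ h1)
      · have h1' := hmain (i * n) (hcompi n hn) (fun w hw => by
          rw [show i * n * w * (i * n)⁻¹ = i * (n * w * n⁻¹) * i⁻¹ by group, hi.inv_eq,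
            ← wSub_comm_small hS h2 hC hr (hnW w hw) hiL, mul_assoc, hi.2, mul_one]
          exact hnW w hw)
          (hMgen (i * n) _ (by
            rwa [show i * n * (g * (w₁ : G) * g) * (i * n)⁻¹ = i * (n * (g * w₁ * g) * n⁻¹) * i⁻¹ by
              group, hi.inv_eq]))
        have h2' := hRi _ h1'
        rwa [show i * (i * n * c * (i * n)⁻¹) * i = (i * i) * (n * c * n⁻¹) * (i⁻¹ * i) by group,
          hi.2, one_mul, inv_mul_cancel, mul_one] at h2'
    rcases hblock y hy _ (hWA _ w₁.2) hw₁fix with h1 | h1 | h1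
    · exact hP y hy (hgen y _ h1)
    · have h2' := hRg _ (hP (g * y) (hcompg y hy) fun w hw => by
        rw [show g * y * w * (g * y)⁻¹ = g * (y * w * y⁻¹) * g⁻¹ by group, hginv]
        exact hgM _ (hgen y _ h1 w hw))
      rwa [show g * (g * y * c * (g * y)⁻¹) * g = (g * g) * (y * c * y⁻¹) * (g⁻¹ * g) by group,
        hgi.2, one_mul, inv_mul_cancel, mul_one] at h2'
    · have hM : ∀ w ∈ wSub a t, i * y * w * (i * y)⁻¹ ∈ mate a t ω := hgen (i * y) _ (by
        rwa [show i * y * (w₁ : G) * (i * y)⁻¹ = i * (y * w₁ * y⁻¹) * i⁻¹ by group, hi.inv_eq])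
      have h2' := hRi _ (hRg _ (hP (g * (i * y)) (hcompg _ (hcompi y hy)) fun w hw => by
        rw [show g * (i * y) * w * (g * (i * y))⁻¹ = g * (i * y * w * (i * y)⁻¹) * g⁻¹ by group, hginv]
        exact hgM _ (hM w hw)))
      rwa [show i * (g * (g * (i * y) * c * (g * (i * y))⁻¹) * g) * i =
        i * (g * g) * i * (y * c * y⁻¹) * (i⁻¹ * (g⁻¹ * g) * i) by group, hgi.2, mul_one, hi.2,
        one_mul, inv_mul_cancel, mul_one, inv_mul_cancel, mul_one] at h2'

/-- **The unitary case.** -/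
theorem isUnitary_of_veq (hW : wSub a t ≠ ⊥)
    (hv : twoStab a t ⊓ Subgroup.centralizer {t} = wSub a t) : IsUnitary a t Q := by
  obtain ⟨T, R, i, h⟩ := exists_torusSys hS h2 hC hW hv
  exact { toIsCube := hC, v_eq := hv, isCyclic := h.w_cyclic, card_w := h.exists_card_w hS h2 }

end Cfsg.Agent.RankOne
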