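import Cfsg.Agent.Lib.RankOneW.Eta
import Cfsg.Agent.Lib.RankOneW.GaloisStep
import Cfsg.Agent.Lib.RankOneW.PocketGalois
import Cfsg.Agent.Lib.RankOneW.TorusBuild

/-!
# The cube case of a group generated by `Q` and `t` is unitary
-/

set_option autoImplicit false
set_option linter.unusedSectionVars false

namespace Cfsg.Agent.RankOne

open MulAction

universe u v

variable {G : Type u} {Ω : Type v} [Group G] [MulAction G Ω] {a : Ω} {t : G} {Q : Subgroup G}
variable [Finite G] [FaithfulSMul G Ω] (hS : Cfsg.IsRankOneSetup G Ω a t Q)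
  (h2 : ∃ x y : G, x ≠ 1 ∧ y ≠ 1 ∧ x ≠ y ∧ x * x = 1 ∧ y * y = 1 ∧ x * y = y * x)
include hS h2

/-- No normal subgroup other than the whole group contains `Q` when `Q` and `t` generate. -/
theorem normal_eq_top_of_top (htop : Q ⊔ Subgroup.zpowers t = ⊤) {N : Subgroup G} (hN : N.Normal)
    (hQN : Q ≤ N) : N = ⊤ := by
  obtain ⟨s, hs, hsa⟩ := exists_invol_fixing hS a
  obtain ⟨g, hg⟩ := all_conj hS hs (t_invol hS)
  rw [← top_le_iff, ← htop, sup_le_iff, Subgroup.zpowers_le]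
  exact ⟨hQN, hg ▸ hN.conj_mem _ (hQN (invol_mem_Q hS hs hsa)) g⟩

/-- The cube case is unitary when `Q` and `t` generate the group, given that `W ≠ 1` and that the
elementary pocket `q = 8` has trivial field part. -/
theorem unitary_of_top_aux (hC : IsCube a t Q) (htop : Q ⊔ Subgroup.zpowers t = ⊤)
    (hW : wSub a t ≠ ⊥)
    (hPE : qSize a t = 8 → Nat.card (wSub a t) = 3 →
      Nat.card ↥(twoStab a t ⊓ Subgroup.centralizer {t}) = 9 →
      (∀ v ∈ twoStab a t ⊓ Subgroup.centralizer {t}, v ^ 3 = 1) → BetaTriv (a := a) (t := t) hS h2) :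
    IsUnitary a t Q := by
  have hr := rInvol_of_cube hS h2 hC hW
  suffices hb : BetaTriv (a := a) (t := t) hS h2 from
    isUnitary_of_veq hS h2 hC hW (v_eq_of_top hS h2 hC hr hW hb htop)
  rcases betaTriv_or_pocket hS h2 hC hr hW with hb | ⟨hq, hW3, hV⟩
  · exact hb
  by_cases hcyc : IsCyclic (twoStab a t ⊓ Subgroup.centralizer {t} : Subgroup G)
  · obtain ⟨N, hN, hne, hQN⟩ := exists_normal_of_pocket hS h2 hC hq hW3 hcyc hV
    exact absurd (normal_eq_top_of_top hS h2 htop hN hQN) hne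
  refine hPE hq hW3 hV fun v hv => ?_
  set V := twoStab a t ⊓ Subgroup.centralizer {t}
  obtain ⟨k, hk, hk'⟩ := (Nat.dvd_prime_pow Nat.prime_three (m := 2)).1
    (show orderOf (⟨v, hv⟩ : V) ∣ 3 ^ 2 by rw [show (3 : ℕ) ^ 2 = 9 from rfl, ← hV]; exact orderOf_dvd_natCard _)
  have hk1 : k ≤ 1 := by
    by_contra hk1
    exact hcyc (isCyclic_of_orderOf_eq_card (⟨v, hv⟩ : V) (by rw [hk', hV, show k = 2 by omega]; rfl))
  have h3 : orderOf v ∣ 3 := by
    rw [show orderOf v = 3 ^ k by rw [← hk', Subgroup.orderOf_mk]]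
    interval_cases k <;> norm_num
  exact orderOf_dvd_iff_pow_eq_one.1 h3

end Cfsg.Agent.RankOne
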