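import Cfsg.Agent.Lib.RankOneW.NoTrivBasic
import Cfsg.Agent.Lib.ZassSuz.Main

/-!
# `W = 1`: if `|V|` is prime to `|Ω|` the transfer into `V` leaves a Zassenhaus group
-/

set_option autoImplicit false
set_option linter.unusedSectionVars false
set_option linter.style.haveILetI false

namespace Cfsg.Agent.RankOne

open MulAction

universe u v

variable {G : Type u} {Ω : Type v} [Group G] [MulAction G Ω] {a : Ω} {t : G} {Q : Subgroup G}
variable [Finite G] (hS : Cfsg.IsRankOneSetup G Ω a t Q)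
  (h2 : ∃ x y : G, x ≠ 1 ∧ y ≠ 1 ∧ x ≠ y ∧ x * x = 1 ∧ y * y = 1 ∧ x * y = y * x)

include hS h2 in
/-- No Zassenhaus group has a kernel of order `q ^ 3`. -/
theorem not_all_hk [FaithfulSMul G Ω] (hC : IsCube a t Q) (hall : ∀ x ∈ Q, x ≠ 1 → HK a t Q x) : False := by
  classical
  haveI := finite_points hS
  letI : Fintype Ω := Fintype.ofFinite Ω
  set L := thin a t Q with hL
  have hZ : Cfsg.IsZassenhausGroup L Ω := thin_zassenhaus hS h2 hall
  haveI : IsSimpleGroup L := ZassNormal.simple_of_odd hZ (by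
    rw [← Nat.card_eq_fintype_card]; exact odd_card_points hS)
  letI : Fintype L := Fintype.ofFinite L
  set H : Subgroup L := Q.subgroupOf L with hH
  have hHQ : Nat.card H = Nat.card Q :=
    Nat.card_congr (Subgroup.subgroupOfEquivOfLe Q_le_thin).toEquiv
  have D : ZassKer.Ker a (t • a) H := by
    refine ⟨hZ, (ta_ne hS).symm, fun x hx => smul_a hS (show (x : G) ∈ Q from hx), ?_, fun u hu hu1 c hc =>
      eq_a_of_fixed hS (show (u : G) ∈ Q from hu) (fun h => hu1 (Subtype.ext h)) hc, fun g hg u hu =>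
      hS.conj_mem (g : G) (show (g : G) • a = a from hg) _ hu⟩
    rw [hHQ, ← Nat.card_eq_fintype_card, card_points hS]
  obtain ⟨x, hx, y, hy, hne⟩ := hC.nonabelian
  have S := ZassSuz.Suz.of_ker D ⟨⟨x, Q_le_thin hx⟩, hx, ⟨y, Q_le_thin hy⟩, hy,
    fun h => hne (congrArg Subtype.val h)⟩
  have htwo : Nat.card (Zass.two (G := L) a (t • a)) = Nat.card (invK a t) := Nat.card_congr
    { toFun := fun x => ⟨((x : L) : G), thin_two hS h2 hall (x : L).2 x.2⟩
      invFun := fun x => ⟨⟨x, invK_le_thin x.2⟩, invK_le hS x.2⟩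
      left_inv := fun x => rfl
      right_inv := fun x => rfl }
  have hsq := S.card_sq
  rw [hHQ, htwo, card_invK hS h2, ← qSize_eq hS h2, hC.card_eq] at hsq
  have := Nat.pow_right_injective (le_trans (by norm_num) (four_le_qSize hS h2)) hsq
  omega

include hS in
/-- `Q K`. -/
theorem qk_conj {g x : G} (hg : g ∈ stabilizer G a)
    (h2 : ∃ x y : G, x ≠ 1 ∧ y ≠ 1 ∧ x ≠ y ∧ x * x = 1 ∧ y * y = 1 ∧ x * y = y * x)
    (hx : x ∈ Q ⊔ invK a t) : g * x * g⁻¹ ∈ Q ⊔ invK a t := by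
  obtain ⟨q, hq, d, hd, rfl⟩ := exists_qd hS hg
  have hd' : d * x * d⁻¹ ∈ Q ⊔ invK a t := by
    rw [Subgroup.sup_eq_closure] at hx
    induction hx using Subgroup.closure_induction with
    | mem z hz =>
      rcases hz with hz | hz
      · exact Subgroup.mem_sup_left (hS.conj_mem d (Subgroup.mem_inf.1 hd).1 z hz)
      · exact Subgroup.mem_sup_right (conj_mem_invK hS h2 hd hz)
    | one => simp
    | mul x y _ _ h h' => rw [← conj_mul]; exact mul_mem h h'
    | inv x _ h => rw [← conj_inv]; exact inv_mem h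
  rw [show q * d * x * (q * d)⁻¹ = q * (d * x * d⁻¹) * q⁻¹ by group]
  exact mul_mem (mul_mem (Subgroup.mem_sup_left hq) hd') (inv_mem (Subgroup.mem_sup_left hq))

include hS h2 in
theorem qk_mem {x : G} (hx : x ∈ Q ⊔ invK a t) : ∃ q ∈ Q, ∃ k ∈ invK a t, x = q * k := by
  have hmove : ∀ {k q : G}, k ∈ invK a t → q ∈ Q → k * q * k⁻¹ ∈ Q := fun hk hq =>
    hS.conj_mem _ (Subgroup.mem_inf.1 (invK_le hS hk)).1 _ hq
  rw [Subgroup.sup_eq_closure] at hx
  induction hx using Subgroup.closure_induction with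
  | mem z hz =>
    rcases hz with hz | hz
    · exact ⟨z, hz, 1, one_mem _, (mul_one z).symm⟩
    · exact ⟨1, one_mem _, z, hz, (one_mul z).symm⟩
  | one => exact ⟨1, one_mem _, 1, one_mem _, (mul_one 1).symm⟩
  | mul x y _ _ h h' =>
    obtain ⟨q, hq, k, hk, rfl⟩ := h
    obtain ⟨q', hq', k', hk', rfl⟩ := h'
    exact ⟨q * (k * q' * k⁻¹), mul_mem hq (hmove hk hq'), k * k', mul_mem hk hk', by group⟩
  | inv x _ h =>
    obtain ⟨q, hq, k, hk, rfl⟩ := h
    exact ⟨k⁻¹ * q⁻¹ * k⁻¹⁻¹, hmove (inv_mem hk) (inv_mem hq), k⁻¹, inv_mem hk, by group⟩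

variable (hW : wSub a t = ⊥)
include hS h2 hW

/-- A conjugate in `G_a` of an element of `V` is conjugate to it in `G_a`. -/
theorem conj_back [FaithfulSMul G Ω] {y g : G} (hy : y ∈ vSub a t) (hg : g * y * g⁻¹ ∈ stabilizer G a) :
    ∃ h ∈ stabilizer G a, h * (g * y * g⁻¹) * h⁻¹ = y := by
  obtain ⟨e, he, -⟩ := existsUnique_fixed hS (t_invol hS)
  have hyD := vSub_twoStab hS hy
  obtain ⟨hya, hyb⟩ := mem_twoStab hS hyD
  have hye : y • e = e := fixed_of_commute hS (t_invol hS) he (vSub_comm_t hS hy).symm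
  have hea : e ≠ a := fun h => ta_ne hS (h ▸ he)
  have heb : e ≠ t • a := fun h => ta_ne hS (by
    have h1 := he; rw [h, ← mul_smul, hS.mul_self, one_smul] at h1; exact h1.symm)
  set u := g * y * g⁻¹ with hu
  have hfix : ∀ c : Ω, y • c = c → u • (g • c) = g • c := fun c hc => by
    rw [hu, mul_smul, mul_smul, inv_smul_smul, hc]
  obtain ⟨c, hca, hc⟩ : ∃ c : Ω, c ≠ a ∧ u • c = c := by
    by_cases h : g • a = a
    · exact ⟨g • (t • a), fun h' => ta_ne hS (MulAction.injective g (h'.trans h.symm)), hfix _ hyb⟩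
    · exact ⟨g • a, h, hfix _ hya⟩
  obtain ⟨q, hq, hqc⟩ := exists_q_smul hS hca
  have hqa : q ∈ stabilizer G a := hS.le hq
  have hu' : q⁻¹ * u * q ∈ twoStab a t := Subgroup.mem_inf.2
    ⟨mul_mem (mul_mem (inv_mem hqa) hg) hqa, by
      rw [mem_stabilizer_iff, mul_smul, mul_smul, hqc, hc, ← hqc, inv_smul_smul]⟩
  have hfix' : ∀ c : Ω, y • c = c → (q⁻¹ * u * q) • ((q⁻¹ * g) • c) = (q⁻¹ * g) • c := fun c hc => by
    rw [mul_smul, mul_smul, ← mul_smul q (q⁻¹ * g), mul_inv_cancel_left, hfix c hc, ← mul_smul]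
  obtain ⟨k, hk, hkt⟩ := conj_into_centralizer hS (X := {q⁻¹ * u * q})
    (Set.singleton_subset_iff.2 hu') ⟨(q⁻¹ * g) • e, (q⁻¹ * g) • a, (q⁻¹ * g) • (t • a),
      fun h => hea (MulAction.injective _ h), fun h => heb (MulAction.injective _ h),
      fun h => (ta_ne hS).symm (MulAction.injective _ h), fun x hx => by
        rw [Set.mem_singleton_iff.1 hx]; exact ⟨hfix' e hye, hfix' a hya, hfix' (t • a) hyb⟩⟩
  have hy' : k * (q⁻¹ * u * q) * k⁻¹ ∈ vSub a t := Subgroup.mem_inf.2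
    ⟨mul_mem (mul_mem hk hu') (inv_mem hk),
      Subgroup.mem_centralizer_singleton_iff.2 (hkt _ rfl)⟩
  refine ⟨k * q⁻¹, mul_mem (Subgroup.mem_inf.1 hk).1 (inv_mem hqa), ?_⟩
  have e1 : k * q⁻¹ * u * (k * q⁻¹)⁻¹ = k * (q⁻¹ * u * q) * k⁻¹ := by group
  rw [e1]
  have himg : (fun x => (k * q⁻¹ * g) * x * (k * q⁻¹ * g)⁻¹) '' {y} = {k * (q⁻¹ * u * q) * k⁻¹} := by
    rw [Set.image_singleton, Set.singleton_eq_singleton_iff, hu]; group
  obtain ⟨w, hw, hwe⟩ := conj_in_centralizer hS (X := {y}) (Set.singleton_subset_iff.2 hy) (k * q⁻¹ * g)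
    (by rw [himg]; exact Set.singleton_subset_iff.2 hy')
  rw [himg, Set.image_singleton, Set.singleton_eq_singleton_iff, vSub_comm hS h2 hW hw hy,
    mul_inv_cancel_right] at hwe
  exact hwe.symm

/-- **The coprime case.** -/
theorem coprime_false [FaithfulSMul G Ω] (hC : IsCube a t Q)
    (hco : Nat.Coprime (Nat.card (vSub a t)) (qSize a t ^ 3 + 1)) : False := by
  classical
  set St := stabilizer G a with hSt
  set M : Subgroup St := (Q ⊔ invK a t).subgroupOf St with hM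
  haveI : M.Normal := ⟨fun x hx g => qk_conj hS g.2 h2 hx⟩
  have hVa : ∀ {y : G}, y ∈ vSub a t → y ∈ St := fun hy => (Subgroup.mem_inf.1 (vSub_twoStab hS hy)).1
  have hcl : ∀ z : St ⧸ M, ∃ y : G, ∃ hy : y ∈ vSub a t, z = ((⟨y, hVa hy⟩ : St) : St ⧸ M) := by
    intro z
    obtain ⟨g, rfl⟩ := QuotientGroup.mk_surjective z
    obtain ⟨q, hq, d, hd, e⟩ := exists_qd hS g.2
    obtain ⟨k, hk, y, hy, rfl⟩ := exists_ky hS h2 hd
    refine ⟨y, hy, ((QuotientGroup.eq).2 ?_).symm⟩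
    show y⁻¹ * (g : G) ∈ Q ⊔ invK a t
    have hyS := hVa hy
    rw [e, show y⁻¹ * (q * (k * y)) = y⁻¹ * (q * k) * y⁻¹⁻¹ by group]
    exact qk_conj hS (inv_mem hyS) h2
      (mul_mem (Subgroup.mem_sup_left hq) (Subgroup.mem_sup_right hk))
  have hinj : ∀ {y : G} (hy : y ∈ vSub a t), ((⟨y, hVa hy⟩ : St) : St ⧸ M) = 1 → y = 1 := by
    intro y hy h
    obtain ⟨q, hq, k, hk, e⟩ := qk_mem hS h2 ((QuotientGroup.eq_one_iff (N := M) (⟨y, hVa hy⟩ : St)).1 h : (⟨y, hVa hy⟩ : St) ∈ M)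
    obtain ⟨-, h'⟩ := qd_unique hS (one_mem Q) hq (vSub_twoStab hS hy) (invK_le hS hk)
      (by rw [one_mul]; exact e)
    exact invK_inf_vSub hS h2 (h' ▸ hk) hy
  letI : CommGroup (St ⧸ M) :=
    { (inferInstance : Group (St ⧸ M)) with
      mul_comm := fun x z => by
        obtain ⟨y, hy, rfl⟩ := hcl x
        obtain ⟨y', hy', rfl⟩ := hcl z
        rw [← QuotientGroup.mk_mul, ← QuotientGroup.mk_mul]
        exact congrArg _ (Subtype.ext (vSub_comm hS h2 hW hy hy')) }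
  let ϕ : St →* St ⧸ M := QuotientGroup.mk' M
  let T : G →* St ⧸ M := MonoidHom.transfer ϕ
  have hodd : ∀ z : St ⧸ M, z * z = 1 → z = 1 := by
    intro z hz
    obtain ⟨y, hy, rfl⟩ := hcl z
    rw [← QuotientGroup.mk_mul] at hz
    have h := hinj (mul_mem hy hy) hz
    rw [show (⟨y, hVa hy⟩ : St) = 1 from Subtype.ext (eq_one_of_sq_odd hS (vSub_twoStab hS hy) h)]
    rfl
  haveI := pretransitive hS
  have hindex : St.index = qSize a t ^ 3 + 1 := by
    rw [hSt, MulAction.index_stabilizer_of_transitive, card_points hS, hC.card_eq]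
  -- the transfer on `V`
  have hTv : ∀ y, (hy : y ∈ vSub a t) → T y = (ϕ ⟨y, hVa hy⟩) ^ St.index := by
    intro y hy
    letI := St.fintypeQuotientOfFiniteIndex
    letI : Fintype (Quotient (orbitRel (Subgroup.zpowers y) (G ⧸ St))) := Fintype.ofFinite _
    show MonoidHom.transfer ϕ y = _
    rw [MonoidHom.transfer_eq_prod_quotient_orbitRel_zpowers_quot, Subgroup.index_eq_sum_minimalPeriod St y,
      ← Finset.prod_pow_eq_pow_sum]
    refine Finset.prod_congr rfl fun o _ => ?_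
    set m := Function.minimalPeriod (y • ·) o.out
    have hmem := QuotientGroup.out_conj_pow_minimalPeriod_mem St y o.out
    obtain ⟨h, hh, he⟩ := conj_back hS h2 hW (y := y ^ m) (g := o.out.out⁻¹) (pow_mem hy m)
      (by rwa [inv_inv])
    rw [inv_inv] at he
    rw [← map_pow]
    have e : (⟨y, hVa hy⟩ : St) ^ m = ⟨h, hh⟩ * ⟨o.out.out⁻¹ * y ^ m * o.out.out, hmem⟩ * ⟨h, hh⟩⁻¹ :=
      Subtype.ext (show y ^ m = h * (o.out.out⁻¹ * y ^ m * o.out.out) * h⁻¹ from he.symm)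
    rw [e, map_mul, map_mul, map_inv, mul_comm (ϕ ⟨h, hh⟩), mul_inv_cancel_right]
  -- two-elements lie in the kernel
  have hpow : ∀ (i : ℕ) (z : St ⧸ M), z ^ 2 ^ i = 1 → z = 1 := by
    intro i
    induction i with
    | zero => intro z h; simpa using h
    | succ j ih =>
      intro z h
      rw [pow_succ', pow_mul] at h
      exact hodd z ((pow_two z).symm.trans (ih _ h))
  have h2el : ∀ x : G, x * x = 1 ∨ (∃ i : ℕ, x ^ 2 ^ i = 1) → T x = 1 := by
    intro x hx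
    obtain ⟨i, hi⟩ : ∃ i : ℕ, x ^ 2 ^ i = 1 := hx.elim (fun h => ⟨1, by rw [pow_one, pow_two, h]⟩) id
    have h : T x ^ 2 ^ i = 1 := by rw [← map_pow, hi, map_one]
    exact hpow i (T x) h
  have hTQ : ∀ q ∈ Q, T q = 1 := fun q hq => by
    obtain ⟨i, hi⟩ := hC.isPGroup ⟨q, hq⟩
    exact h2el q (Or.inr ⟨i, congrArg Subtype.val hi⟩)
  have hTt : T t = 1 := h2el t (Or.inl hS.mul_self)
  have hTk : ∀ k ∈ invK a t, T k = 1 := fun k hk => by
    refine hodd _ ?_
    have h : T (t * k * t) = (T k)⁻¹ := by rw [tkt_eq hS h2 hk, map_inv]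
    rw [map_mul, map_mul, hTt, one_mul, mul_one] at h
    nth_rewrite 2 [h]
    exact mul_inv_cancel _
  have hker : ∀ d ∈ twoStab a t, T d = 1 → d ∈ invK a t := by
    intro d hd h
    obtain ⟨k, hk, y, hy, rfl⟩ := exists_ky hS h2 hd
    rw [map_mul, hTk k hk, one_mul, hTv y hy, hindex, ← map_pow] at h
    have h1 : y ^ (qSize a t ^ 3 + 1) = 1 := hinj (pow_mem hy _) h
    have h3 : orderOf (⟨y, hy⟩ : vSub a t) ∣ Nat.card (vSub a t) := orderOf_dvd_natCard _
    rw [Subgroup.orderOf_mk] at h3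
    have hy1 : orderOf y = 1 := Nat.eq_one_of_dvd_coprimes hco h3 (orderOf_dvd_of_pow_eq_one h1)
    rw [orderOf_eq_one_iff.1 hy1, mul_one]
    exact hk
  refine not_all_hk hS h2 hC fun x hx _ g h f hg hh hf e => hker h hh ?_
  have h' := congrArg T e
  simp only [map_mul, hTt, hTQ x hx, hTQ g hg, hTQ f hf, mul_one, one_mul] at h'
  exact h'.symm

end Cfsg.Agent.RankOne
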