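import Cfsg.Agent.Lib.RankOneW.NoTrivEight
import Cfsg.Agent.Lib.RankOneW.NoTrivTransfer

/-!
# `W` is not trivial

In the case of a Suzuki 2-group of order `q ^ 3` some non-trivial element of `D` centralises all involutions
of `G_a`.
-/

set_option autoImplicit false
set_option linter.unusedSectionVars false
set_option linter.style.haveILetI false

namespace Cfsg.Agent.RankOne

open MulAction

universe u v

/-- The statement for groups of order `m`. -/
def NoTrivAt (m : ℕ) : Prop :=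
  ∀ (G Ω : Type v) [Group G] [Finite G] [MulAction G Ω] [FaithfulSMul G Ω] (a : Ω) (t : G) (Q : Subgroup G),
    Nat.card G = m → Cfsg.IsRankOneSetup G Ω a t Q →
      (∃ x y : G, x ≠ 1 ∧ y ≠ 1 ∧ x ≠ y ∧ x * x = 1 ∧ y * y = 1 ∧ x * y = y * x) →
        IsCube a t Q → wSub a t ≠ ⊥

variable {G : Type u} {Ω : Type v} [Group G] [MulAction G Ω] {a : Ω} {t : G} {Q : Subgroup G}
variable [Finite G] (hS : Cfsg.IsRankOneSetup G Ω a t Q)
  (h2 : ∃ x y : G, x ≠ 1 ∧ y ≠ 1 ∧ x ≠ y ∧ x * x = 1 ∧ y * y = 1 ∧ x * y = y * x)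
include hS h2

theorem exists_velt (hC : IsCube a t Q) (hco : ¬ Nat.Coprime (Nat.card (vSub a t)) (qSize a t ^ 3 + 1)) :
    ∃ v p, VElt a t v p := by
  obtain ⟨p, hp, h1, h3⟩ := Nat.Prime.not_coprime_iff_dvd.1 hco
  haveI := Fact.mk hp
  obtain ⟨v, hv⟩ := exists_prime_orderOf_dvd_card' (G := vSub a t) p h1
  exact ⟨v, p, hp, v.2, by rwa [Subgroup.orderOf_coe], h3⟩

/-- The reduction step. -/
theorem noTriv_step [FaithfulSMul G Ω] (hC : IsCube a t Q)
    (IH : ∀ m < Nat.card G, NoTrivAt.{v} m) : wSub a t ≠ ⊥ := by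
  intro hW
  classical
  by_cases hco : Nat.Coprime (Nat.card (vSub a t)) (qSize a t ^ 3 + 1)
  · exact coprime_false hS h2 hW hC hco
  obtain ⟨v, p, hv⟩ := exists_velt hS h2 hC hco
  obtain ⟨htwo, hq, -, hCQ, hlast⟩ := fixed_data hS h2 hC hW hv
  set cZ := Subgroup.centralizer ({v} : Set G) ⊓ invSub hS h2 with hcZ
  by_cases hq0 : Nat.card cZ = 2
  · exact eight_false hS h2 hC hW hv hq0
  obtain ⟨s, hs, hVs, -⟩ := exists_vSub_invol hS h2
  obtain ⟨hsi, hsa⟩ := (mem_involutionsIn hS).1 hs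
  have hvD := vSub_twoStab hS hv.mem
  have hvs : v * s = s * v := mul_inv_eq_iff_eq_mul.1 (hVs v hv.mem)
  have hscZ : s ∈ cZ :=
    Subgroup.mem_inf.2 ⟨Subgroup.mem_centralizer_singleton_iff.2 hvs.symm, Or.inr hs⟩
  obtain ⟨z, hz, hz1, hzs⟩ : ∃ z ∈ cZ, z ≠ 1 ∧ z ≠ s := by
    by_contra hno
    push Not at hno
    apply hq0
    have : (cZ : Set G) = {1, s} := Set.ext fun x => ⟨fun hx => by
      by_cases h : x = 1
      · exact Or.inl h
      · exact Or.inr (hno x hx h), fun hx => by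
      rcases hx with rfl | rfl
      · exact one_mem _
      · exact hscZ⟩
    show Nat.card (cZ : Set G) = 2
    rw [this, Nat.card_coe_set_eq, Set.ncard_pair (Ne.symm hsi.1)]
  -- the set-up on the fixed points
  have hX : ({v} : Set G) ⊆ (twoStab a t : Set G) := Set.singleton_subset_iff.2 hvD
  have htv : t ∈ Subgroup.centralizer ({v} : Set G) :=
    Subgroup.mem_centralizer_singleton_iff.2 (vSub_comm_t hS hv.mem).symm
  have h3 := fix_three_of_centralized hS hvD (invSub_le_Q hS h2 (Or.inr hs)) hsi.1 hvs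
  have hS' := fix_setup hS hX htv h3
  haveI := fix_finite hS hX
  haveI := fix_faithful hS hX
  set π := fixElt Ω ({v} : Set G)
  have hlt : Nat.card (fixGroup Ω ({v} : Set G)) < Nat.card G := card_fixGroup_lt hS hX rfl
    (Subgroup.mem_centralizer_singleton_iff.2 rfl) (fun h => by
      have := hv.order; rw [h, orderOf_one] at this; exact hv.prime.one_lt.ne this)
  have hinj : ∀ {g g' : Subgroup.centralizer ({v} : Set G)}, (g : G) ∈ Q → (g' : G) ∈ Q →
      π g = π g' → g = g' := fun h h' e => fixQ_inj hS hX h h' e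
  let zs : Subgroup.centralizer ({v} : Set G) := ⟨s, (Subgroup.mem_inf.1 hscZ).1⟩
  let zz : Subgroup.centralizer ({v} : Set G) := ⟨z, (Subgroup.mem_inf.1 hz).1⟩
  have hzQ : z ∈ Q := invSub_le_Q hS h2 (Subgroup.mem_inf.1 hz).2
  have hsQ : s ∈ Q := invSub_le_Q hS h2 (Or.inr hs)
  have h2' : ∃ x y : fixGroup Ω ({v} : Set G),
      x ≠ 1 ∧ y ≠ 1 ∧ x ≠ y ∧ x * x = 1 ∧ y * y = 1 ∧ x * y = y * x := by
    refine ⟨π zs, π zz, fun h => hsi.1 ?_, fun h => hz1 ?_, fun h => hzs ?_, ?_, ?_, ?_⟩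
    · exact congrArg Subtype.val (hinj (g := zs) (g' := 1) hsQ (one_mem Q) (h.trans (map_one π).symm))
    · exact congrArg Subtype.val (hinj (g := zz) (g' := 1) hzQ (one_mem Q) (h.trans (map_one π).symm))
    · exact (congrArg Subtype.val (hinj (g := zs) (g' := zz) hsQ hzQ h)).symm
    · rw [← map_mul, show zs * zs = 1 from Subtype.ext hsi.2, map_one]
    · rw [← map_mul, show zz * zz = 1 from Subtype.ext (invSub_sq hS h2 (Subgroup.mem_inf.1 hz).2), map_one]
    · rw [← map_mul, ← map_mul]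
      exact congrArg π (Subtype.ext (invSub_comm hS h2 (Or.inr hs) hzQ))
  have hqH : qSize (fixBase hS hX) (π ⟨t, htv⟩) = Nat.card cZ := by
    rw [qSize_eq hS' h2']
    symm
    refine Nat.card_eq_of_bijective (fun x : cZ =>
      (⟨π ⟨x, (Subgroup.mem_inf.1 x.2).1⟩, mem_invSub_of_sq hS' h2'
        ⟨⟨x, (Subgroup.mem_inf.1 x.2).1⟩, invSub_le_Q hS h2 (Subgroup.mem_inf.1 x.2).2, rfl⟩
        (by
          rw [← map_mul]
          exact (congrArg π (Subtype.ext (invSub_sq hS h2 (Subgroup.mem_inf.1 x.2).2) :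
            (⟨x, (Subgroup.mem_inf.1 x.2).1⟩ * ⟨x, (Subgroup.mem_inf.1 x.2).1⟩ :
              Subgroup.centralizer ({v} : Set G)) = 1)).trans (map_one π))⟩ : invSub hS' h2'))
      ⟨fun x y e => ?_, fun y => ?_⟩
    · have e' := congrArg Subtype.val (hinj (g := ⟨x, (Subgroup.mem_inf.1 x.2).1⟩)
        (g' := ⟨y, (Subgroup.mem_inf.1 y.2).1⟩) (invSub_le_Q hS h2 (Subgroup.mem_inf.1 x.2).2)
        (invSub_le_Q hS h2 (Subgroup.mem_inf.1 y.2).2) (congrArg Subtype.val e))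
      exact Subtype.ext e'
    · obtain ⟨g, hg, he⟩ := mem_fixQ.1 (invSub_le_Q hS' h2' y.2)
      have hsq : g * g = 1 := hinj (g := g * g) (g' := 1) (mul_mem hg hg) (one_mem Q) (by
        rw [map_mul, map_one, show π g = y.1 from he]
        exact invSub_sq hS' h2' y.2)
      exact ⟨⟨g, Subgroup.mem_inf.2 ⟨g.2, mem_invSub_of_sq hS h2 hg (congrArg Subtype.val hsq)⟩⟩,
        Subtype.ext he⟩
  have hcard : Nat.card (fixQ Ω ({v} : Set G) Q) = Nat.card cZ ^ 3 := by
    rw [card_fixQ hS hX, hCQ]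
  have hC' : IsCube (fixBase hS hX) (π ⟨t, htv⟩) (fixQ Ω ({v} : Set G) Q) := by
    refine ⟨(hC.isPGroup.comap_of_injective _ (Subgroup.centralizer ({v} : Set G)).subtype_injective).map π,
      by rw [hqH, hcard], ?_⟩
    by_contra hab
    push Not at hab
    set CQ := Subgroup.centralizer ({v} : Set G) ⊓ Q with hCQdef
    have hcomm : ∀ x ∈ CQ, ∀ y ∈ CQ, x * y = y * x := fun x hx y hy => by
      have h := hab _ (mem_fixQ.2 ⟨⟨x, (Subgroup.mem_inf.1 hx).1⟩, (Subgroup.mem_inf.1 hx).2, rfl⟩) _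
        (mem_fixQ.2 ⟨⟨y, (Subgroup.mem_inf.1 hy).1⟩, (Subgroup.mem_inf.1 hy).2, rfl⟩)
      rw [← map_mul, ← map_mul] at h
      exact congrArg Subtype.val (hinj (mul_mem (Subgroup.mem_inf.1 hx).2 (Subgroup.mem_inf.1 hy).2)
        (mul_mem (Subgroup.mem_inf.1 hy).2 (Subgroup.mem_inf.1 hx).2) h)
    let σ : CQ →* cZ := MonoidHom.mk' (fun x => ⟨(x : G) * x, Subgroup.mem_inf.2
      ⟨mul_mem (Subgroup.mem_inf.1 x.2).1 (Subgroup.mem_inf.1 x.2).1,
        cube_sq_mem hS h2 hC (Subgroup.mem_inf.1 x.2).2⟩⟩) fun x y => Subtype.ext (by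
      show (x : G) * y * (x * y) = (x : G) * x * (y * y)
      calc (x : G) * y * (x * y) = x * ((y : G) * x) * y := by group
        _ = _ := by rw [hcomm _ y.2 _ x.2]; group)
    have hker : Nat.card σ.ker ≤ Nat.card cZ :=
      Nat.card_le_card_of_injective (fun x => (⟨((x : CQ) : G), Subgroup.mem_inf.2
        ⟨(Subgroup.mem_inf.1 (x : CQ).2).1, mem_invSub_of_sq hS h2 (Subgroup.mem_inf.1 (x : CQ).2).2
          (congrArg Subtype.val x.2)⟩⟩ : cZ)) fun x y e => Subtype.ext (Subtype.ext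
            (congrArg (fun w : cZ => (w : G)) e :))
    have h1 := Subgroup.card_mul_index σ.ker
    rw [Subgroup.index_ker] at h1
    have h4 : Nat.card σ.range ≤ Nat.card cZ := Nat.card_le_card_of_injective Subtype.val Subtype.val_injective
    have h5 := Nat.mul_le_mul hker h4
    rw [h1, hCQ] at h5
    nlinarith
  refine IH _ hlt (fixGroup Ω ({v} : Set G)) (FixPts Ω ({v} : Set G)) _ _ _ rfl hS' h2' hC' ?_
  refine (Subgroup.eq_bot_iff_forall _).2 fun y hy => ?_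
  obtain ⟨hyD, hyc⟩ := (mem_wSub hS' h2').1 hy
  obtain ⟨g, rfl⟩ := fixElt_surjective _ y
  have hgD := (fix_twoStab hS hX htv).1 hyD
  have hgv : (g : G) ∈ Subgroup.zpowers v := by
    refine hlast g hgD fun x hx => ?_
    obtain ⟨hxc, hxZ⟩ := Subgroup.mem_inf.1 hx
    have hxQ := invSub_le_Q hS h2 hxZ
    have hmem : π ⟨x, hxc⟩ ∈ invSub hS' h2' := mem_invSub_of_sq hS' h2' (mem_fixQ.2 ⟨⟨x, hxc⟩, hxQ, rfl⟩) (by
      rw [← map_mul, show (⟨x, hxc⟩ * ⟨x, hxc⟩ : Subgroup.centralizer ({v} : Set G)) = 1 from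
        Subtype.ext (invSub_sq hS h2 hxZ), map_one])
    have h := hyc _ hmem
    rw [← map_mul] at h
    have h' : π (g * ⟨x, hxc⟩ * g⁻¹) = π ⟨x, hxc⟩ := by
      rw [map_mul, h, map_inv, mul_inv_cancel_right]
    exact mul_inv_eq_iff_eq_mul.1 (congrArg Subtype.val (hinj
      (hS.conj_mem g (Subgroup.mem_inf.1 hgD).1 x hxQ) hxQ h'))
  exact fixElt_eq_one.2 fun c => Subgroup.zpowers_le.2 (show v ∈ stabilizer G c.1 from c.2 v rfl) hgv

omit hS h2 in
theorem noTriv_all (m : ℕ) : NoTrivAt.{v} m := by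
  induction m using Nat.strong_induction_on with
  | _ m ih =>
    intro G Ω _ _ _ _ a t Q hm hS h2 hC
    exact noTriv_step hS h2 hC (fun k hk => ih k (hm ▸ hk))

/-- **`W` is not trivial.** -/
theorem wSub_ne_bot [FaithfulSMul G Ω] (hC : IsCube a t Q) : wSub a t ≠ ⊥ :=
  noTriv_step hS h2 hC fun m _ => noTriv_all m

end Cfsg.Agent.RankOne
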