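import Cfsg.Agent.Lib.RankOneW.Blocks
import Cfsg.Agent.Lib.RankOneW.GaloisStep

/-!
# The pocket `q = 8`, `|W| = 3` with `V` elementary abelian

Here the tori are moved into the product of the small group and `W`: otherwise an element without fixed
points would be conjugate to one with fixed points.
-/

set_option autoImplicit false
set_option linter.unusedSectionVars false

namespace Cfsg.Agent.RankOne

open MulAction

universe u v

/-- The exponent of a power map of order three modulo nine. -/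
theorem cube_root_nine (r : ℕ) (h : r ^ 3 % 9 = 1) : (1 + r + r * r) % 9 = 3 := by
  have hr : r % 9 < 9 := Nat.mod_lt _ (by omega)
  rw [Nat.pow_mod] at h
  rw [Nat.add_mod, Nat.add_mod 1, Nat.mul_mod]
  interval_cases (r % 9) <;> simp_all

variable {G : Type u} {Ω : Type v} [Group G] [MulAction G Ω] {a : Ω} {t : G} {Q : Subgroup G}
variable [Finite G] [FaithfulSMul G Ω] (hS : Cfsg.IsRankOneSetup G Ω a t Q)
  (h2 : ∃ x y : G, x ≠ 1 ∧ y ≠ 1 ∧ x ≠ y ∧ x * x = 1 ∧ y * y = 1 ∧ x * y = y * x)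
  (hC : IsCube a t Q) (hr : RInvol hS h2)
include hS h2 hC hr

/-- The factors in the product of the small group and `V` are unique. -/
theorem lu_unique {l l' u u' : G} (hl : l ∈ smallGroup a t) (hl' : l' ∈ smallGroup a t)
    (hu : u ∈ twoStab a t ⊓ Subgroup.centralizer {t}) (hu' : u' ∈ twoStab a t ⊓ Subgroup.centralizer {t})
    (e : l * u = l' * u') : l = l' ∧ u = u' := by
  have h1 : l'⁻¹ * l = u' * u⁻¹ := by
    calc l'⁻¹ * l = l'⁻¹ * (l * u) * u⁻¹ := by group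
      _ = _ := by rw [e]; group
  have hV : u' * u⁻¹ ∈ twoStab a t ⊓ Subgroup.centralizer {t} := mul_mem hu' (inv_mem hu)
  obtain ⟨hD, hc⟩ := Subgroup.mem_inf.1 hV
  have hK := small_twoStab hS h2 hr (h1 ▸ mul_mem (inv_mem hl') hl) hD
  have hkk : (u' * u⁻¹) * (u' * u⁻¹) = 1 := by
    have h := tkt_eq hS h2 hK
    rw [← Subgroup.mem_centralizer_singleton_iff.1 hc, mul_assoc, hS.mul_self, mul_one] at h
    exact mul_eq_one_iff_eq_inv.2 h
  have hk1 : u' * u⁻¹ = 1 :=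
    sq_inj (odd_orderOf hS.odd_card hD) (by simp) (by rw [hkk, mul_one])
  exact ⟨(inv_mul_eq_one.1 (h1.trans hk1)).symm, (mul_inv_eq_one.1 hk1).symm⟩

/-- An element of the small group times `u ∈ V` with three fixed points in `Δ` is conjugate to `u` under
the small group. -/
theorem conj_to_v {l u : G} (hl : l ∈ smallGroup a t) (hu : u ∈ twoStab a t ⊓ Subgroup.centralizer {t})
    {b₁ b₂ b₃ : Ω} (h1 : b₁ ∈ orbitSet hS h2) (h2' : b₂ ∈ orbitSet hS h2) (h3 : b₃ ∈ orbitSet hS h2)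
    (h12 : b₁ ≠ b₂) (h13 : b₁ ≠ b₃) (h23 : b₂ ≠ b₃) (e1 : (l * u) • b₁ = b₁) (e2 : (l * u) • b₂ = b₂)
    (e3 : (l * u) • b₃ = b₃) : ∃ y ∈ smallGroup a t, y⁻¹ * (l * u) * y = u := by
  obtain ⟨y₁, hy₁, hya, hyb⟩ := small_move hS h2 hr h1 h2' h12
  obtain ⟨huD, huc⟩ := Subgroup.mem_inf.1 hu
  set d := y₁⁻¹ * (l * u) * y₁ with hd
  have hfix : ∀ (p : Ω), (l * u) • (y₁ • p) = y₁ • p → d • p = p := fun p hp => by
    rw [hd, mul_smul, mul_smul, hp, inv_smul_smul]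
  have hdD : d ∈ twoStab a t := Subgroup.mem_inf.2 ⟨hfix a (by rw [hya, e1]), hfix _ (by rw [hyb, e2])⟩
  set k := d * u⁻¹ with hk
  have hkL : k ∈ smallGroup a t := by
    rw [hk, hd, show y₁⁻¹ * (l * u) * y₁ * u⁻¹ = y₁⁻¹ * l * (u * y₁ * u⁻¹) by group]
    exact mul_mem (mul_mem (inv_mem hy₁) hl) (conj_mem_small hS h2 huD hy₁)
  have hkK : k ∈ invK a t := small_twoStab hS h2 hr hkL (mul_mem hdD (inv_mem huD))
  have hb₃ : y₁⁻¹ • b₃ ∈ orbitSet hS h2 := smul_orbitSet hS h2 hr (inv_mem hy₁) h3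
  have hb₃a : y₁⁻¹ • b₃ ≠ a := fun e => h13 (by rw [← hya, ← e, smul_inv_smul])
  obtain ⟨z, hz, hzb⟩ := hb₃.resolve_left hb₃a
  have hz1 : z ≠ 1 := fun e => h23 (by
    subst e
    rw [one_smul] at hzb
    rw [← hyb, hzb, smul_inv_smul])
  have hdz : d * z * d⁻¹ = z := mem_centralizer_iff_fix hS hdD (invSub_le_Q hS h2 hz) hzb
    (hfix _ (by rw [smul_inv_smul, e3]))
  obtain ⟨⟨s, r⟩, ⟨hs, hrr, heq⟩, -⟩ := structure_equation hS
  have hsV := centralizer_t_eq hS hs hrr heq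
  obtain ⟨k₀, hk₀, hk₀s⟩ := inverted_transitive hS hs (hz.resolve_left hz1)
  have hk₀K : k₀ ∈ invK a t := Subgroup.subset_closure hk₀
  have hsd : k₀ * d * k₀⁻¹ ∈ twoStab a t ⊓ Subgroup.centralizer {t} := by
    rw [hsV]
    refine Subgroup.mem_inf.2 ⟨mul_mem (mul_mem (invK_le hS hk₀K) hdD) (inv_mem (invK_le hS hk₀K)),
      Subgroup.mem_centralizer_singleton_iff.2 ?_⟩
    have hdz' : d * z = z * d := mul_inv_eq_iff_eq_mul.1 hdz
    calc k₀ * d * k₀⁻¹ * s = k₀ * (d * z) * k₀⁻¹ := by rw [← hk₀s]; group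
      _ = k₀ * (z * d) * k₀⁻¹ := by rw [hdz']
      _ = _ := by rw [← hk₀s]; group
  have hk₀L := invK_le_small hS h2 hk₀K
  obtain ⟨-, e⟩ := lu_unique hS h2 hC hr
    (l := k₀ * k * (u * k₀⁻¹ * u⁻¹)) (l' := 1) (u := u) (u' := k₀ * d * k₀⁻¹)
    (mul_mem (mul_mem hk₀L hkL) (conj_mem_small hS h2 huD (inv_mem hk₀L))) (one_mem _) hu hsd
    (by rw [hk]; group)
  refine ⟨y₁ * k₀⁻¹, mul_mem hy₁ (inv_mem hk₀L), ?_⟩
  refine Eq.trans ?_ e.symm
  rw [hd]
  group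

/-- The `u`-part is multiplicative. -/
theorem lu_mul {l l' u u' : G} (hl : l ∈ smallGroup a t) (hl' : l' ∈ smallGroup a t)
    (hu : u ∈ twoStab a t ⊓ Subgroup.centralizer {t}) :
    ∃ l'' ∈ smallGroup a t, (l * u) * (l' * u') = l'' * (u * u') :=
  ⟨l * (u * l' * u⁻¹), mul_mem hl (conj_mem_small hS h2 (Subgroup.mem_inf.1 hu).1 hl'), by group⟩

theorem lu_pow {l u : G} (hl : l ∈ smallGroup a t) (hu : u ∈ twoStab a t ⊓ Subgroup.centralizer {t})
    (n : ℕ) : ∃ l' ∈ smallGroup a t, (l * u) ^ n = l' * u ^ n := by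
  induction n with
  | zero => exact ⟨1, one_mem _, by simp⟩
  | succ n ih =>
    obtain ⟨l', hl', e⟩ := ih
    obtain ⟨l'', hl'', e'⟩ := lu_mul hS h2 hC hr hl' hl (u' := u) (pow_mem hu n)
    exact ⟨l'', hl'', by rw [pow_succ, e, e', pow_succ]⟩

variable (hq : qSize a t = 8) (hW3 : Nat.card (wSub a t) = 3)
  (hV : Nat.card (twoStab a t ⊓ Subgroup.centralizer {t} : Subgroup G) = 9)
  (hexp : ∀ v ∈ twoStab a t ⊓ Subgroup.centralizer {t}, v ^ 3 = 1)
include hq hW3 hV hexp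

theorem pocket_comm {u u' : G} (hu : u ∈ twoStab a t ⊓ Subgroup.centralizer {t})
    (hu' : u' ∈ twoStab a t ⊓ Subgroup.centralizer {t}) : u * u' = u' * u := by
  have := Fact.mk Nat.prime_three
  exact congrArg Subtype.val ((IsPGroup.isMulCommutative_of_card_eq_prime_sq
    (G := (twoStab a t ⊓ Subgroup.centralizer {t} : Subgroup G)) (p := 3)
    (by rw [hV]; norm_num)).is_comm.comm ⟨u, hu⟩ ⟨u', hu'⟩)

/-- An element of `V` outside `W` centralises two elements of square one in `Q`. -/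
theorem fixInv_two {u : G} (hu : u ∈ twoStab a t ⊓ Subgroup.centralizer {t}) (huW : u ∉ wSub a t) :
    Nat.card (fixInv hS h2 u) = 2 := by
  obtain ⟨o, ho3, -, hon, -, hoq, -⟩ :=
    (exists_galois hS h2 (n := 3) (by rw [hq]; norm_num)).2 u hu huW
  have ho : o = 3 := le_antisymm (Nat.le_of_dvd (by norm_num) hon) ho3
  rw [ho, hq] at hoq
  exact Nat.pow_left_injective (by norm_num : (3 : ℕ) ≠ 0) (hoq.trans (by norm_num))

/-- The product of `u ∈ V ∖ W` with the commuting element of order three of `⟨s, t⟩` fixes a point, and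
that element fixes none. -/
theorem key_fixed {u s z : G} (hu : u ∈ twoStab a t ⊓ Subgroup.centralizer {t}) (huW : u ∉ wSub a t)
    (hs : s ∈ fixInv hS h2 u) (hs1 : s ≠ 1) (hz : z ∈ fixInv hS h2 u) (hz1 : z ≠ 1) :
    (∀ p : Ω, (t * z * t * s) • p ≠ p) ∧ ∃ p : Ω, (u * (t * z * t * s)) • p = p := by
  classical
  have := finite_points hS
  have hsI := hs.1.resolve_left hs1
  -- `t s t = s t s`
  obtain ⟨⟨s₀, r⟩, ⟨hs₀, hrr, heq⟩, huniq⟩ := structure_equation hS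
  obtain ⟨huD, huc⟩ := Subgroup.mem_inf.1 hu
  have hut : Commute u t := Subgroup.mem_centralizer_singleton_iff.1 huc
  have hus₀ : u * s₀ = s₀ * u := Subgroup.mem_centralizer_singleton_iff.1
    (Subgroup.mem_inf.1 (centralizer_t_eq hS hs₀ hrr heq ▸ hu)).2
  have hpair : ∀ x ∈ fixInv hS h2 u, x ≠ 1 → x = s₀ := by
    intro x hx hx1
    by_contra hne
    have hs₀m : s₀ ∈ fixInv hS h2 u := ⟨Or.inr hs₀, hus₀⟩
    have h1m : (1 : G) ∈ fixInv hS h2 u := ⟨one_mem _, by rw [mul_one, one_mul]⟩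
    let f : Fin 3 → fixInv hS h2 u := ![⟨1, h1m⟩, ⟨x, hx⟩, ⟨s₀, hs₀m⟩]
    have hf : Function.Injective f := by
      intro i j h
      have hval := congrArg (fun y : fixInv hS h2 u => (y : G)) h
      have hs₀1 : s₀ ≠ 1 := ((mem_involutionsIn hS).1 hs₀).1.1
      fin_cases i <;> fin_cases j <;> simp [f] at hval ⊢ <;>
        first
          | exact hx1 hval
          | exact hx1 hval.symm
          | exact hne hval
          | exact hne hval.symm
          | exact hs₀1 hval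
          | exact hs₀1 hval.symm
    have hle := Nat.card_le_card_of_injective f hf
    rw [Nat.card_fin, fixInv_two hS h2 hC hr hq hW3 hV hexp hu huW] at hle
    omega
  have hss : s = s₀ := hpair s hs hs1
  have hzz : z = s₀ := hpair z hz hz1
  have hrZ : r ∈ invSub hS h2 := by
    obtain ⟨s', hs', r', hr', heq'⟩ := hr
    have h := huniq (s', r') ⟨hs', invSub_le_Q hS h2 hr', heq'⟩
    rw [← show r' = r from congrArg Prod.snd h]
    exact hr'
  have hur : u * r = r * u := by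
    have h := huniq (s₀, u * r * u⁻¹) ⟨hs₀, hS.conj_mem u (Subgroup.mem_inf.1 huD).1 r hrr, ?_⟩
    · exact mul_inv_eq_iff_eq_mul.1 (congrArg Prod.snd h)
    · show t * s₀ * t = (u * r * u⁻¹)⁻¹ * t * (u * r * u⁻¹)
      calc t * s₀ * t = t * (u * s₀ * u⁻¹) * t := by rw [hus₀]; group
        _ = (t * u) * s₀ * (u⁻¹ * t) := by group
        _ = u * (t * s₀ * t) * u⁻¹ := by rw [← hut.eq, hut.inv_left.eq]; group
        _ = u * (r⁻¹ * t * r) * u⁻¹ := by rw [heq]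
        _ = (u * r⁻¹) * (t * u⁻¹) * (u * r * u⁻¹) := by group
        _ = _ := by rw [← hut.inv_left.eq]; group
  have hti := t_invol hS
  have hsi := ((mem_involutionsIn hS).1 hs₀)
  have hrs : r = s₀ := by
    refine hpair r ⟨hrZ, hur⟩ fun e => ?_
    subst e
    rw [inv_one, one_mul, mul_one] at heq
    refine hS.not_mem ?_
    have e' : s₀ = t := by
      calc s₀ = (t * t) * s₀ * (t * t) := by rw [hS.mul_self, one_mul, mul_one]
        _ = t * (t * s₀ * t) * t := by group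
        _ = t := by rw [heq, hS.mul_self, one_mul]
    exact e' ▸ mem_stabilizer_iff.2 hsi.2
  rw [hrs, hsi.1.inv_eq] at heq
  rw [hzz, hss]
  set e := t * s₀ * t * s₀ with he
  have he3 : e ^ 3 = 1 := by
    have e1 : e = s₀ * t := by
      rw [he, heq, show s₀ * t * s₀ * s₀ = s₀ * t * (s₀ * s₀) by group, hsi.1.2, mul_one]
    rw [e1, pow_succ, pow_two, show s₀ * t * (s₀ * t) * (s₀ * t) = (s₀ * t * s₀) * (t * s₀ * t) by group,
      heq, show (s₀ * t * s₀) * (s₀ * t * s₀) = s₀ * t * (s₀ * s₀) * t * s₀ by group, hsi.1.2, mul_one,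
      show s₀ * t * t * s₀ = s₀ * (t * t) * s₀ by group, hS.mul_self, mul_one, hsi.1.2]
  have heL : e ∈ smallGroup a t := mul_mem (mul_mem (mul_mem (t_mem_small hS h2)
    (invSub_le_small hS h2 (Or.inr hs₀))) (t_mem_small hS h2)) (invSub_le_small hS h2 (Or.inr hs₀))
  have he1 : e ≠ 1 := fun h => by
    have h' : t * s₀ * t = s₀ := by
      calc t * s₀ * t = e * s₀⁻¹ := by rw [he]; group
        _ = s₀ := by rw [h, one_mul, hsi.1.inv_eq]
    have h5 : (t * s₀ * t) • (t • a) = t • a := by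
      rw [mul_smul, mul_smul, t_smul_ta hS h2, hsi.2]
    rw [h'] at h5
    exact ta_ne hS (fixed_unique hS hsi.1 h5 hsi.2)
  have heo : orderOf e = 3 := by
    have := Fact.mk Nat.prime_three
    exact orderOf_eq_prime he3 he1
  have hef : IsFree hS h2 e := by
    refine ⟨heL, he1, heo ▸ by decide, fun c hc hec => ?_⟩
    have h := (small_fix_orbit hS h2 hr heL he1 (heo ▸ by decide) hc hec).1
    rw [heo, hq] at h
    omega
  refine ⟨fun p => ?_, ?_⟩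
  · by_cases hp : p ∈ orbitSet hS h2
    · exact hef.free p hp
    · exact small_semiregular hS h2 hr heL he1 hp
  obtain ⟨hcyc, hcard⟩ := torus_spec hS h2 hr hef
  set T := torus a t e with hT
  have hue : Commute u e := ((hut.mul_right hus₀).mul_right hut).mul_right hus₀
  have hmem : ∀ τ : T, (τ : G) * (u * (τ : G)⁻¹ * u⁻¹) ∈ T := fun τ => by
    refine mul_mem τ.2 (mem_torus.2 ⟨conj_mem_small hS h2 huD (inv_mem (mem_torus.1 τ.2).1), ?_⟩)
    exact ((hue.mul_left (show Commute (τ : G) e from (mem_torus.1 τ.2).2).inv_left).mul_left hue.inv_left).eq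
  let φ : T →* T :=
    { toFun := fun τ => ⟨_, hmem τ⟩
      map_one' := Subtype.ext (by simp)
      map_mul' := fun σ τ => Subtype.ext (by
        show (σ : G) * τ * (u * ((σ : G) * τ)⁻¹ * u⁻¹) =
          (σ : G) * (u * (σ : G)⁻¹ * u⁻¹) * ((τ : G) * (u * (τ : G)⁻¹ * u⁻¹))
        have hc : Commute (u * (σ : G)⁻¹ * u⁻¹) ((τ : G) * (u * (τ : G)⁻¹ * u⁻¹)) := by
          refine torus_comm hS h2 hr hef ?_ (hmem τ)
          have h := mul_mem (inv_mem σ.2) (hmem σ)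
          rwa [← mul_assoc, inv_mul_cancel, one_mul] at h
        rw [mul_assoc (σ : G) (u * (σ : G)⁻¹ * u⁻¹), hc.eq]
        group) }
  have hker : Nat.card φ.ker ≤ 3 := by
    have hle := card_fixed_orbit hS h2 hC hr huD
    rw [fixInv_two hS h2 hC hr hq hW3 hV hexp hu huW] at hle
    refine le_trans (Nat.card_le_card_of_injective (fun τ : φ.ker =>
      (⟨((τ : T) : G) • a, smul_orbitSet hS h2 hr (mem_torus.1 (τ : T).2).1 (Or.inl rfl), ?_⟩ :
        {p : Ω // p ∈ orbitSet hS h2 ∧ u • p = p})) ?_) hle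
    · have h : ((τ : T) : G) * (u * ((τ : T) : G)⁻¹ * u⁻¹) = 1 :=
        congrArg Subtype.val (MonoidHom.mem_ker.1 τ.2)
      have h' : ((τ : T) : G) * u = u * ((τ : T) : G) := by
        rw [← mul_assoc, mul_inv_eq_one, ← mul_assoc, mul_inv_eq_iff_eq_mul] at h
        exact h
      rw [← mul_smul, ← h', mul_smul, (mem_twoStab hS huD).1]
    · intro σ τ h
      by_contra hne
      have h' : ((σ : T) : G) • a = ((τ : T) : G) • a :=
        congrArg (fun p : {p : Ω // p ∈ orbitSet hS h2 ∧ u • p = p} => (p : Ω)) h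
      refine (torus_isFree hS h2 hr hef (mul_mem (inv_mem (τ : T).2) (σ : T).2)
        (fun e' => hne (Subtype.ext (Subtype.ext (inv_mul_eq_one.1 e').symm)))).free a (Or.inl rfl) ?_
      rw [mul_smul, h', inv_smul_smul]
  have hran : 3 ∣ Nat.card φ.range := by
    have h := φ.ker.card_mul_index
    rw [hcard, hq, Subgroup.index_ker] at h
    have hd : Nat.card φ.range ∣ 9 := Dvd.intro_left _ h
    have : Nat.card φ.range = 1 ∨ Nat.card φ.range = 3 ∨ Nat.card φ.range = 9 := by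
      obtain ⟨j, hj, e'⟩ := (Nat.dvd_prime_pow Nat.prime_three).1 (show Nat.card φ.range ∣ 3 ^ 2 from hd)
      interval_cases j <;> rw [e'] <;> norm_num
    rcases this with e' | e' | e'
    · rw [e', mul_one] at h; omega
    · rw [e']
    · rw [e']; norm_num
  have := Fact.mk Nat.prime_three
  obtain ⟨y, hy⟩ := exists_prime_orderOf_dvd_card' 3 hran
  have := hcyc
  have heT : e ∈ T := self_mem_torus hS h2 hr hef
  have hz : (⟨e, heT⟩ : T) ∈ φ.range := by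
    have hzz := zpowers_eq_of_cyclic (x := (⟨e, heT⟩ : T)) (y := (y : T))
      (by rw [Subgroup.orderOf_mk, heo, Subgroup.orderOf_coe, hy])
    exact (Subgroup.zpowers_le.2 y.2) (hzz ▸ Subgroup.mem_zpowers _)
  obtain ⟨τ, hτ⟩ := hz
  have hτ' : (τ : G) * (u * (τ : G)⁻¹ * u⁻¹) = e := congrArg Subtype.val hτ
  refine ⟨(τ : G) • a, ?_⟩
  rw [hue.eq, ← hτ', ← mul_smul, show (τ : G) * (u * (τ : G)⁻¹ * u⁻¹) * u * τ = τ * u by group,
    mul_smul, (mem_twoStab hS huD).1]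

/-- Two involutions with distinct fixed points commuting with a conjugate of `u ∈ V ∖ W`: their product
fixes no point, and fixes one after multiplication by that conjugate. -/
theorem pair_fixed {v c u j₁ j₂ : G} (hu : u ∈ twoStab a t ⊓ Subgroup.centralizer {t})
    (huW : u ∉ wSub a t) (hc : c⁻¹ * v * c = u) (h1 : IsInvol j₁) (h2' : IsInvol j₂)
    (c1 : Commute v j₁) (c2 : Commute v j₂) {p₁ p₂ : Ω} (e1 : j₁ • p₁ = p₁) (e2 : j₂ • p₂ = p₂)
    (hne : p₁ ≠ p₂) : (∀ p : Ω, (j₂ * j₁) • p ≠ p) ∧ ∃ p : Ω, (v * (j₂ * j₁)) • p = p := by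
  obtain ⟨h, ha, hb⟩ := exists_smul_pair hS (ta_ne hS).symm hne
  obtain ⟨⟨s, r⟩, ⟨hs, hrr, heq⟩, -⟩ := structure_equation hS
  set i₁ := h⁻¹ * j₁ * h with hi₁
  have hi₁i : IsInvol i₁ := by simpa only [inv_inv] using h1.conj h⁻¹
  have hi₁a : i₁ • a = a := by rw [hi₁, mul_smul, mul_smul, ha, e1, inv_smul_eq_iff, ha]
  obtain ⟨k, hk, hks⟩ := inverted_transitive hS hs ((mem_involutionsIn hS).2 ⟨hi₁i, hi₁a⟩)
  obtain ⟨hka, hkb⟩ := mem_twoStab hS (invK_le hS (Subgroup.subset_closure hk))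
  set q := h * k⁻¹ with hq'
  have hqa : q • a = p₁ := by rw [hq', mul_smul, inv_smul_eq_iff.2 hka.symm, ha]
  have hqb : q • (t • a) = p₂ := by rw [hq', mul_smul, inv_smul_eq_iff.2 hkb.symm, hb]
  have hqs : q⁻¹ * j₁ * q = s := by
    calc q⁻¹ * j₁ * q = k * i₁ * k⁻¹ := by rw [hq', hi₁]; group
      _ = s := by rw [← hks]; group
  have hvp : ∀ {j : G} {p : Ω}, IsInvol j → Commute v j → j • p = p → v • p = p := by
    intro j p hj hcj hp
    refine fixed_unique hS hj ?_ hp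
    rw [← mul_smul, ← hcj.eq, mul_smul, hp]
  set d := q⁻¹ * v * q with hd
  have hdD : d ∈ twoStab a t := Subgroup.mem_inf.2
    ⟨by rw [mem_stabilizer_iff, hd, mul_smul, mul_smul, hqa, hvp h1 c1 e1, inv_smul_eq_iff, hqa],
      by rw [mem_stabilizer_iff, hd, mul_smul, mul_smul, hqb, hvp h2' c2 e2, inv_smul_eq_iff, hqb]⟩
  have hcd : ∀ {j : G}, Commute v j → Commute d (q⁻¹ * j * q) := fun {j} hj => by
    show d * (q⁻¹ * j * q) = q⁻¹ * j * q * d
    calc d * (q⁻¹ * j * q) = q⁻¹ * (v * j) * q := by rw [hd]; group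
      _ = q⁻¹ * (j * v) * q := by rw [hj.eq]
      _ = _ := by rw [hd]; group
  have hds : Commute d s := hqs ▸ hcd c1
  have hdV : d ∈ twoStab a t ⊓ Subgroup.centralizer {t} := by
    rw [centralizer_t_eq hS hs hrr heq]
    exact Subgroup.mem_inf.2 ⟨hdD, Subgroup.mem_centralizer_singleton_iff.2 hds.eq⟩
  have hdW : d ∉ wSub a t := fun hdw => huW (mem_wSub_of_fused hS h2 (g := q⁻¹ * c) hu (by
    rw [← hc, show q⁻¹ * c * (c⁻¹ * v * c) * (q⁻¹ * c)⁻¹ = q⁻¹ * v * q by group]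
    exact hdw))
  have hdt : Commute d t := Subgroup.mem_centralizer_singleton_iff.1 (Subgroup.mem_inf.1 hdV).2
  set z := t * (q⁻¹ * j₂ * q) * t with hz
  have hzi : IsInvol z := by
    have h := (show IsInvol (q⁻¹ * j₂ * q) from by simpa only [inv_inv] using h2'.conj q⁻¹).conj t
    rwa [(t_invol hS).inv_eq] at h
  have hza : z • a = a := by
    rw [hz, mul_smul, mul_smul, mul_smul, mul_smul, hqb, e2, inv_smul_eq_iff.2 hqb.symm,
      t_smul_ta hS h2]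
  have hzf : z ∈ fixInv hS h2 d :=
    ⟨Or.inr ((mem_involutionsIn hS).2 ⟨hzi, hza⟩), ((hdt.mul_right (hcd c2)).mul_right hdt).eq⟩
  have hsf : s ∈ fixInv hS h2 d := ⟨Or.inr hs, hds.eq⟩
  obtain ⟨hfree, p, hp⟩ := key_fixed hS h2 hC hr hq hW3 hV hexp hdV hdW hsf
    ((mem_involutionsIn hS).1 hs).1.1 hzf hzi.1
  have he : t * z * t * s = q⁻¹ * (j₂ * j₁) * q := by
    calc t * z * t * s = (t * t) * (q⁻¹ * j₂ * q) * (t * t) * s := by rw [hz]; group
      _ = _ := by rw [hS.mul_self, ← hqs]; group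
  refine ⟨fun p' hp' => hfree (q⁻¹ • p') ?_, q • p, ?_⟩
  · rw [he, mul_smul, smul_inv_smul, mul_smul, hp']
  · have h' : d * (t * z * t * s) = q⁻¹ * (v * (j₂ * j₁)) * q := by rw [he, hd]; group
    rwa [h', mul_smul, mul_smul, inv_smul_eq_iff] at hp

variable {ω : Ω} (hω : ω ∉ orbitSet hS h2)
include hω

/-- An element of the product of the small group and `V`, centralising `ι`, is a torus element times a
conjugate of its `u`-part fixing `a`. -/
theorem torus_decomp {ι l u : G} (hι : IsFree hS h2 ι) (hι3 : ι ^ 3 = 1) (hl : l ∈ smallGroup a t)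
    (hu : u ∈ twoStab a t ⊓ Subgroup.centralizer {t}) (hc : Commute (l * u) ι) :
    ∃ σ ∈ torus a t ι, ∃ l₁ ∈ smallGroup a t, l * u = σ * (l₁ * u) ∧ (l₁ * u) • a = a ∧
      Commute (l₁ * u) ι ∧ (l₁ * u) ^ 3 = 1 := by
  have ha : a ∈ orbitSet hS h2 := Or.inl rfl
  have hua : u • a = a := (mem_twoStab hS (Subgroup.mem_inf.1 hu).1).1
  obtain ⟨σ, hσ, hσa⟩ := torus_transitive hS h2 hC hr hι ha (smul_orbitSet hS h2 hr hl ha)
  have hfix : ((σ⁻¹ * l) * u) • a = a := by rw [mul_smul, hua, mul_smul, ← hσa, inv_smul_smul]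
  have hcs : Commute σ ι := (mem_torus.1 hσ).2
  have hc₁ : Commute ((σ⁻¹ * l) * u) ι := by rw [mul_assoc]; exact hcs.inv_left.mul_left hc
  refine ⟨σ, hσ, σ⁻¹ * l, mul_mem (inv_mem (mem_torus.1 hσ).1) hl, by group, hfix, hc₁, ?_⟩
  set v₁ := (σ⁻¹ * l) * u
  have hιa : ∀ j : ℕ, v₁ • (ι ^ j • a) = ι ^ j • a := fun j => by
    rw [← mul_smul, (hc₁.pow_right j).eq, mul_smul, hfix]
  have hne : ∀ j : ℕ, j ≠ 0 → j < 3 → ι ^ j • a ≠ a := fun j hj hj3 h' => by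
    refine (torus_isFree hS h2 hr hι (pow_mem (self_mem_torus hS h2 hr hι) j) fun e => ?_).free a ha h'
    have := Fact.mk Nat.prime_three
    have hd := orderOf_dvd_of_pow_eq_one e
    rw [orderOf_eq_prime hι3 hι.ne_one] at hd
    have := Nat.le_of_dvd (by omega) hd
    omega
  obtain ⟨y, -, hye⟩ := conj_to_v hS h2 hC hr (mul_mem (inv_mem (mem_torus.1 hσ).1) hl) hu
    (b₁ := a) (b₂ := ι • a) (b₃ := ι ^ 2 • a) ha (smul_orbitSet hS h2 hr hι.mem ha)
    (smul_orbitSet hS h2 hr (pow_mem hι.mem 2) ha)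
    (fun h' => hne 1 one_ne_zero (by omega) (by rw [pow_one]; exact h'.symm))
    (fun h' => hne 2 two_ne_zero (by omega) h'.symm)
    (fun h' => hne 1 one_ne_zero (by omega) (by
      rw [pow_one]
      refine MulAction.injective ι ?_
      show ι • (ι • a) = ι • a
      rw [← mul_smul, ← pow_two]
      exact h'.symm))
    hfix (by simpa using hιa 1) (hιa 2)
  rw [show v₁ = y * (y⁻¹ * v₁ * y) * y⁻¹ by group, hye, conj_pow, hexp u hu]
  group

/-- An element fixing `a` and centralising `ι`, whose `u`-part is not in `W`, moves the torus. -/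
theorem exists_moved {ι v₁ l u : G} (hι : IsFree hS h2 ι) (hι3 : ι ^ 3 = 1) (hl : l ∈ smallGroup a t)
    (hu : u ∈ twoStab a t ⊓ Subgroup.centralizer {t}) (huW : u ∉ wSub a t) (hv : v₁ = l * u)
    (hfix : v₁ • a = a) (hc : Commute v₁ ι) (h3 : v₁ ^ 3 = 1) :
    (∀ σ ∈ torus a t ι, σ * (v₁ * σ⁻¹ * v₁⁻¹) ∈ torus a t ι ∧
      (σ * (v₁ * σ⁻¹ * v₁⁻¹)) ^ 3 = 1) ∧
    (∀ σ ∈ torus a t ι, (σ * v₁) ^ 3 = σ ^ 3) ∧
    ∀ ε ∈ torus a t ι, ε ^ 3 = 1 → ∃ σ ∈ torus a t ι, σ * (v₁ * σ⁻¹ * v₁⁻¹) = ε := by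
  classical
  have := finite_points hS
  obtain ⟨hcyc, hcard⟩ := torus_spec hS h2 hr hι
  rw [hq] at hcard
  set T := torus a t ι with hT
  have ha : a ∈ orbitSet hS h2 := Or.inl rfl
  have hconj : ∀ σ ∈ T, v₁ * σ * v₁⁻¹ ∈ T := fun σ hσ => by
    refine mem_torus.2 ⟨?_, ?_⟩
    · rw [hv, show l * u * σ * (l * u)⁻¹ = l * (u * σ * u⁻¹) * l⁻¹ by group]
      exact mul_mem (mul_mem hl (conj_mem_small hS h2 (Subgroup.mem_inf.1 hu).1 (mem_torus.1 hσ).1))
        (inv_mem hl)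
    · exact ((hc.mul_left (show Commute σ ι from (mem_torus.1 hσ).2)).mul_left hc.inv_left).eq
  obtain ⟨τ, hτ⟩ := hcyc.exists_generator
  have hτo : orderOf (τ : G) = 9 := by
    rw [Subgroup.orderOf_coe, orderOf_eq_card_of_forall_mem_zpowers hτ, hcard]
  have hpow : ∀ σ ∈ T, ∃ j : ℕ, (τ : G) ^ j = σ := fun σ hσ => by
    have h := hτ ⟨σ, hσ⟩
    rw [← mem_powers_iff_mem_zpowers] at h
    obtain ⟨j, hj⟩ := h
    exact ⟨j, by rw [← SubgroupClass.coe_pow]; exact congrArg Subtype.val hj⟩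
  obtain ⟨r, hr'⟩ := hpow _ (hconj _ τ.2)
  have hit : ∀ j : ℕ, v₁ ^ j * (τ : G) * (v₁ ^ j)⁻¹ = (τ : G) ^ r ^ j := by
    intro j
    induction j with
    | zero => simp
    | succ j ih =>
      calc v₁ ^ (j + 1) * (τ : G) * (v₁ ^ (j + 1))⁻¹
          = v₁ ^ j * (v₁ * τ * v₁⁻¹) * (v₁ ^ j)⁻¹ := by rw [pow_succ]; group
        _ = (v₁ ^ j * τ * (v₁ ^ j)⁻¹) ^ r := by rw [← hr', conj_pow]
        _ = _ := by rw [ih, ← pow_mul, ← pow_succ]
  have hr3 : r ^ 3 % 9 = 1 := by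
    have h := hit 3
    rw [h3, inv_one, mul_one, one_mul] at h
    have h' : (τ : G) ^ 1 = (τ : G) ^ r ^ 3 := by rw [pow_one]; exact h
    rw [pow_eq_pow_iff_modEq, hτo] at h'
    exact h'.symm
  have hN := cube_root_nine r hr3
  have hconjσ : ∀ j : ℕ, v₁ * (τ : G) ^ j * v₁⁻¹ = (τ : G) ^ (r * j) := fun j => by
    rw [← conj_pow, ← hr', ← pow_mul]
  refine ⟨fun σ hσ => ?_, fun σ hσ => ?_, fun ε hε hε3 => ?_⟩
  · have hm : σ * (v₁ * σ⁻¹ * v₁⁻¹) ∈ T := mul_mem hσ (hconj _ (inv_mem hσ))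
    refine ⟨hm, ?_⟩
    obtain ⟨j, rfl⟩ := hpow σ hσ
    have e : (τ : G) ^ j * (v₁ * ((τ : G) ^ j)⁻¹ * v₁⁻¹) = (τ : G) ^ j * ((τ : G) ^ (r * j))⁻¹ := by
      rw [← conj_inv, hconjσ]
    rw [e, (((Commute.refl (τ : G)).pow_pow j (r * j)).inv_right).mul_pow, inv_pow, ← pow_mul,
      ← pow_mul, mul_inv_eq_one, pow_eq_pow_iff_modEq, hτo]
    have hr1 : r % 3 = 1 := by
      have hlt : r % 9 < 9 := Nat.mod_lt _ (by omega)
      rw [Nat.pow_mod] at hr3
      have h39 : r % 3 = r % 9 % 3 := (Nat.mod_mod_of_dvd r (by norm_num : 3 ∣ 9)).symm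
      rw [h39]
      interval_cases (r % 9) <;> simp_all
    show j * 3 % 9 = r * j * 3 % 9
    rw [Nat.mul_mod_mul_right 3 j 3, Nat.mul_mod_mul_right 3 (r * j) 3, Nat.mul_mod, hr1, one_mul,
      Nat.mod_mod]
  · obtain ⟨j, rfl⟩ := hpow σ hσ
    calc ((τ : G) ^ j * v₁) ^ 3
        = (τ : G) ^ j * (v₁ * (τ : G) ^ j * v₁⁻¹) * (v₁ * (v₁ * (τ : G) ^ j * v₁⁻¹) * v₁⁻¹) * v₁ ^ 3 := by
          rw [pow_succ, pow_two, pow_succ, pow_two]; group
      _ = (τ : G) ^ (j + r * j + r * (r * j)) := by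
          rw [hconjσ, hconjσ, h3, mul_one, pow_add, pow_add]
      _ = _ := by
          rw [← pow_mul, pow_eq_pow_iff_modEq, hτo]
          show (j + r * j + r * (r * j)) % 9 = j * 3 % 9
          rw [show j + r * j + r * (r * j) = j * (1 + r + r * r) by ring, Nat.mul_mod, hN,
            ← Nat.mul_mod_mod]
          simp [Nat.mul_mod]
  · -- the image of `σ ↦ σ (v₁ σ⁻¹ v₁⁻¹)` is not trivial
    obtain ⟨y, hyL, hye⟩ : ∃ y ∈ smallGroup a t, y⁻¹ * v₁ * y = u := by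
      have hιa : ∀ j : ℕ, v₁ • (ι ^ j • a) = ι ^ j • a := fun j => by
        rw [← mul_smul, (hc.pow_right j).eq, mul_smul, hfix]
      have hne : ∀ j : ℕ, j ≠ 0 → j < 3 → ι ^ j • a ≠ a := fun j hj hj3 h' => by
        refine (torus_isFree hS h2 hr hι (pow_mem (self_mem_torus hS h2 hr hι) j) fun e => ?_).free a ha h'
        have := Fact.mk Nat.prime_three
        have hd := orderOf_dvd_of_pow_eq_one e
        rw [orderOf_eq_prime hι3 hι.ne_one] at hd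
        have := Nat.le_of_dvd (by omega) hd
        omega
      rw [hv]
      refine conj_to_v hS h2 hC hr hl hu (b₁ := a) (b₂ := ι • a) (b₃ := ι ^ 2 • a) ha
        (smul_orbitSet hS h2 hr hι.mem ha) (smul_orbitSet hS h2 hr (pow_mem hι.mem 2) ha)
        (fun h' => hne 1 one_ne_zero (by omega) (by rw [pow_one]; exact h'.symm))
        (fun h' => hne 2 two_ne_zero (by omega) h'.symm)
        (fun h' => hne 1 one_ne_zero (by omega) (by
          rw [pow_one]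
          refine MulAction.injective ι ?_
          show ι • (ι • a) = ι • a
          rw [← mul_smul, ← pow_two]
          exact h'.symm)) ?_ ?_ ?_
      · rw [← hv]; exact hfix
      · rw [← hv]; simpa using hιa 1
      · rw [← hv]; exact hιa 2
    have hex : ∃ σ ∈ T, σ * (v₁ * σ⁻¹ * v₁⁻¹) ≠ 1 := by
      by_contra hno
      push Not at hno
      refine huW (mem_wSub_of_fix_orbit hS h2 hC hr fun p hp => ?_)
      have hyΔ := smul_orbitSet hS h2 hr hyL hp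
      obtain ⟨σ, hσ, hσp⟩ := torus_transitive hS h2 hC hr hι ha hyΔ
      have hσc : v₁ * σ = σ * v₁ := by
        have h := hno σ hσ
        rw [← mul_assoc, mul_inv_eq_one, ← mul_assoc, mul_inv_eq_iff_eq_mul] at h
        exact h.symm
      rw [← hye, mul_smul, mul_smul, ← hσp, ← mul_smul v₁, hσc, mul_smul, hfix, hσp, inv_smul_smul]
    obtain ⟨σ, hσ, hσ1⟩ := hex
    have hm : σ * (v₁ * σ⁻¹ * v₁⁻¹) ∈ T := mul_mem hσ (hconj _ (inv_mem hσ))
    set ε₀ := σ * (v₁ * σ⁻¹ * v₁⁻¹) with hε₀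
    obtain ⟨j₀, hj₀⟩ := hpow σ hσ
    have hε₀3 : ε₀ ^ 3 = 1 := by
      rw [hε₀, ← hj₀, ← conj_inv, hconjσ, (((Commute.refl (τ : G)).pow_pow j₀ (r * j₀)).inv_right).mul_pow,
        inv_pow, ← pow_mul, ← pow_mul, mul_inv_eq_one, pow_eq_pow_iff_modEq, hτo]
      have hr1 : r % 3 = 1 := by
        have hlt : r % 9 < 9 := Nat.mod_lt _ (by omega)
        rw [Nat.pow_mod] at hr3
        have h39 : r % 3 = r % 9 % 3 := (Nat.mod_mod_of_dvd r (by norm_num : 3 ∣ 9)).symm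
        rw [h39]
        interval_cases (r % 9) <;> simp_all
      show j₀ * 3 % 9 = r * j₀ * 3 % 9
      rw [Nat.mul_mod_mul_right 3 j₀ 3, Nat.mul_mod_mul_right 3 (r * j₀) 3, Nat.mul_mod, hr1, one_mul,
        Nat.mod_mod]
    have := Fact.mk Nat.prime_three
    have hmemz : (⟨ε, hε⟩ : T) ∈ Subgroup.zpowers (⟨ε₀, hm⟩ : T) := by
      by_cases hε1 : ε = 1
      · subst hε1
        exact one_mem _
      · haveI := hcyc
        rw [← zpowers_eq_of_cyclic (x := (⟨ε, hε⟩ : T)) (y := (⟨ε₀, hm⟩ : T))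
          (by rw [Subgroup.orderOf_mk, Subgroup.orderOf_mk, orderOf_eq_prime hε3 hε1,
            orderOf_eq_prime hε₀3 hσ1])]
        exact Subgroup.mem_zpowers _
    rw [← mem_powers_iff_mem_zpowers] at hmemz
    obtain ⟨m, hm'⟩ := hmemz
    refine ⟨σ ^ m, pow_mem hσ m, ?_⟩
    have e : ε₀ ^ m = ε := by rw [← SubgroupClass.coe_pow (⟨ε₀, hm⟩ : T)]; exact congrArg Subtype.val hm'
    have hcm : Commute σ (v₁ * σ⁻¹ * v₁⁻¹) :=
      torus_comm hS h2 hr hι hσ (hconj _ (inv_mem hσ))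
    rw [← e, hε₀, hcm.mul_pow, conj_pow, inv_pow]

omit hω in
/-- The pull-back of `W` lies in the product of the small group and `W`. -/
theorem pull_wSub {η : Ω} (hη : η ∉ orbitSet hS h2) {g₀ : G} (hg₀ : ConjMate a t η g₀) :
    ∀ w ∈ wSub a t, g₀⁻¹ * w * g₀ ∈ smallGroup a t ⊔ wSub a t := by
  classical
  intro w hw
  have hW : wSub a t ≠ ⊥ := fun e => by rw [e, Subgroup.card_bot] at hW3; omega
  have := Fact.mk Nat.prime_three
  set x := g₀⁻¹ * w * g₀ with hx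
  have hxW : ∀ w₀ ∈ wSub a t, w₀ * x = x * w₀ := by
    intro w₀ hw₀
    have hm := (hg₀ w₀).2 hw₀
    obtain ⟨z, hz, e⟩ := (mem_mate hS h2 hC hr hη).1 hm
    have hc : Commute w (g₀ * w₀ * g₀⁻¹) := by
      rw [e]
      exact (show Commute w (iota hS h2 hC hr hη hz) from
        wSub_comm_small hS h2 hC hr hw (iota_mem hS h2 hC hr hη hz)).inv_right.mul_right
        (wSub_comm hS h2 hC hr hη hW hw hz)
    calc w₀ * x = g₀⁻¹ * ((g₀ * w₀ * g₀⁻¹) * w) * g₀ := by rw [hx]; group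
      _ = x * w₀ := by rw [← hc.eq, hx]; group
  by_cases hw1 : w = 1
  · subst hw1
    simpa [hx] using one_mem (smallGroup a t ⊔ wSub a t)
  obtain ⟨l, hl, u, hu, e⟩ := exists_lv hS h2 hr fun p hp => orbit_of_comm hS h2 hC hr hW hxW hp
  by_cases huW : u ∈ wSub a t
  · exact e ▸ mul_mem (Subgroup.mem_sup_left hl) (Subgroup.mem_sup_right huW)
  exfalso
  set p := g₀⁻¹ • a with hpdef
  have hxp : x • p = p := by
    rw [hx, hpdef, mul_smul, mul_smul, smul_inv_smul, (mem_twoStab hS (wSub_le hS h2 hw)).1]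
  have hΔout : ∀ b ∈ orbitSet hS h2, x • b ≠ b := by
    intro b hb hxb
    rw [hx, mul_smul, mul_smul, inv_smul_eq_iff] at hxb
    exact push_orbit hS h2 hC hr hη hW hg₀ hb (wSub_fixed_mem hS h2 hC hr hw hw1 hxb)
  have hpout : p ∉ orbitSet hS h2 := fun h => hΔout p h hxp
  -- `x` centralises the `iota` at `p`
  set ι := iota hS h2 hC hr hpout hw with hιdef
  have hιf := iota_isFree hS h2 hC hr hpout hw hw1
  have hw3 : w ^ 3 = 1 := by
    have := congrArg Subtype.val (pow_card_eq_one' (G := wSub a t) (x := ⟨w, hw⟩))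
    rwa [hW3] at this
  have hι3 : ι ^ 3 = 1 :=
    (map_pow (iotaHom hS h2 hC hr hpout hW) ⟨w, hw⟩ 3).symm.trans
      (by rw [show (⟨w, hw⟩ : wSub a t) ^ 3 = 1 from Subtype.ext hw3, map_one])
  have hxι : Commute x ι := by
    refine mul_inv_eq_iff_eq_mul.1 (iota_eq hS h2 hC hr hpout hw ?_ ?_)
    · rw [e, show l * u * ι * (l * u)⁻¹ = l * (u * ι * u⁻¹) * l⁻¹ by group]
      exact mul_mem (mul_mem hl (conj_mem_small hS h2 (Subgroup.mem_inf.1 hu).1 hιf.mem)) (inv_mem hl)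
    · rw [mul_smul, mul_smul, show x⁻¹ • p = p from inv_smul_eq_iff.2 hxp.symm, hιdef, iota_smul,
        ← mul_smul, ← hxW w hw, mul_smul, hxp]
  rw [e] at hxι
  obtain ⟨σ, hσ, l₁, hl₁, e₁, hfix, hc₁, hcube⟩ :=
    torus_decomp hS h2 hC hr hq hW3 hV hexp hpout hιf hι3 hl hu hxι
  obtain ⟨-, hpow, hsurj⟩ := exists_moved hS h2 hC hr hq hW3 hV hexp hpout hιf hι3 hl₁ hu huW rfl hfix
    hc₁ hcube
  have hσ3 : σ ^ 3 = 1 := by
    rw [← hpow σ hσ, ← e₁, ← e, hx, show g₀⁻¹ * w * g₀ = g₀⁻¹ * w * g₀⁻¹⁻¹ by rw [inv_inv], conj_pow,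
      hw3]
    group
  obtain ⟨η', hη', eη⟩ := hsurj σ hσ hσ3
  refine hΔout (η' • a) (smul_orbitSet hS h2 hr (mem_torus.1 hη').1 (Or.inl rfl)) ?_
  rw [e, e₁, ← eη, ← mul_smul,
    show η' * (l₁ * u * η'⁻¹ * (l₁ * u)⁻¹) * (l₁ * u) * η' = η' * (l₁ * u) by group, mul_smul, hfix]

omit hω in
/-- The involution exchanging `W` and the mate moves the torus into the product. -/
theorem swap_trivial {η : Ω} (hη : η ∉ orbitSet hS h2) {g : G} (hgi : IsInvol g)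
    (hg : ConjMate a t η g) : ∀ τ ∈ mateTorus a t η, g * τ * g ∈ smallGroup a t ⊔ wSub a t := by
  classical
  have := finite_points hS
  have hW : wSub a t ≠ ⊥ := fun e => by rw [e, Subgroup.card_bot] at hW3; omega
  have := Fact.mk Nat.prime_three
  obtain ⟨w, hw⟩ := Subgroup.ne_bot_iff_exists_ne_one.1 hW
  have hw1 : (w : G) ≠ 1 := fun e => hw (Subtype.ext e)
  set ι := iota hS h2 hC hr hη w.2 with hιdef
  have hιf := iota_isFree hS h2 hC hr hη w.2 hw1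
  obtain ⟨h, hhf, eT, hTi⟩ := exists_mateTorus hS h2 hC hr hη hW
  have eT' : mateTorus a t η = torus a t ι := by
    rw [eT, torus_eq_of_mem hS h2 hr hhf (hTi w.2) hιf.ne_one]
  have hw3 : (w : G) ^ 3 = 1 := by
    have := congrArg Subtype.val (pow_card_eq_one' (G := wSub a t) (x := w))
    rwa [hW3] at this
  have hι3 : ι ^ 3 = 1 :=
    (map_pow (iotaHom hS h2 hC hr hη hW) w 3).symm.trans
      (by rw [show w ^ 3 = 1 from Subtype.ext hw3, map_one])
  set T := mateTorus a t η with hTdef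
  have hTL : ∀ σ ∈ T, σ ∈ smallGroup a t := fun σ hσ => (Subgroup.mem_inf.1 hσ).1
  have hTt : ∀ σ ∈ T, σ ∈ torus a t ι := fun σ hσ => eT' ▸ hσ
  have htT : ∀ σ ∈ torus a t ι, σ ∈ T := fun σ hσ => eT'.symm ▸ hσ
  have hTcomm : ∀ σ ∈ T, ∀ σ' ∈ T, σ * σ' = σ' * σ := fun σ hσ σ' hσ' =>
    mateTorus_comm hS h2 hC hr hη hW hσ hσ'
  have hginv := hgi.inv_eq
  have hgg : ∀ x : G, g * (g * x * g) * g = x := fun x => by
    rw [show g * (g * x * g) * g = (g * g) * x * (g * g) by group, hgi.2, one_mul, mul_one]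
  have hgmul : ∀ x y : G, g * (x * y) * g = (g * x * g) * (g * y * g) := fun x y => by
    rw [show (g * x * g) * (g * y * g) = g * x * (g * g) * y * g by group, hgi.2, mul_one]
    group
  have hgpow : ∀ (x : G) (n : ℕ), g * x ^ n * g = (g * x * g) ^ n := fun x n => by
    have h := (conj_pow : (g * x * g⁻¹) ^ n = g * x ^ n * g⁻¹).symm
    rwa [hginv] at h
  obtain ⟨hTcyc, hTcard⟩ := mateTorus_spec hS h2 hC hr hη hW
  rw [hq] at hTcard
  obtain ⟨τ, hτ⟩ := hTcyc.exists_generator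
  have hτo : orderOf (τ : G) = 9 := by
    rw [Subgroup.orderOf_coe, orderOf_eq_card_of_forall_mem_zpowers hτ, hTcard]
  have hpow : ∀ σ ∈ T, ∃ j : ℕ, (τ : G) ^ j = σ := fun σ hσ => by
    have h := hτ ⟨σ, hσ⟩
    rw [← mem_powers_iff_mem_zpowers] at h
    obtain ⟨j, hj⟩ := h
    exact ⟨j, by rw [← SubgroupClass.coe_pow]; exact congrArg Subtype.val hj⟩
  -- elements commuting with `W` and the mate commute with `ι`
  have hcomm_ι : ∀ x : G, (∀ y ∈ wSub a t, y * x = x * y) → (∀ m ∈ mate a t η, m * x = x * m) →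
      Commute x ι := by
    intro x hxW hxM
    have hm := mate_elem hS h2 hC hr hη w.2
    have h1 : Commute x (w : G) := (hxW w w.2).symm
    have h2' : Commute x (ι⁻¹ * w) := (hxM _ hm).symm
    have h3 := h2'.mul_right h1.inv_right
    rw [mul_inv_cancel_right] at h3
    exact Commute.inv_right_iff.1 h3
  have hgW : ∀ y ∈ wSub a t, g * y * g ∈ mate a t η := fun y hy => by
    have := (hg y).2 hy
    rwa [hginv] at this
  have hgM : ∀ m ∈ mate a t η, g * m * g ∈ wSub a t := fun m hm => by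
    rw [← hg, hginv, hgg]; exact hm
  intro τ₁ hτ₁
  obtain ⟨j₁, rfl⟩ := hpow τ₁ hτ₁
  suffices hτg : g * (τ : G) * g ∈ smallGroup a t ⊔ wSub a t by
    rw [hgpow]; exact pow_mem hτg j₁
  set x := g * (τ : G) * g with hx
  have hτm : ∀ m ∈ mate a t η, Commute (τ : G) m := fun m hm =>
    ((Subgroup.mem_centralizer_iff.1 (Subgroup.mem_inf.1 τ.2).2) m hm).symm
  have hτw : ∀ y ∈ wSub a t, Commute (τ : G) y := fun y hy =>
    (wSub_comm_small hS h2 hC hr hy (hTL _ τ.2)).symm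
  have hconjc : ∀ {y : G}, Commute (τ : G) (g * y * g) → y * x = x * y := fun {y} hy => by
    have h1 : g * ((τ : G) * (g * y * g)) * g = g * ((g * y * g) * τ) * g := by rw [hy.eq]
    rw [hgmul, hgmul _ (τ : G), hgg] at h1
    exact h1.symm
  have hxW : ∀ y ∈ wSub a t, y * x = x * y := fun y hy => hconjc (hτm _ (hgW y hy))
  have hxM : ∀ m ∈ mate a t η, m * x = x * m := fun m hm => hconjc (hτw _ (hgM m hm))
  obtain ⟨l, hl, u, hu, e⟩ := exists_lv hS h2 hr fun p hp => orbit_of_comm hS h2 hC hr hW hxW hp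
  by_cases huW : u ∈ wSub a t
  · exact e ▸ mul_mem (Subgroup.mem_sup_left hl) (Subgroup.mem_sup_right huW)
  exfalso
  obtain ⟨y, hy, l₁, hl₁, e₁, hfix, hc₁, hcube⟩ :=
    torus_decomp hS h2 hC hr hq hW3 hV hexp hη hιf hι3 hl hu (e ▸ hcomm_ι x hxW hxM)
  set v₁ := l₁ * u with hv₁
  obtain ⟨hmove, hmcube, hsurj⟩ := exists_moved hS h2 hC hr hq hW3 hV hexp hη hιf hι3 hl₁ hu huW rfl
    hfix hc₁ hcube
  have hxy : x = y * v₁ := by rw [e, e₁]
  -- `g` inverts the elements of order three of the torus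
  obtain ⟨n, hn⟩ := hpow y (htT y hy)
  have hg3 : g * (τ : G) ^ 3 * g = y ^ 3 := by rw [hgpow, ← hx, hxy, hmcube y hy]
  have hε_pow : ∀ ε ∈ T, ε ^ 3 = 1 → ∃ j : ℕ, ε = (τ : G) ^ (3 * j) := by
    intro ε hε hε3
    obtain ⟨j, rfl⟩ := hpow ε hε
    rw [← pow_mul] at hε3
    have hd := orderOf_dvd_of_pow_eq_one hε3
    rw [hτo] at hd
    exact ⟨j / 3, by rw [show 3 * (j / 3) = j by omega]⟩
  have hgT3 : ∀ ε ∈ T, ε ^ 3 = 1 → g * ε * g ∈ T := by
    intro ε hε hε3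
    obtain ⟨j, rfl⟩ := hε_pow ε hε hε3
    rw [pow_mul, hgpow, hg3]
    exact pow_mem (pow_mem (htT y hy) 3) j
  -- `g v₁ g`
  have hv₁W : ∀ y' ∈ wSub a t, y' * v₁ = v₁ * y' := fun y' hy' => by
    have h1 : Commute y' x := hxW y' hy'
    have h2' : Commute y' y := wSub_comm_small hS h2 hC hr hy' (hTL _ (htT y hy))
    have h3 := h2'.inv_right.mul_right h1
    rw [hxy, inv_mul_cancel_left] at h3
    exact h3.eq
  have hv₁M : ∀ m ∈ mate a t η, m * v₁ = v₁ * m := fun m hm => by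
    have h1 : Commute m x := hxM m hm
    have h2' : Commute m y := (Subgroup.mem_centralizer_iff.1 (Subgroup.mem_inf.1 (htT y hy)).2) m hm
    have h3 := h2'.inv_right.mul_right h1
    rw [hxy, inv_mul_cancel_left] at h3
    exact h3.eq
  set x₂ := g * v₁ * g with hx₂
  have hconj2 : ∀ {y' : G}, (g * y' * g) * v₁ = v₁ * (g * y' * g) → y' * x₂ = x₂ * y' :=
    fun {y'} hy' => by
      have h1 : g * ((g * y' * g) * v₁) * g = g * (v₁ * (g * y' * g)) * g := by rw [hy']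
      rw [hgmul, hgmul v₁, hgg] at h1
      exact h1
  have hx₂W : ∀ y' ∈ wSub a t, y' * x₂ = x₂ * y' := fun y' hy' => hconj2 (hv₁M _ (hgW y' hy'))
  have hx₂M : ∀ m ∈ mate a t η, m * x₂ = x₂ * m := fun m hm => hconj2 (hv₁W _ (hgM m hm))
  obtain ⟨l₂, hl₂, u₂, hu₂, e₂⟩ := exists_lv hS h2 hr fun p hp => orbit_of_comm hS h2 hC hr hW hx₂W hp
  obtain ⟨y₂, hy₂, l₃, hl₃, e₃, hfix₃, hc₃, hcube₃⟩ :=
    torus_decomp hS h2 hC hr hq hW3 hV hexp hη hιf hι3 hl₂ hu₂ (e₂ ▸ hcomm_ι x₂ hx₂W hx₂M)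
  have hx₂cube : x₂ ^ 3 = 1 := by rw [hx₂, ← hgpow, hcube, mul_one, hgi.2]
  -- the `u`-part of `x₂` is not in `W`
  have hu₂W : u₂ ∉ wSub a t := by
    intro hu₂W
    have hu₂a : u₂ • a = a := (mem_twoStab hS (wSub_le hS h2 hu₂W)).1
    have hl₃1 : l₃ = 1 := by
      by_contra h1
      have hl₃c : l₃ ∈ torus a t ι := mem_torus.2 ⟨hl₃, by
        have h1' : Commute u₂ ι := wSub_comm_small hS h2 hC hr hu₂W hιf.mem
        have h3 := hc₃.mul_left h1'.inv_left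
        rw [mul_inv_cancel_right] at h3
        exact h3.eq⟩
      refine (torus_isFree hS h2 hr hιf hl₃c h1).free a (Or.inl rfl) ?_
      rwa [mul_smul, hu₂a] at hfix₃
    rw [hl₃1, one_mul] at e₃ hcube₃
    have hy₂3 : y₂ ^ 3 = 1 := by
      have h := hx₂cube
      rwa [e₂, e₃, (show Commute y₂ u₂ from
        (wSub_comm_small hS h2 hC hr hu₂W (mem_torus.1 hy₂).1).symm).mul_pow, hcube₃, mul_one] at h
    have hv : v₁ = (g * y₂ * g) * (g * u₂ * g) := by rw [← hgmul, ← e₃, ← e₂, hx₂, hgg]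
    have hin : v₁ ∈ smallGroup a t ⊔ wSub a t := hv ▸ mul_mem
      (Subgroup.mem_sup_left (hTL _ (hgT3 _ (htT _ hy₂) hy₂3)))
      (Subgroup.mem_inf.1 (hgW _ hu₂W)).2
    obtain ⟨l₄, hl₄, w₄, hw₄, e₄⟩ := sup_cases hS h2 hC hr hin
    exact huW ((lu_unique hS h2 hC hr hl₁ hl₄ hu (wSub_le_v hS h2 hw₄) e₄).2 ▸ hw₄)
  obtain ⟨hmove₂, hmcube₂, hsurj₂⟩ := exists_moved hS h2 hC hr hq hW3 hV hexp hη hιf hι3 hl₃ hu₂ hu₂W
    rfl hfix₃ hc₃ hcube₃
  have hy₂3 : y₂ ^ 3 = 1 := by rw [← hmcube₂ y₂ hy₂, ← e₃, ← e₂, hx₂cube]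
  -- fusion in `V`
  have hconjV : ∀ {l' u' : G}, l' ∈ smallGroup a t → u' ∈ twoStab a t ⊓ Subgroup.centralizer {t} →
      (l' * u') • a = a → Commute (l' * u') ι → ∃ z ∈ smallGroup a t, z⁻¹ * (l' * u') * z = u' := by
    intro l' u' hl' hu' hf hc'
    have ha : a ∈ orbitSet hS h2 := Or.inl rfl
    have hιa : ∀ j : ℕ, (l' * u') • (ι ^ j • a) = ι ^ j • a := fun j => by
      rw [← mul_smul, (hc'.pow_right j).eq, mul_smul, hf]
    have hne : ∀ j : ℕ, j ≠ 0 → j < 3 → ι ^ j • a ≠ a := fun j hj hj3 h' => by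
      refine (torus_isFree hS h2 hr hιf (pow_mem (self_mem_torus hS h2 hr hιf) j) fun e => ?_).free a ha h'
      have hd := orderOf_dvd_of_pow_eq_one e
      rw [orderOf_eq_prime hι3 hιf.ne_one] at hd
      have := Nat.le_of_dvd (by omega) hd
      omega
    refine conj_to_v hS h2 hC hr hl' hu' (b₁ := a) (b₂ := ι • a) (b₃ := ι ^ 2 • a) ha
      (smul_orbitSet hS h2 hr hιf.mem ha) (smul_orbitSet hS h2 hr (pow_mem hιf.mem 2) ha)
      (fun h' => hne 1 one_ne_zero (by omega) (by rw [pow_one]; exact h'.symm))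
      (fun h' => hne 2 two_ne_zero (by omega) h'.symm)
      (fun h' => hne 1 one_ne_zero (by omega) (by
        rw [pow_one]
        refine MulAction.injective ι ?_
        show ι • (ι • a) = ι • a
        rw [← mul_smul, ← pow_two]
        exact h'.symm))
      hf (by simpa using hιa 1) (hιa 2)
  obtain ⟨z₁, -, hz₁⟩ := hconjV hl₁ hu hfix hc₁
  obtain ⟨z₃, -, hz₃⟩ := hconjV hl₃ hu₂ hfix₃ hc₃
  obtain ⟨σ₂, hσ₂, eσ₂⟩ := hsurj₂ y₂ hy₂ hy₂3
  have hueq : u₂ = u := by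
    set q₀ := (σ₂ * z₃)⁻¹ * g * z₁ with hq₀
    have hfus : q₀ * u * q₀⁻¹ = u₂ := by
      calc q₀ * u * q₀⁻¹ = (σ₂ * z₃)⁻¹ * (g * v₁ * g) * (σ₂ * z₃) := by
            have hzu : z₁ * u * z₁⁻¹ = v₁ := by
              rw [hv₁]; conv_lhs => rw [← hz₁]
              group
            calc q₀ * u * q₀⁻¹ = (σ₂ * z₃)⁻¹ * (g * (z₁ * u * z₁⁻¹) * g⁻¹) * (σ₂ * z₃) := by
                  rw [hq₀]; group
              _ = _ := by rw [hzu, hginv]
        _ = (σ₂ * z₃)⁻¹ * (y₂ * (l₃ * u₂)) * (σ₂ * z₃) := by rw [← hx₂, e₂, e₃]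
        _ = z₃⁻¹ * (l₃ * u₂) * z₃ := by rw [← eσ₂]; group
        _ = u₂ := hz₃
    obtain ⟨v, hv, he⟩ := conj_in_centralizer hS (X := {u}) (Set.singleton_subset_iff.2 hu) q₀ (by
      rintro _ ⟨y', hy', rfl⟩
      rw [Set.mem_singleton_iff.1 hy']
      show q₀ * u * q₀⁻¹ ∈ _
      rw [hfus]; exact hu₂)
    simp only [Set.image_singleton, Set.singleton_eq_singleton_iff] at he
    rw [← hfus, ← he, pocket_comm hS h2 hC hr hq hW3 hV hexp hv hu, mul_inv_cancel_right]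
  subst hueq
  have hl31 : l₃ = l₁ := by
    by_contra hne
    have hdT : l₁ * l₃⁻¹ ∈ torus a t ι := mem_torus.2 ⟨mul_mem hl₁ (inv_mem hl₃), by
      rw [show l₁ * l₃⁻¹ = v₁ * (l₃ * u₂)⁻¹ by rw [hv₁]; group]
      exact (hc₁.mul_left hc₃.inv_left).eq⟩
    refine (torus_isFree hS h2 hr hιf hdT fun e => hne (mul_inv_eq_one.1 e).symm).free a (Or.inl rfl) ?_
    rw [show l₁ * l₃⁻¹ = v₁ * (l₃ * u₂)⁻¹ by rw [hv₁]; group, mul_smul,
      show (l₃ * u₂)⁻¹ • a = a from inv_smul_eq_iff.2 hfix₃.symm, hfix]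
  rw [hl31, ← hv₁] at e₃
  -- the exponent
  have hyτ : 3 ∣ n + 1 := by
    have hτeq : (τ : G) = x ^ n * (y₂ * v₁) := by
      rw [← e₃, ← e₂, hx₂]
      calc (τ : G) = g * x * g := by rw [hx, hgg]
        _ = g * (y * v₁) * g := by rw [hxy]
        _ = (g * y * g) * (g * v₁ * g) := hgmul _ _
        _ = x ^ n * (g * v₁ * g) := by rw [← hn, hgpow, hx]
    obtain ⟨l₅, hl₅, e₅⟩ := lu_pow hS h2 hC hr hl hu n
    rw [← e] at e₅
    rw [e₅, hv₁, ← mul_assoc y₂] at hτeq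
    obtain ⟨l₆, hl₆, e₆⟩ := lu_mul hS h2 hC hr hl₅ (mul_mem (mem_torus.1 hy₂).1 hl₁) (u' := u₂)
      (pow_mem hu n)
    rw [e₆] at hτeq
    have h := (lu_unique hS h2 hC hr (hTL _ τ.2) hl₆ (one_mem _) (mul_mem (pow_mem hu n) hu)
      (by rw [mul_one]; exact hτeq)).2
    rw [← pow_succ] at h
    have hd := orderOf_dvd_of_pow_eq_one h.symm
    rwa [orderOf_eq_prime (hexp u₂ hu) fun e => huW (e ▸ one_mem _)] at hd
  have hinv : ∀ ε ∈ T, ε ^ 3 = 1 → g * ε * g = ε⁻¹ := by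
    intro ε hε hε3
    obtain ⟨j, rfl⟩ := hε_pow ε hε hε3
    refine eq_inv_of_mul_eq_one_left ?_
    rw [pow_mul, hgpow, hg3, ← hn, ← pow_mul, ← pow_mul, ← pow_mul, ← pow_add, ← orderOf_dvd_iff_pow_eq_one,
      hτo]
    obtain ⟨i, hi⟩ := hyτ
    refine ⟨i * j, ?_⟩
    have h9 : 3 * j * (n + 1) = 3 * j * (3 * i) := by rw [hi]
    ring_nf at h9 ⊢
    omega
  set y₀ := (τ : G) * y with hy₀
  have hy₀T : y₀ ∈ T := mul_mem τ.2 (htT y hy)
  have hy₀3 : y₀ ^ 3 = 1 := by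
    rw [hy₀, ← hn, ← pow_succ', ← pow_mul, ← orderOf_dvd_iff_pow_eq_one, hτo]
    omega
  have hεc : ∀ ε ∈ T, ε ^ 3 = 1 → Commute ε v₁ := by
    intro ε hε hε3
    -- elements of order three are powers of `ι`
    by_cases hε1 : ε = 1
    · subst hε1; exact Commute.one_left _
    haveI := hTcyc
    have hιT : ι ∈ T := iota_mem_mateTorus hS h2 hC hr hη w.2
    have hmem : (⟨ε, hε⟩ : T) ∈ Subgroup.zpowers (⟨ι, hιT⟩ : T) := by
      rw [← zpowers_eq_of_cyclic (x := (⟨ε, hε⟩ : T)) (y := (⟨ι, hιT⟩ : T))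
        (by rw [Subgroup.orderOf_mk, Subgroup.orderOf_mk, orderOf_eq_prime hε3 hε1,
          orderOf_eq_prime hι3 hιf.ne_one])]
      exact Subgroup.mem_zpowers _
    rw [← mem_powers_iff_mem_zpowers] at hmem
    obtain ⟨j, hj⟩ := hmem
    have ej : ι ^ j = ε := by rw [← SubgroupClass.coe_pow (⟨ι, hιT⟩ : T)]; exact congrArg Subtype.val hj
    exact ej ▸ (hc₁.pow_right j).symm
  -- align `g`
  have hy₂T : y₂ ∈ T := htT _ hy₂
  obtain ⟨η₁, hη₁, eη₁⟩ := hsurj y₂ hy₂ hy₂3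
  have hη₁T : η₁ ∈ T := htT _ hη₁
  set g' := η₁ * g * η₁⁻¹ with hg'
  have hg'i : IsInvol g' := hgi.conj η₁
  have hηv : η₁ * v₁ * η₁⁻¹ = y₂ * v₁ := by rw [← eη₁, hv₁]; group
  have hηc : ∀ {σ : G}, σ ∈ T → Commute η₁ σ := fun {σ} hσ => hTcomm _ hη₁T _ hσ
  have hηv' : η₁⁻¹ * v₁ * η₁ = y₂⁻¹ * v₁ := by
    calc η₁⁻¹ * v₁ * η₁ = η₁⁻¹ * (y₂⁻¹ * (η₁ * v₁ * η₁⁻¹)) * η₁ := by rw [hηv]; group
      _ = (η₁⁻¹ * y₂⁻¹ * η₁) * v₁ := by group
      _ = y₂⁻¹ * v₁ := by rw [((hηc hy₂T).inv_left.inv_right).eq]; group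
  have hηε : ∀ σ ∈ T, η₁ * σ * η₁⁻¹ = σ := fun σ hσ => by rw [(hηc hσ).eq, mul_inv_cancel_right]
  have hg'inv : ∀ ε ∈ T, ε ^ 3 = 1 → g' * ε * g' = ε⁻¹ := fun ε hε hε3 => by
    calc g' * ε * g' = η₁ * (g * (η₁⁻¹ * ε * η₁) * g) * η₁⁻¹ := by rw [hg']; group
      _ = η₁ * (g * ε * g) * η₁⁻¹ := by rw [(hηc hε).inv_left.eq, inv_mul_cancel_right]
      _ = ε⁻¹ := by rw [hinv ε hε hε3, hηε _ (inv_mem hε)]
  have hg'v : g' * v₁ * g' = v₁ := by
    calc g' * v₁ * g' = η₁ * (g * (η₁⁻¹ * v₁ * η₁) * g) * η₁⁻¹ := by rw [hg']; group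
      _ = η₁ * ((g * y₂⁻¹ * g) * (g * v₁ * g)) * η₁⁻¹ := by rw [hηv', hgmul]
      _ = η₁ * (y₂ * (y₂ * v₁)) * η₁⁻¹ := by
          rw [hinv _ (inv_mem hy₂T) (by rw [inv_pow, hy₂3, inv_one]), inv_inv, ← hx₂, e₂, e₃]
      _ = (η₁ * (y₂ * y₂) * η₁⁻¹) * (η₁ * v₁ * η₁⁻¹) := by group
      _ = y₂ ^ 3 * v₁ := by rw [hηε _ (mul_mem hy₂T hy₂T), hηv, pow_succ, pow_two, mul_assoc (y₂ * y₂)]
      _ = v₁ := by rw [hy₂3, one_mul]
  have hg'c : Commute g' v₁ := by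
    show g' * v₁ = v₁ * g'
    calc g' * v₁ = g' * v₁ * (g' * g') := by rw [hg'i.2, mul_one]
      _ = g' * v₁ * g' * g' := by group
      _ = _ := by rw [hg'v]
  -- the commutator of `τ` and the new involution
  set y₁ := y₀ * y₂ with hy₁
  have hy₁T : y₁ ∈ T := mul_mem hy₀T hy₂T
  have hy₁3 : y₁ ^ 3 = 1 := by
    rw [hy₁, (show Commute y₀ y₂ from hTcomm _ hy₀T _ hy₂T).mul_pow, hy₀3, hy₂3, mul_one]
  have hτg' : (τ : G) * g' * τ * g' = y₁ * v₁ := by
    calc (τ : G) * g' * τ * g'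
        = η₁ * ((η₁⁻¹ * τ * η₁) * (g * (η₁⁻¹ * τ * η₁) * g)) * η₁⁻¹ := by rw [hg']; group
      _ = η₁ * ((τ : G) * x) * η₁⁻¹ := by
          rw [(hηc τ.2).inv_left.eq, inv_mul_cancel_right, hx]
      _ = (η₁ * y₀ * η₁⁻¹) * (η₁ * v₁ * η₁⁻¹) := by rw [hxy, hy₀]; group
      _ = _ := by rw [hηε _ hy₀T, hηv, hy₁, ← mul_assoc]
  set g'' := y₁ * g' with hg''
  have hg''c : Commute g'' v₁ := (hεc _ hy₁T hy₁3).mul_left hg'c
  have hg''2 : g'' * g'' = 1 := by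
    calc g'' * g'' = y₁ * (g' * y₁ * g') := by rw [hg'']; group
      _ = 1 := by rw [hg'inv _ hy₁T hy₁3, mul_inv_cancel]
  have hg'W : ∀ y' ∈ wSub a t, g' * y' * g' ∈ mate a t η := fun y' hy' => by
    have h1 : Commute η₁ y' := (wSub_comm_small hS h2 hC hr hy' (hTL _ hη₁T)).symm
    have h2'' : Commute η₁ (g * y' * g) :=
      ((Subgroup.mem_centralizer_iff.1 (Subgroup.mem_inf.1 hη₁T).2) _ (hgW y' hy')).symm
    have e' : g' * y' * g' = g * y' * g := by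
      calc g' * y' * g' = η₁ * (g * (η₁⁻¹ * y' * η₁) * g) * η₁⁻¹ := by rw [hg']; group
        _ = η₁ * (g * y' * g) * η₁⁻¹ := by rw [h1.inv_left.eq, inv_mul_cancel_right]
        _ = _ := by rw [h2''.eq, mul_inv_cancel_right]
    rw [e']; exact hgW y' hy'
  have hy₁c : ∀ y' ∈ wSub a t, Commute y₁ (g' * y' * g') := fun y' hy' =>
    ((Subgroup.mem_centralizer_iff.1 (Subgroup.mem_inf.1 hy₁T).2) _ (hg'W y' hy')).symm
  have hg''W : ∀ y' ∈ wSub a t, g'' * y' * g'' = g' * y' * g' := fun y' hy' => by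
    calc g'' * y' * g'' = y₁ * g' * (y' * y₁) * g' := by rw [hg'']; group
      _ = y₁ * g' * (y₁ * y') * g' := by rw [wSub_comm_small hS h2 hC hr hy' (hTL _ hy₁T)]
      _ = y₁ * g' * y₁ * (g' * g') * y' * g' := by rw [hg'i.2]; group
      _ = y₁ * (g' * y₁ * g') * (g' * y' * g') := by group
      _ = _ := by rw [hg'inv _ hy₁T hy₁3, mul_inv_cancel, one_mul]
  have hout : ∀ {j : G}, IsInvol j → (∀ y' ∈ wSub a t, j * y' * j ∈ mate a t η) →
      ∀ p ∈ orbitSet hS h2, j • p ≠ p := by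
    intro j hj hjW p hp hjp
    have hm := hjW _ w.2
    have hm1 : j * (w : G) * j ≠ 1 := fun e' => hw1 (by
      calc (w : G) = (j * j) * w * (j * j) := by rw [hj.2, one_mul, mul_one]
        _ = j * (j * w * j) * j := by group
        _ = 1 := by rw [e', mul_one, hj.2])
    have hfp : (j * (w : G) * j) • p = p := by
      rw [mul_smul, mul_smul, hjp, wSub_fix_orbit hS h2 hC hr w.2 hp, hjp]
    obtain ⟨σ, hσ, eσ⟩ := (mate_fixed hS h2 hC hr hη hW hm hm1 p).1 hfp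
    refine hη ?_
    have h' := smul_orbitSet hS h2 hr (inv_mem (hTL σ hσ)) (eσ ▸ hp)
    rwa [inv_smul_smul] at h'
  have hg''i : IsInvol g'' := by
    refine ⟨fun e' => ?_, hg''2⟩
    have hg'T : g' ∈ T := by
      rw [show g' = y₁⁻¹ from (inv_eq_of_mul_eq_one_right (hg''.symm.trans e')).symm]
      exact inv_mem hy₁T
    have hd : orderOf g' ∣ Nat.card T := Subgroup.orderOf_dvd_natCard T hg'T
    rw [hg'i.orderOf, hTcard] at hd
    omega
  -- an involution inverting the torus, fixing `a`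
  obtain ⟨i₁, hi₁L, hi₁i, hi₁inv⟩ := exists_inverter hS h2 hr hιf
  obtain ⟨p₀, hp₀, -⟩ := existsUnique_fixed hS hi₁i
  have hp₀Δ : p₀ ∈ orbitSet hS h2 := by
    by_contra hp₀Δ
    exact small_semiregular hS h2 hr hi₁L hi₁i.1 hp₀Δ hp₀
  obtain ⟨σ₀, hσ₀, hσ₀p⟩ := torus_transitive hS h2 hC hr hιf hp₀Δ (Or.inl rfl)
  set i := σ₀ * i₁ * σ₀⁻¹ with hi
  have hii : IsInvol i := hi₁i.conj σ₀
  have hia : i • a = a := by
    rw [hi, mul_smul, mul_smul, inv_smul_eq_iff.2 hσ₀p.symm, hp₀, hσ₀p]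
  have hiinv : ∀ σ ∈ T, i * σ * i = σ⁻¹ := fun σ hσ => by
    have hc' : ∀ {σ' : G}, σ' ∈ T → σ₀ * σ' = σ' * σ₀ := fun {σ'} hσ' => hTcomm _ (htT _ hσ₀) _ hσ'
    calc i * σ * i = σ₀ * (i₁ * (σ₀⁻¹ * σ * σ₀) * i₁) * σ₀⁻¹ := by rw [hi]; group
      _ = σ₀ * (i₁ * σ * i₁) * σ₀⁻¹ := by
          rw [(show Commute σ₀ σ from hc' hσ).inv_left.eq, inv_mul_cancel_right]
      _ = σ⁻¹ := by rw [hi₁inv σ (hTt _ hσ), hc' (inv_mem hσ), mul_inv_cancel_right]
  have hιT : ι ∈ T := htT _ (self_mem_torus hS h2 hr hιf)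
  have hiv : Commute v₁ i := by
    have hiL : i ∈ smallGroup a t :=
      mul_mem (mul_mem (hTL _ (htT _ hσ₀)) hi₁L) (inv_mem (hTL _ (htT _ hσ₀)))
    set c₁ := v₁ * i * v₁⁻¹ * i with hc₁'
    have hcT : c₁ ∈ torus a t ι := by
      refine mem_torus.2 ⟨mul_mem ?_ hiL, ?_⟩
      · rw [hv₁, show l₁ * u₂ * i * (l₁ * u₂)⁻¹ = l₁ * (u₂ * i * u₂⁻¹) * l₁⁻¹ by group]
        exact mul_mem (mul_mem hl₁ (conj_mem_small hS h2 (Subgroup.mem_inf.1 hu).1 hiL)) (inv_mem hl₁)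
      · have hcι : Commute v₁ ι := hc₁
        have hiι : i * ι = ι⁻¹ * i := by
          calc i * ι = i * ι * i * i := by rw [mul_assoc _ i i, hii.2, mul_one]
            _ = _ := by rw [hiinv ι hιT]
        have hiι' : i * ι⁻¹ = ι * i := by
          calc i * ι⁻¹ = i * ι⁻¹ * i * i := by rw [mul_assoc _ i i, hii.2, mul_one]
            _ = _ := by rw [hiinv _ (inv_mem hιT), inv_inv]
        calc c₁ * ι = v₁ * i * v₁⁻¹ * (i * ι) := by rw [hc₁']; group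
          _ = v₁ * i * (v₁⁻¹ * ι⁻¹) * i := by rw [hiι]; group
          _ = v₁ * (i * ι⁻¹) * v₁⁻¹ * i := by rw [hcι.inv_left.inv_right.eq]; group
          _ = (v₁ * ι) * i * v₁⁻¹ * i := by rw [hiι']; group
          _ = _ := by rw [hcι.eq, hc₁']; group
    have hca : c₁ • a = a := by
      rw [hc₁', mul_smul, mul_smul, mul_smul, hia, inv_smul_eq_iff.2 hfix.symm, hia, hfix]
    have hc1 : c₁ = 1 := by
      by_contra h1
      exact (torus_isFree hS h2 hr hιf hcT h1).free a (Or.inl rfl) hca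
    show v₁ * i = i * v₁
    calc v₁ * i = c₁ * i⁻¹ * v₁ := by rw [hc₁']; group
      _ = _ := by rw [hc1, one_mul, hii.inv_eq]
  -- the contradiction
  obtain ⟨p₂, hp₂, -⟩ := existsUnique_fixed hS hg'i
  obtain ⟨p₃, hp₃, -⟩ := existsUnique_fixed hS hg''i
  have hne₂ : a ≠ p₂ := fun e' => hout hg'i hg'W a (Or.inl rfl) (by rw [e']; exact hp₂)
  have hne₃ : a ≠ p₃ := fun e' =>
    hout hg''i (fun y' hy' => hg''W y' hy' ▸ hg'W y' hy') a (Or.inl rfl) (by rw [e']; exact hp₃)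
  obtain ⟨hfree, -⟩ := pair_fixed hS h2 hC hr hq hW3 hV hexp hu huW hz₁ hii hg'i hiv hg'c.symm hia hp₂
    hne₂
  obtain ⟨-, p, hp⟩ := pair_fixed hS h2 hC hr hq hW3 hV hexp hu huW hz₁ hii hg''i hiv hg''c.symm hia hp₃
    hne₃
  refine hfree ((τ : G)⁻¹ • p) ?_
  have hτi : i * (τ : G)⁻¹ = (τ : G) * i := by
    calc i * (τ : G)⁻¹ = i * (τ : G)⁻¹ * i * i := by rw [mul_assoc _ i i, hii.2, mul_one]
      _ = _ := by rw [hiinv _ (inv_mem τ.2), inv_inv]
  have e' : v₁ * (g'' * i) = (τ : G) * (g' * i) * (τ : G)⁻¹ := by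
    calc v₁ * (g'' * i) = (v₁ * y₁) * g' * i := by rw [hg'']; group
      _ = (y₁ * v₁) * g' * i := by rw [(hεc _ hy₁T hy₁3).eq]
      _ = (τ : G) * g' * τ * (g' * g') * i := by rw [← hτg']; group
      _ = (τ : G) * g' * ((τ : G) * i) := by rw [hg'i.2]; group
      _ = _ := by rw [← hτi]; group
  rw [e', mul_smul, mul_smul, ← eq_inv_smul_iff] at hp
  exact hp

omit hω in
/-- **The elementary pocket.** -/
theorem betaTriv_of_elementary : BetaTriv (a := a) (t := t) hS h2 := by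
  classical
  have hW : wSub a t ≠ ⊥ := fun e => by rw [e, Subgroup.card_bot] at hW3; omega
  intro η hη g₀ hg₀ τ hτ
  obtain ⟨g, hgi, hg⟩ :=
    exists_swap_of_pull hS h2 hC hr hη hW hg₀ (pull_wSub hS h2 hC hr hq hW3 hV hexp hη hg₀)
  set n := g⁻¹ * g₀ with hn
  have hnW : ∀ w ∈ wSub a t, n * w * n⁻¹ ∈ wSub a t := fun w hw => by
    rw [← hg, show g * (n * w * n⁻¹) * g⁻¹ = g₀ * w * g₀⁻¹ by rw [hn]; group]
    exact (hg₀ w).2 hw
  obtain ⟨w, hw⟩ := Subgroup.ne_bot_iff_exists_ne_one.1 hW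
  obtain ⟨l, hl, v, hv, e⟩ := exists_lv hS h2 hr (s := n) fun p hp => by
    refine wSub_fixed_mem hS h2 hC hr (hnW w w.2) (fun h => hw (Subtype.ext (conj_eq_one_iff.1 h))) ?_
    rw [mul_smul, mul_smul, inv_smul_smul, wSub_fix_orbit hS h2 hC hr w.2 hp]
  have hmem : g * τ * g ∈ smallGroup a t ⊔ wSub a t :=
    swap_trivial hS h2 hC hr hq hW3 hV hexp hη hgi hg τ hτ
  obtain ⟨l', hl', w', hw', e'⟩ := sup_cases hS h2 hC hr hmem
  have hvD : v⁻¹ ∈ twoStab a t := inv_mem (Subgroup.mem_inf.1 hv).1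
  have key : g₀⁻¹ * τ * g₀ = (v⁻¹ * (l⁻¹ * l' * l) * v) * (v⁻¹ * w' * v) := by
    calc g₀⁻¹ * τ * g₀ = n⁻¹ * (g * τ * g) * n := by
          rw [show n⁻¹ * (g * τ * g) * n = g₀⁻¹ * (g * g) * τ * (g * g⁻¹) * g₀ by rw [hn]; group,
            hgi.2, mul_inv_cancel, mul_one, mul_one]
      _ = v⁻¹ * l⁻¹ * l' * (w' * l) * v := by rw [e', e]; group
      _ = v⁻¹ * l⁻¹ * l' * (l * w') * v := by rw [wSub_comm_small hS h2 hC hr hw' hl]
      _ = _ := by group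
  rw [key]
  refine mul_mem (Subgroup.mem_sup_left ?_) (Subgroup.mem_sup_right ?_)
  · simpa only [inv_inv] using conj_mem_small hS h2 hvD (mul_mem (mul_mem (inv_mem hl) hl') hl)
  · simpa only [inv_inv] using conj_mem_wSub hS h2 hvD hw'

end Cfsg.Agent.RankOne
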