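import Cfsg.Agent.Lib.RankOneW.OrbitSetup
import Mathlib.GroupTheory.SpecificGroups.ZGroup

/-!
# The tori of order `q + 1` of the small group
-/

set_option autoImplicit false
set_option linter.unusedSectionVars false
set_option linter.style.haveILetI false

namespace Cfsg.Agent.RankOne

open MulAction

variable {G Ω : Type*} [Group G] [MulAction G Ω] {a : Ω} {t : G} {Q : Subgroup G}
variable [Finite G] (hS : Cfsg.IsRankOneSetup G Ω a t Q)
  (h2 : ∃ x y : G, x ≠ 1 ∧ y ≠ 1 ∧ x ≠ y ∧ x * x = 1 ∧ y * y = 1 ∧ x * y = y * x)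
  (hr : RInvol hS h2)

/-- An element of odd order of the small group without fixed point in the orbit. -/
structure IsFree (g : G) : Prop where
  mem : g ∈ smallGroup a t
  ne_one : g ≠ 1
  odd : Odd (orderOf g)
  free : ∀ c ∈ orbitSet hS h2, g • c ≠ c

/-- The centraliser of an element in the small group. -/
def torus (a : Ω) (t g : G) : Subgroup G := smallGroup a t ⊓ Subgroup.centralizer {g}

theorem mem_torus {g y : G} : y ∈ torus a t g ↔ y ∈ smallGroup a t ∧ y * g = g * y := by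
  rw [torus, Subgroup.mem_inf, Subgroup.mem_centralizer_singleton_iff]

include hS h2 hr

theorem eq_of_sq_fixed {g : G} (hodd : Odd (orderOf g)) {c : Ω} (h : (g * g) • c = c) : g • c = c := by
  obtain ⟨m, hm⟩ := hodd
  have h3 : g = (g * g) ^ (m + 1) := by
    rw [← pow_two, ← pow_mul, show 2 * (m + 1) = orderOf g + 1 by omega, pow_succ,
      pow_orderOf_eq_one, one_mul]
  have h4 : ∀ j : ℕ, (g * g) ^ j • c = c := fun j => by
    induction j with
    | zero => simp
    | succ j ih => rw [pow_succ, mul_smul, h, ih]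
  rw [h3]; exact h4 _

variable {x : G} (hx : IsFree hS h2 x)
include hx

/-- An element commuting with a free one is free. -/
theorem torus_isFree {y : G} (hy : y ∈ torus a t x) (hy1 : y ≠ 1) : IsFree hS h2 y := by
  have := finite_points hS
  obtain ⟨hyL, hyx⟩ := mem_torus.1 hy
  have hinv : ∀ u : G, IsInvol u → u ∈ smallGroup a t → u * x ≠ x * u := by
    intro u hu huL hux
    obtain ⟨p, hp⟩ := exists_fixed hS hu.2
    exact hx.free p (small_invol_fix hS h2 hr huL hu hp) (fixed_of_commute hS hu hp hux)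
  have hodd : Odd (orderOf y) := by
    by_contra heven
    obtain ⟨m, hm⟩ := Nat.not_odd_iff_even.1 heven
    have hpos := orderOf_pos y
    refine hinv (y ^ m) ⟨fun h => ?_, by rw [← pow_add, ← hm, pow_orderOf_eq_one]⟩ (pow_mem hyL m)
      ((show Commute y x from hyx).pow_left m).eq
    have := Nat.le_of_dvd (by omega) (orderOf_dvd_of_pow_eq_one h)
    omega
  refine ⟨hyL, hy1, hodd, fun c hc hyc => ?_⟩
  obtain ⟨-, c', hc', -, hyc', hall⟩ := small_fix_orbit hS h2 hr hyL hy1 hodd hc hyc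
  have hmove : ∀ e : Ω, y • e = e → y • (x • e) = x • e := fun e he => by
    rw [← mul_smul, hyx, mul_smul, he]
  rcases hall _ (hmove c hyc) with h | h
  · exact hx.free c hc h
  rcases hall _ (hmove c' hyc') with h' | h'
  · exact hx.free c hc (eq_of_sq_fixed hS h2 hr hx.odd (by rw [mul_smul, h, h']))
  · exact hx.free c' hc' h'

theorem card_torus_dvd : Nat.card (torus a t x) ∣ qSize a t + 1 := by
  classical
  have := finite_points hS
  letI : MulAction (torus a t x) (orbitSet hS h2) :=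
    { smul := fun y c => ⟨(y : G) • c.1, smul_orbitSet hS h2 hr (mem_torus.1 y.2).1 c.2⟩
      one_smul := fun c => Subtype.ext (one_smul G c.1)
      mul_smul := fun y z c => Subtype.ext (mul_smul (y : G) (z : G) c.1) }
  have h := ZassAb.card_dvd_of_free (A := torus a t x) (S := orbitSet hS h2) fun y c hyc => by
    by_contra hy1
    exact (torus_isFree hS h2 hr hx y.2 (fun e => hy1 (Subtype.ext e))).free c c.2
      (congrArg Subtype.val hyc)
  rwa [card_orbitSet hS h2 hr] at h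

/-- The centraliser of a free element is cyclic of order `q + 1`. -/
theorem torus_spec : IsCyclic (torus a t x) ∧ Nat.card (torus a t x) = qSize a t + 1 := by
  classical
  have := finite_points hS
  obtain ⟨g, hgL, hgo⟩ := exists_orderOf_succ hS h2 hr
  obtain ⟨p, hp, hpx⟩ := Nat.exists_prime_and_dvd (orderOf_eq_one_iff.not.2 hx.ne_one)
  haveI := Fact.mk hp
  set y := x ^ (orderOf x / p) with hy
  have hyo : orderOf y = p := orderOf_pow_orderOf_div (orderOf_pos x).ne' hpx
  have hyT : y ∈ torus a t x := mem_torus.2 ⟨pow_mem hx.mem _, ((Commute.refl x).pow_left _).eq⟩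
  have hyfree := torus_isFree hS h2 hr hx hyT (fun e => hp.ne_one (by rw [← hyo, e, orderOf_one]))
  obtain ⟨hyd, -⟩ := small_free_orbit hS h2 hr hyfree.mem hyfree.ne_one hyfree.odd hyfree.free
  rw [hyo] at hyd
  set L := smallGroup a t with hL
  -- a Sylow `p`-subgroup inside `⟨g⟩`
  let g' : L := ⟨g, hgL⟩
  have hg'o : orderOf g' = qSize a t + 1 := by rw [← hgo, ← Subgroup.orderOf_coe]
  set e := (qSize a t + 1).factorization p with he
  have he1 : p ^ e ∣ qSize a t + 1 := Nat.ordProj_dvd _ _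
  set h₀ := g' ^ ((qSize a t + 1) / p ^ e) with hh₀
  have hh₀o : orderOf h₀ = p ^ e := by
    rw [hh₀, orderOf_pow, hg'o, Nat.gcd_eq_right (Nat.div_dvd_of_dvd he1), Nat.div_div_self he1
      (Nat.succ_ne_zero _)]
  have hLp : (Nat.card L).factorization p = e := by
    rw [card_small hS h2 hr]
    have h4 := four_le_qSize hS h2
    have hq : ¬ p ∣ qSize a t := fun h => hp.ne_one (Nat.dvd_one.1 ((Nat.dvd_add_right h).1 hyd))
    have hq' : ¬ p ∣ qSize a t - 1 := fun h => hp.ne_one (qSize_coprime hS h2 hr h hyd)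
    rw [Nat.factorization_mul (Nat.mul_ne_zero (by omega) (by omega)) (Nat.succ_ne_zero _),
      Nat.factorization_mul (by omega) (by omega)]
    simp [Finsupp.add_apply, Nat.factorization_eq_zero_of_not_dvd hq,
      Nat.factorization_eq_zero_of_not_dvd hq', he]
  let P : Sylow p L := Sylow.ofCard (Subgroup.zpowers h₀) (by rw [Nat.card_zpowers, hh₀o, hLp])
  let y' : L := ⟨y, hyfree.mem⟩
  have hy'o : orderOf y' = p := by rw [← hyo, ← Subgroup.orderOf_coe]
  obtain ⟨P', hP'⟩ := (IsPGroup.of_card (n := 1) (p := p)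
    (by rw [Nat.card_zpowers, hy'o, pow_one]) : IsPGroup p (Subgroup.zpowers y')).exists_le_sylow
  obtain ⟨c, rfl⟩ := MulAction.exists_smul_eq L P P'
  have hy' := hP' (Subgroup.mem_zpowers y')
  rw [Sylow.coe_subgroup_smul] at hy'
  obtain ⟨z, hz, hzy⟩ := hy'
  -- so the centraliser of `y` contains a conjugate of `⟨g⟩`
  have hle : Subgroup.zpowers (c * g' * c⁻¹ : L).1 ≤ torus a t y := by
    rw [Subgroup.zpowers_le]
    refine mem_torus.2 ⟨(c * g' * c⁻¹ : L).2, ?_⟩
    have hzg : Commute z g' := by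
      obtain ⟨m, rfl⟩ : z ∈ Subgroup.zpowers h₀ := hz
      exact (((Commute.refl g').pow_left _).zpow_left m)
    have e : y' = c * z * c⁻¹ := by rw [← hzy]; rfl
    have h : (c * g' * c⁻¹) * y' = y' * (c * g' * c⁻¹) := by
      rw [e, conj_mul, conj_mul, hzg.eq]
    exact congrArg Subtype.val h
  have hcard : Nat.card (Subgroup.zpowers (c * g' * c⁻¹ : L).1) = qSize a t + 1 := by
    rw [Nat.card_zpowers, Subgroup.orderOf_coe, ← MulAut.conj_apply, MulEquiv.orderOf_eq, hg'o]
  have heq : torus a t y = Subgroup.zpowers (c * g' * c⁻¹ : L).1 := by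
    refine (Subgroup.eq_of_le_of_card_ge hle ?_).symm
    rw [hcard]
    exact Nat.le_of_dvd (Nat.succ_pos _) (card_torus_dvd hS h2 hr hyfree)
  have hxy : x ∈ torus a t y := mem_torus.2 ⟨hx.mem, ((Commute.refl x).pow_right _).eq⟩
  have hle2 : torus a t y ≤ torus a t x := by
    intro w hw
    refine mem_torus.2 ⟨(mem_torus.1 hw).1, ?_⟩
    rw [heq] at hw hxy
    obtain ⟨i, rfl⟩ := hw
    obtain ⟨j, rfl⟩ := hxy
    exact ((Commute.refl _).zpow_left i).zpow_right j |>.eq
  have hxeq : torus a t y = torus a t x := by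
    refine Subgroup.eq_of_le_of_card_ge hle2 ?_
    rw [heq, hcard]
    exact Nat.le_of_dvd (Nat.succ_pos _) (card_torus_dvd hS h2 hr hx)
  rw [← hxeq, heq]
  exact ⟨inferInstance, hcard⟩

theorem self_mem_torus : x ∈ torus a t x := mem_torus.2 ⟨hx.mem, rfl⟩

theorem torus_comm {y z : G} (hy : y ∈ torus a t x) (hz : z ∈ torus a t x) : y * z = z * y := by
  obtain ⟨g, hg⟩ := (torus_spec hS h2 hr hx).1.exists_generator
  obtain ⟨i, hi⟩ := hg ⟨y, hy⟩
  obtain ⟨j, hj⟩ := hg ⟨z, hz⟩
  have := ((Commute.refl g).zpow_left i).zpow_right j |>.eq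
  rw [show g ^ i = _ from hi, show g ^ j = _ from hj] at this
  exact congrArg Subtype.val this

theorem torus_eq_of_mem {y : G} (hy : y ∈ torus a t x) (hy1 : y ≠ 1) : torus a t y = torus a t x := by
  refine (Subgroup.eq_of_le_of_card_ge (fun z hz => mem_torus.2 ⟨(mem_torus.1 hz).1,
    torus_comm hS h2 hr hx hz hy⟩) ?_).symm
  rw [(torus_spec hS h2 hr hx).2, (torus_spec hS h2 hr (torus_isFree hS h2 hr hx hy hy1)).2]

/-- An involution of the small group inverts the torus. -/
theorem exists_inverter : ∃ i ∈ smallGroup a t, IsInvol i ∧ ∀ y ∈ torus a t x, i * y * i = y⁻¹ := by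
  obtain ⟨g, hg⟩ := (torus_spec hS h2 hr hx).1.exists_generator
  have hg1 : (g : G) ≠ 1 := fun e => by
    obtain ⟨j, hj⟩ := hg ⟨x, self_mem_torus hS h2 hr hx⟩
    rw [show g = 1 from Subtype.ext e] at hj
    exact hx.ne_one (congrArg Subtype.val (hj.symm.trans (one_zpow j)))
  have hgf := torus_isFree hS h2 hr hx g.2 hg1
  obtain ⟨-, i, hi, hii, hinv⟩ := small_free_orbit hS h2 hr hgf.mem hgf.ne_one hgf.odd hgf.free
  refine ⟨i, hi, hii, fun y hy => ?_⟩
  obtain ⟨j, hj⟩ := hg ⟨y, hy⟩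
  rw [show y = (g : G) ^ j from (congrArg Subtype.val hj).symm.trans (by push_cast; rfl)]
  conv_lhs => rw [show i * (g : G) ^ j * i = i * (g : G) ^ j * i⁻¹ by rw [hii.inv_eq]]
  rw [← conj_zpow, hinv, inv_zpow]

/-- The normaliser of the torus in the small group. -/
theorem torus_normalizer {y : G} (hy : y ∈ smallGroup a t)
    (hn : ∀ z ∈ torus a t x, y * z * y⁻¹ ∈ torus a t x) :
    y ∈ torus a t x ∨ ∀ z ∈ torus a t x, y * z * y⁻¹ = z⁻¹ := by
  classical
  have := finite_points hS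
  set T := torus a t x with hT
  have hTL : ∀ z ∈ T, z ∈ smallGroup a t := fun z hz => (mem_torus.1 hz).1
  have ha : a ∈ orbitSet hS h2 := Or.inl rfl
  have hfree : ∀ z ∈ T, z ≠ 1 → ∀ c ∈ orbitSet hS h2, z • c ≠ c := fun z hz hz1 =>
    (torus_isFree hS h2 hr hx hz hz1).free
  -- the torus is transitive on the orbit
  obtain ⟨τ, hτ⟩ : ∃ τ : T, (τ : G) • a = y • a := by
    let f : T → orbitSet hS h2 := fun τ => ⟨(τ : G) • a, smul_orbitSet hS h2 hr (hTL τ τ.2) ha⟩
    have hf : Function.Injective f := fun τ τ' h => by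
      by_contra hne
      refine hfree _ (mul_mem (inv_mem τ'.2) τ.2) (fun e => hne (Subtype.ext (inv_mul_eq_one.1 e).symm))
        a ha ?_
      rw [mul_smul, show (τ : G) • a = (τ' : G) • a from congrArg Subtype.val h, inv_smul_smul]
    obtain ⟨τ, hτ⟩ := ((Nat.bijective_iff_injective_and_card f).2 ⟨hf, by
      rw [(torus_spec hS h2 hr hx).2, card_orbitSet hS h2 hr]⟩).2
      ⟨y • a, smul_orbitSet hS h2 hr hy ha⟩
    exact ⟨τ, congrArg Subtype.val hτ⟩
  set z₀ := (τ : G)⁻¹ * y with hz₀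
  have hz₀L : z₀ ∈ smallGroup a t := mul_mem (inv_mem (hTL τ τ.2)) hy
  have hz₀a : z₀ • a = a := by rw [hz₀, mul_smul, ← hτ, inv_smul_smul]
  have hz₀n : ∀ z ∈ T, z₀ * z * z₀⁻¹ ∈ T := fun z hz => by
    rw [hz₀, show (τ : G)⁻¹ * y * z * ((τ : G)⁻¹ * y)⁻¹ = (τ : G)⁻¹ * (y * z * y⁻¹) * τ by group]
    exact mul_mem (mul_mem (inv_mem τ.2) (hn z hz)) τ.2
  by_cases h1 : z₀ = 1
  · left
    rw [hz₀, inv_mul_eq_one] at h1
    exact h1 ▸ τ.2
  right
  obtain ⟨z, hz, k, hk, hzk⟩ := small_move_a hS h2 hr hz₀L hz₀a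
  have hz2 : z₀ * z₀ = 1 := by
    by_contra hne
    have hodd : Odd (orderOf (z₀ * z₀)) := by
      have hm : ∀ j : ℕ, ∃ w ∈ invSub hS h2, z₀ ^ j = w * k ^ j := by
        intro j
        induction j with
        | zero => exact ⟨1, one_mem _, by simp⟩
        | succ j ih =>
          obtain ⟨w, hw, hj⟩ := ih
          refine ⟨w * (k ^ j * z * (k ^ j)⁻¹), mul_mem hw (invK_conj_invSub hS h2 (pow_mem hk j) hz), ?_⟩
          rw [pow_succ, hj, hzk, pow_succ]; group
      obtain ⟨w, hw, hj⟩ := hm (Nat.card (invK a t))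
      have hk1 : k ^ Nat.card (invK a t) = 1 :=
        congrArg Subtype.val (pow_card_eq_one' (x := (⟨k, hk⟩ : invK a t)))
      rw [hk1, mul_one] at hj
      have h3 : (z₀ * z₀) ^ Nat.card (invK a t) = 1 := by
        rw [(Commute.refl z₀).mul_pow, hj]
        exact invSub_sq hS h2 hw
      refine Odd.of_dvd_nat ?_ (orderOf_dvd_of_pow_eq_one h3)
      obtain ⟨n, hn', hq⟩ := qSize_pow hS h2
      have hK := card_invK hS h2
      rw [← qSize_eq hS h2, hq] at hK
      have : Even (2 ^ n) := Nat.even_pow.2 ⟨even_two, by omega⟩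
      rw [← hK, Nat.even_add_one, Nat.not_even_iff_odd] at this
      exact this
    obtain ⟨-, c', hc', hne', hfix, -⟩ := small_fix_orbit hS h2 hr (mul_mem hz₀L hz₀L) hne hodd ha
      (by rw [mul_smul, hz₀a, hz₀a])
    obtain ⟨σ, hσ⟩ : ∃ σ : T, (σ : G) • a = c' := by
      let f : T → orbitSet hS h2 := fun τ => ⟨(τ : G) • a, smul_orbitSet hS h2 hr (hTL τ τ.2) ha⟩
      have hf : Function.Injective f := fun τ τ' h => by
        by_contra hne
        refine hfree _ (mul_mem (inv_mem τ'.2) τ.2)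
          (fun e => hne (Subtype.ext (inv_mul_eq_one.1 e).symm)) a ha ?_
        rw [mul_smul, show (τ : G) • a = (τ' : G) • a from congrArg Subtype.val h, inv_smul_smul]
      obtain ⟨σ, hσ⟩ := ((Nat.bijective_iff_injective_and_card f).2 ⟨hf, by
        rw [(torus_spec hS h2 hr hx).2, card_orbitSet hS h2 hr]⟩).2 ⟨c', hc'⟩
      exact ⟨σ, congrArg Subtype.val hσ⟩
    set u := z₀ * z₀ with hu
    have hua : u • a = a := by rw [hu, mul_smul, hz₀a, hz₀a]
    have hun : u * σ * u⁻¹ ∈ T := by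
      rw [hu, show z₀ * z₀ * σ * (z₀ * z₀)⁻¹ = z₀ * (z₀ * σ * z₀⁻¹) * z₀⁻¹ by group]
      exact hz₀n _ (hz₀n _ σ.2)
    have hcomm : u * σ * u⁻¹ = σ := by
      by_contra hne2
      refine hfree _ (mul_mem (inv_mem σ.2) hun) (fun e => hne2 (inv_mul_eq_one.1 e).symm) a ha ?_
      rw [mul_smul, mul_smul, mul_smul, show u⁻¹ • a = a by rw [inv_smul_eq_iff, hua], hσ, hfix,
        ← hσ, inv_smul_smul]
    have hσ1 : (σ : G) ≠ 1 := fun e => hne' (by rw [← hσ, e, one_smul])
    exact (torus_isFree hS h2 hr (torus_isFree hS h2 hr hx σ.2 hσ1)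
      (mem_torus.2 ⟨mul_mem hz₀L hz₀L, mul_inv_eq_iff_eq_mul.1 hcomm⟩) hne).free a ha hua
  have hzinv : z₀⁻¹ = z₀ := inv_eq_of_mul_eq_one_right hz2
  have hinvert : ∀ z ∈ T, z₀ * z * z₀⁻¹ = z⁻¹ := by
    intro w hw
    have hw' := hz₀n w hw
    set u := w * (z₀ * w * z₀⁻¹) with hu
    have hfix : z₀ * u = u * z₀ := by
      rw [hu, hzinv] at *
      calc z₀ * (w * (z₀ * w * z₀)) = (z₀ * w * z₀) * w * z₀ := by simp only [mul_assoc]
        _ = _ := by rw [torus_comm hS h2 hr hx hw' hw]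
    by_contra hne
    have hu1 : u ≠ 1 := fun e => hne (by rw [eq_inv_of_mul_eq_one_right e])
    have hui := torus_isFree hS h2 hr hx (mul_mem hw hw') hu1
    exact hui.free a ha (fixed_of_commute hS ⟨h1, hz2⟩ hz₀a hfix)
  intro w hw
  rw [show y * w * y⁻¹ = (τ : G) * (z₀ * w * z₀⁻¹) * (τ : G)⁻¹ by rw [hz₀]; group, hinvert w hw,
    torus_comm hS h2 hr hx τ.2 (inv_mem hw), mul_inv_cancel_right]

omit hx in
/-- A subgroup all whose non-trivial elements are free lies in a torus. -/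
theorem exists_torus_ge {H : Subgroup G} (hH : H ≠ ⊥) (hfree : ∀ y ∈ H, y ≠ 1 → IsFree hS h2 y) :
    ∃ g ∈ H, IsFree hS h2 g ∧ H ≤ torus a t g := by
  classical
  have hodd : ∀ y ∈ H, Odd (orderOf y) := fun y hy => by
    by_cases h : y = 1
    · rw [h, orderOf_one]; exact odd_one
    · exact (hfree y hy h).odd
  haveI : IsZGroup H := ⟨fun p hp P => by
    haveI := Fact.mk hp
    by_cases hP : (P : Subgroup H) = ⊥
    · rw [hP]; infer_instance
    haveI : Nontrivial (P : Subgroup H) := (Subgroup.nontrivial_iff_ne_bot _).2 hP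
    have := IsPGroup.center_nontrivial P.2
    obtain ⟨z, hz⟩ := exists_ne (1 : Subgroup.center (P : Subgroup H))
    have hz1 : (((z : (P : Subgroup H)) : H) : G) ≠ 1 :=
      fun e => hz (Subtype.ext (Subtype.ext (Subtype.ext e)))
    have hzf := hfree _ ((z : (P : Subgroup H)) : H).2 hz1
    haveI := (torus_spec hS h2 hr hzf).1
    refine isCyclic_of_injective (G' := torus a t (((z : (P : Subgroup H)) : H) : G))
      { toFun := fun u => ⟨((u : H) : G), mem_torus.2 ⟨by
          by_cases h : ((u : H) : G) = 1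
          · rw [h]; exact one_mem _
          · exact (hfree _ (u : H).2 h).mem,
          congrArg (fun v : (P : Subgroup H) => ((v : H) : G)) (Subgroup.mem_center_iff.1 z.2 u)⟩⟩
        map_one' := rfl
        map_mul' := fun _ _ => rfl }
      fun u v h => Subtype.ext (Subtype.ext
        (congrArg (fun w : torus a t (((z : (P : Subgroup H)) : H) : G) => (w : G)) h))⟩
  obtain ⟨g₀, hg₀⟩ := Subgroup.ne_bot_iff_exists_ne_one.1 hH
  by_cases hc : ∀ u v : H, u * v = v * u
  · refine ⟨g₀, g₀.2, hfree _ g₀.2 (fun e => hg₀ (Subtype.ext e)), fun u hu => mem_torus.2 ⟨?_, ?_⟩⟩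
    · by_cases h : u = 1
      · rw [h]; exact one_mem _
      · exact (hfree u hu h).mem
    · exact congrArg Subtype.val (hc ⟨u, hu⟩ g₀)
  push Not at hc
  obtain ⟨u, v, huv⟩ := hc
  haveI := IsZGroup.isCyclic_commutator H
  obtain ⟨c, hcgen⟩ := IsCyclic.exists_generator (α := commutator H)
  have hc1 : ((c : H) : G) ≠ 1 := by
    intro e
    have hmem : u * v * u⁻¹ * v⁻¹ ∈ commutator H :=
      Subgroup.commutator_mem_commutator (Subgroup.mem_top u) (Subgroup.mem_top v)
    obtain ⟨j, hj⟩ := hcgen ⟨_, hmem⟩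
    rw [show c = 1 from Subtype.ext (Subtype.ext e)] at hj
    simp only [one_zpow] at hj
    have h' : u * v * u⁻¹ * v⁻¹ = 1 := (congrArg Subtype.val hj).symm
    exact huv (mul_inv_eq_iff_eq_mul.1 (mul_inv_eq_one.1 h'))
  have hcf := hfree _ (c : H).2 hc1
  refine ⟨_, (c : H).2, hcf, fun y hy => ?_⟩
  by_cases hy1 : y = 1
  · rw [hy1]; exact one_mem _
  have hyf := hfree y hy hy1
  -- `y` normalises the torus
  have hconj : y * ((c : H) : G) * y⁻¹ ∈ torus a t ((c : H) : G) := by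
    have hmem : (⟨y, hy⟩ : H) * c * (⟨y, hy⟩ : H)⁻¹ ∈ commutator H :=
      Subgroup.Normal.conj_mem inferInstance _ c.2 _
    obtain ⟨j, hj⟩ := hcgen ⟨_, hmem⟩
    rw [show y * ((c : H) : G) * y⁻¹ = ((c : H) : G) ^ j from
      (congrArg (fun w : commutator H => ((w : H) : G)) hj).symm.trans (by push_cast; rfl)]
    exact zpow_mem (self_mem_torus hS h2 hr hcf) j
  have hne : y * ((c : H) : G) * y⁻¹ ≠ 1 := fun e => hc1 (conj_eq_one_iff.1 e)
  have heq := torus_eq_of_mem hS h2 hr hcf hconj hne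
  rcases torus_normalizer hS h2 hr hcf hyf.mem (fun z hz => by
    rw [← heq]
    refine mem_torus.2 ⟨mul_mem (mul_mem hyf.mem (mem_torus.1 hz).1) (inv_mem hyf.mem), ?_⟩
    rw [conj_mul, conj_mul, (mem_torus.1 hz).2]) with h | h
  · exact h
  · exfalso
    exact hc1 (eq_one_of_conj_inv (hodd _ (c : H).2) hyf.odd (h _ (self_mem_torus hS h2 hr hcf)))

end Cfsg.Agent.RankOne
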