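import Cfsg.Agent.Lib.RankOneW.Regular
import Cfsg.Agent.Lib.RankOneW.Torus

/-!
# The mate of `W` at a point outside the orbit

For a point `ω` outside the orbit `Δ` every `w ∈ W` moves `ω` as a unique element of the small group does;
these elements form a subgroup of a torus, so `W` is cyclic of order dividing `q + 1`, and the stabiliser
of `ω` in the product of the small group and `W` fixes exactly the torus orbit of `ω`.
-/

set_option autoImplicit false
set_option linter.unusedSectionVars false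

namespace Cfsg.Agent.RankOne

open MulAction

variable {G Ω : Type*} [Group G] [MulAction G Ω] {a : Ω} {t : G} {Q : Subgroup G}
variable [Finite G] [FaithfulSMul G Ω] (hS : Cfsg.IsRankOneSetup G Ω a t Q)
  (h2 : ∃ x y : G, x ≠ 1 ∧ y ≠ 1 ∧ x ≠ y ∧ x * x = 1 ∧ y * y = 1 ∧ x * y = y * x)
  (hC : IsCube a t Q) (hr : RInvol hS h2)

/-- The stabiliser of `ω` in the product of the small group and `W`. -/
def mate (a : Ω) (t : G) (ω : Ω) : Subgroup G :=
  stabilizer G ω ⊓ (smallGroup a t ⊔ wSub a t)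

include hS h2 hC hr

theorem wSub_comm_small {w l : G} (hw : w ∈ wSub a t) (hl : l ∈ smallGroup a t) : w * l = l * w := by
  have key : ∀ x ∈ Cfsg.involutionsIn (stabilizer G a : Set G) ∪
      Cfsg.invertedBy (twoStab a t) t ∪ {t}, w * x = x * w := by
    rintro x ((hx | hx) | rfl)
    · exact ((mem_wSub hS h2).1 hw).2 x (Or.inr hx)
    · exact wSub_comm_inverted hS h2 hw hx
    · exact wSub_comm_t hS h2 hw
  have hle : smallGroup a t ≤ Subgroup.centralizer {w} := (Subgroup.closure_le _).2 fun x hx =>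
    Subgroup.mem_centralizer_singleton_iff.2 (key x hx).symm
  exact (Subgroup.mem_centralizer_singleton_iff.1 (hle hl)).symm

theorem wSub_fix_orbit {w : G} (hw : w ∈ wSub a t) {p : Ω} (hp : p ∈ orbitSet hS h2) : w • p = p := by
  obtain ⟨hwa, hwb⟩ := mem_twoStab hS (wSub_le hS h2 hw)
  rcases hp with rfl | ⟨z, hz, rfl⟩
  · exact hwa
  · rw [← mul_smul, ((mem_wSub hS h2).1 hw).2 z hz, mul_smul, hwb]

theorem wSub_fixed_mem {w : G} (hw : w ∈ wSub a t) (hw1 : w ≠ 1) {p : Ω} (hp : w • p = p) :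
    p ∈ orbitSet hS h2 := by
  by_cases hpa : p = a
  · exact Or.inl hpa
  obtain ⟨q, hq, rfl⟩ := exists_q_smul hS hpa
  obtain ⟨hwa, hwb⟩ := mem_twoStab hS (wSub_le hS h2 hw)
  have h := mem_centralizer_iff_fix hS (wSub_le hS h2 hw) hq rfl hp
  exact Or.inr ⟨q, cent_wSub hS h2 hC hw hw1 hq (mul_inv_eq_iff_eq_mul.1 h), rfl⟩

theorem mem_wSub_of_fix_orbit {d : G} (hd : ∀ p ∈ orbitSet hS h2, d • p = p) : d ∈ wSub a t := by
  have hdD : d ∈ twoStab a t := Subgroup.mem_inf.2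
    ⟨hd a (Or.inl rfl), hd _ (Or.inr ⟨1, one_mem _, one_smul _ _⟩)⟩
  exact (mem_wSub hS h2).2 ⟨hdD, fun z hz => mul_inv_eq_iff_eq_mul.1
    (mem_centralizer_iff_fix hS hdD (invSub_le_Q hS h2 hz) rfl (hd _ (Or.inr ⟨z, hz, rfl⟩)))⟩

theorem sup_cases {g : G} (hg : g ∈ smallGroup a t ⊔ wSub a t) :
    ∃ l ∈ smallGroup a t, ∃ w ∈ wSub a t, g = l * w := by
  rw [Subgroup.sup_eq_closure] at hg
  induction hg using Subgroup.closure_induction with
  | mem x hx =>
    rcases hx with hx | hx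
    · exact ⟨x, hx, 1, one_mem _, (mul_one x).symm⟩
    · exact ⟨1, one_mem _, x, hx, (one_mul x).symm⟩
  | one => exact ⟨1, one_mem _, 1, one_mem _, (one_mul 1).symm⟩
  | mul x y _ _ hx hy =>
    obtain ⟨l, hl, w, hw, rfl⟩ := hx
    obtain ⟨l', hl', w', hw', rfl⟩ := hy
    refine ⟨l * l', mul_mem hl hl', w * w', mul_mem hw hw', ?_⟩
    calc l * w * (l' * w') = l * (w * l') * w' := by group
      _ = _ := by rw [wSub_comm_small hS h2 hC hr hw hl']; group
  | inv x _ hx =>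
    obtain ⟨l, hl, w, hw, rfl⟩ := hx
    refine ⟨l⁻¹, inv_mem hl, w⁻¹, inv_mem hw, ?_⟩
    rw [mul_inv_rev, wSub_comm_small hS h2 hC hr (inv_mem hw) (inv_mem hl)]

variable {ω : Ω} (hω : ω ∉ orbitSet hS h2)
include hω

/-- `w` moves `ω` as a unique element of the small group. -/
theorem existsUnique_iota {w : G} (hw : w ∈ wSub a t) : ∃! l : smallGroup a t, (l : G) • ω = w • ω := by
  refine existsUnique_small hS h2 hC hr hω fun h => hω ?_
  have h' : w⁻¹ • (w • ω) = w • ω := wSub_fix_orbit hS h2 hC hr (inv_mem hw) h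
  rw [inv_smul_smul] at h'
  exact h'.symm ▸ h

/-- The element of the small group moving `ω` as `w` does. -/
noncomputable def iota {w : G} (hw : w ∈ wSub a t) : G :=
  ((existsUnique_iota hS h2 hC hr hω hw).choose : smallGroup a t)

theorem iota_mem {w : G} (hw : w ∈ wSub a t) : iota hS h2 hC hr hω hw ∈ smallGroup a t :=
  (existsUnique_iota hS h2 hC hr hω hw).choose.2

theorem iota_smul {w : G} (hw : w ∈ wSub a t) : iota hS h2 hC hr hω hw • ω = w • ω :=
  (existsUnique_iota hS h2 hC hr hω hw).choose_spec.1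

theorem iota_eq {w l : G} (hw : w ∈ wSub a t) (hl : l ∈ smallGroup a t) (h : l • ω = w • ω) :
    l = iota hS h2 hC hr hω hw :=
  congrArg Subtype.val ((existsUnique_iota hS h2 hC hr hω hw).choose_spec.2 ⟨l, hl⟩ h)

theorem iota_one {w : G} (hw : w ∈ wSub a t) (h : iota hS h2 hC hr hω hw = 1) : w = 1 := by
  by_contra hw1
  have h' := iota_smul hS h2 hC hr hω hw
  rw [h, one_smul] at h'
  exact hω (wSub_fixed_mem hS h2 hC hr hw hw1 h'.symm)

theorem mate_elem {w : G} (hw : w ∈ wSub a t) :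
    (iota hS h2 hC hr hω hw)⁻¹ * w ∈ mate a t ω := Subgroup.mem_inf.2
  ⟨by rw [mem_stabilizer_iff, mul_smul, ← iota_smul hS h2 hC hr hω hw, inv_smul_smul],
    mul_mem (inv_mem (Subgroup.mem_sup_left (iota_mem hS h2 hC hr hω hw))) (Subgroup.mem_sup_right hw)⟩

theorem mem_mate {g : G} : g ∈ mate a t ω ↔
    ∃ (w : G) (hw : w ∈ wSub a t), g = (iota hS h2 hC hr hω hw)⁻¹ * w := by
  refine ⟨fun hg => ?_, fun ⟨w, hw, e⟩ => e ▸ mate_elem hS h2 hC hr hω hw⟩
  obtain ⟨hgω, hgs⟩ := Subgroup.mem_inf.1 hg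
  obtain ⟨l, hl, w, hw, rfl⟩ := sup_cases hS h2 hC hr hgs
  refine ⟨w, hw, ?_⟩
  rw [← iota_eq hS h2 hC hr hω hw (inv_mem hl) ?_, inv_inv]
  rw [inv_smul_eq_iff, ← mul_smul]
  exact (mem_stabilizer_iff.1 hgω).symm

/-- `iota` is a homomorphism up to the order of the factors. -/
theorem iota_mul {v w : G} (hv : v ∈ wSub a t) (hw : w ∈ wSub a t) :
    iota hS h2 hC hr hω (mul_mem hv hw) =
      iota hS h2 hC hr hω hw * iota hS h2 hC hr hω hv := by
  refine (iota_eq hS h2 hC hr hω (mul_mem hv hw) (mul_mem (iota_mem hS h2 hC hr hω hw)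
    (iota_mem hS h2 hC hr hω hv)) ?_).symm
  rw [mul_smul, iota_smul, ← mul_smul,
    ← wSub_comm_small hS h2 hC hr hv (iota_mem hS h2 hC hr hω hw), mul_smul, iota_smul, mul_smul]

/-- A non-trivial element of `W` moves `ω` as an element without fixed points in `Δ`. -/
theorem iota_isFree {w : G} (hw : w ∈ wSub a t) (hw1 : w ≠ 1) :
    IsFree hS h2 (iota hS h2 hC hr hω hw) := by
  set l := iota hS h2 hC hr hω hw with hl
  have hlL := iota_mem hS h2 hC hr hω hw
  have hl1 : l ≠ 1 := fun h => hw1 (iota_one hS h2 hC hr hω hw h)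
  have hpow : ∀ j : ℕ, (l ^ j) • ω = (w ^ j) • ω := by
    intro j
    induction j with
    | zero => simp
    | succ j ih =>
      rw [pow_succ, mul_smul, hl, iota_smul, ← hl, ← mul_smul,
        ← wSub_comm_small hS h2 hC hr hw (pow_mem hlL j), mul_smul, ih, ← mul_smul, ← pow_succ']
  have hodd : Odd (orderOf l) := by
    refine (odd_orderOf hS.odd_card (wSub_le hS h2 hw)).of_dvd_nat (orderOf_dvd_of_pow_eq_one ?_)
    by_contra hne
    refine small_semiregular hS h2 hr (pow_mem hlL _) hne hω ?_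
    rw [hpow, pow_orderOf_eq_one, one_smul]
  refine ⟨hlL, hl1, hodd, fun c hc hlc => ?_⟩
  -- otherwise `l⁻¹ w` fixes `ω` and two points of `Δ`
  obtain ⟨-, c', hc', hne, hlc', -⟩ := small_fix_orbit hS h2 hr hlL hl1 hodd hc hlc
  obtain ⟨x, hx, hx1, hx2⟩ := small_move hS h2 hr hc hc' hne.symm
  set k := x⁻¹ * l * x with hk
  have hkK : k ∈ invK a t := small_twoStab hS h2 hr (mul_mem (mul_mem (inv_mem hx) hlL) hx)
    (Subgroup.mem_inf.2 ⟨by rw [mem_stabilizer_iff, hk, mul_smul, mul_smul, hx1, hlc, ← hx1, inv_smul_smul],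
      by rw [mem_stabilizer_iff, hk, mul_smul, mul_smul, hx2, hlc', ← hx2, inv_smul_smul]⟩)
  set ω₁ := x⁻¹ • ω with hω₁
  have hω₁out : ω₁ ∉ orbitSet hS h2 := fun h => hω (by
    simpa [hω₁] using smul_orbitSet hS h2 hr hx h)
  have hfix : (k⁻¹ * w) • ω₁ = ω₁ := by
    have e : k⁻¹ * w = x⁻¹ * (l⁻¹ * w) * x := by
      calc k⁻¹ * w = x⁻¹ * l⁻¹ * (x * w) := by rw [hk]; group
        _ = _ := by rw [← wSub_comm_small hS h2 hC hr hw hx]; group
    rw [e, hω₁, mul_smul, smul_inv_smul, mul_smul, mul_smul, hl, ← iota_smul hS h2 hC hr hω hw,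
      inv_smul_smul]
  have hω₁a : ω₁ ≠ a := fun h => hω₁out (Or.inl h)
  obtain ⟨q, hq, hqω⟩ := exists_q_smul hS hω₁a
  have hd : k⁻¹ * w ∈ twoStab a t := mul_mem (inv_mem (invK_le hS hkK)) (wSub_le hS h2 hw)
  have hcq : (k⁻¹ * w) * q = q * (k⁻¹ * w) :=
    mul_inv_eq_iff_eq_mul.1 (mem_centralizer_iff_fix hS hd hq hqω hfix)
  have hqq : q * q ∈ invSub hS h2 := cube_sq_mem hS h2 hC hq
  have hqq1 : q * q ≠ 1 := fun h => hω₁out (Or.inr ⟨q, mem_invSub_of_sq hS h2 hq h, hqω⟩)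
  have hkq : k * (q * q) = q * q * k := by
    have h1 : Commute (k⁻¹ * w) (q * q) := (show Commute (k⁻¹ * w) q from hcq).mul_right hcq
    have h3 : Commute w (q * q) := ((mem_wSub hS h2).1 hw).2 _ hqq
    have h4 := h1.mul_left h3.inv_left
    rw [mul_inv_cancel_right] at h4
    exact (Commute.inv_left_iff.1 h4).eq
  have hk1 : k = 1 := by
    by_contra hk1
    have : q * q ∈ Q ⊓ Subgroup.centralizer {k} := Subgroup.mem_inf.2
      ⟨invSub_le_Q hS h2 hqq, Subgroup.mem_centralizer_singleton_iff.2 hkq.symm⟩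
    rw [inverted_fpf hS ((mem_invK hS h2).1 hkK) hk1, Subgroup.mem_bot] at this
    exact hqq1 this
  exact hl1 (by
    calc l = x * k * x⁻¹ := by rw [hk]; group
      _ = 1 := by rw [hk1]; group)

/-- The subgroup of the small group formed by the `iota w`. -/
noncomputable def iotaSub : Subgroup G where
  carrier := {l | ∃ (w : G) (hw : w ∈ wSub a t), l = iota hS h2 hC hr hω hw}
  one_mem' := ⟨1, one_mem _, iota_eq hS h2 hC hr hω (one_mem _) (one_mem _) rfl⟩
  mul_mem' := by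
    rintro _ _ ⟨v, hv, rfl⟩ ⟨w, hw, rfl⟩
    exact ⟨w * v, mul_mem hw hv, (iota_mul hS h2 hC hr hω hw hv).symm⟩
  inv_mem' := by
    rintro _ ⟨w, hw, rfl⟩
    refine ⟨w⁻¹, inv_mem hw, iota_eq hS h2 hC hr hω (inv_mem hw) (inv_mem (iota_mem hS h2 hC hr hω hw)) ?_⟩
    rw [inv_smul_eq_iff, ← mul_smul, ← wSub_comm_small hS h2 hC hr (inv_mem hw) (iota_mem hS h2 hC hr hω hw),
      mul_smul, iota_smul, inv_smul_smul]

theorem iota_mem_iotaSub {w : G} (hw : w ∈ wSub a t) :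
    iota hS h2 hC hr hω hw ∈ iotaSub hS h2 hC hr hω := ⟨w, hw, rfl⟩

/-- The elements `iota w` lie in one torus. -/
theorem exists_iota_torus (hW : wSub a t ≠ ⊥) :
    ∃ g : G, IsFree hS h2 g ∧ g ∈ iotaSub hS h2 hC hr hω ∧
      ∀ {w : G} (hw : w ∈ wSub a t), iota hS h2 hC hr hω hw ∈ torus a t g := by
  have hne : iotaSub hS h2 hC hr hω ≠ ⊥ := by
    obtain ⟨w, hw⟩ := Subgroup.ne_bot_iff_exists_ne_one.1 hW
    refine Subgroup.ne_bot_iff_exists_ne_one.2 ⟨⟨_, iota_mem_iotaSub hS h2 hC hr hω w.2⟩, fun e => hw ?_⟩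
    exact Subtype.ext (iota_one hS h2 hC hr hω w.2 (congrArg Subtype.val e))
  obtain ⟨g, hg, hgf, hle⟩ := exists_torus_ge hS h2 hr hne fun y hy hy1 => by
    obtain ⟨w, hw, rfl⟩ := hy
    exact iota_isFree hS h2 hC hr hω hw fun e => hy1 (by
      subst e
      exact (iota_eq hS h2 hC hr hω hw (one_mem _) rfl).symm)
  exact ⟨g, hgf, hg, fun hw => hle (iota_mem_iotaSub hS h2 hC hr hω hw)⟩

theorem wSub_comm (hW : wSub a t ≠ ⊥) {v w : G} (hv : v ∈ wSub a t) (hw : w ∈ wSub a t) :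
    v * w = w * v := by
  obtain ⟨g, hgf, -, hT⟩ := exists_iota_torus hS h2 hC hr hω hW
  have h : iota hS h2 hC hr hω (mul_mem hv hw) = iota hS h2 hC hr hω (mul_mem hw hv) := by
    rw [iota_mul hS h2 hC hr hω hv hw, iota_mul hS h2 hC hr hω hw hv]
    exact torus_comm hS h2 hr hgf (hT hw) (hT hv)
  by_contra hne
  refine hω (wSub_fixed_mem hS h2 hC hr (mul_mem (inv_mem (mul_mem hw hv)) (mul_mem hv hw))
    (fun e => hne (inv_mul_eq_one.1 e).symm) ?_)
  rw [mul_smul, ← iota_smul hS h2 hC hr hω (mul_mem hv hw), h,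
    iota_smul hS h2 hC hr hω (mul_mem hw hv), inv_smul_smul]

/-- `iota` as a homomorphism. -/
noncomputable def iotaHom (hW : wSub a t ≠ ⊥) : wSub a t →* G where
  toFun w := iota hS h2 hC hr hω w.2
  map_one' := (iota_eq hS h2 hC hr hω (one_mem _) (one_mem _) rfl).symm
  map_mul' v w := by
    obtain ⟨g, hgf, -, hT⟩ := exists_iota_torus hS h2 hC hr hω hW
    exact (iota_mul hS h2 hC hr hω v.2 w.2).trans (torus_comm hS h2 hr hgf (hT w.2) (hT v.2))

theorem iotaHom_injective (hW : wSub a t ≠ ⊥) :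
    Function.Injective (iotaHom hS h2 hC hr hω hW) := by
  rw [injective_iff_map_eq_one]
  exact fun w hw => Subtype.ext (iota_one hS h2 hC hr hω w.2 hw)

theorem wSub_cyclic (hW : wSub a t ≠ ⊥) :
    IsCyclic (wSub a t : Subgroup G) ∧ Nat.card (wSub a t) ∣ qSize a t + 1 := by
  obtain ⟨g, hgf, -, hT⟩ := exists_iota_torus hS h2 hC hr hω hW
  obtain ⟨hcyc, hcard⟩ := torus_spec hS h2 hr hgf
  let f : wSub a t →* torus a t g :=
    (iotaHom hS h2 hC hr hω hW).codRestrict _ fun w => hT w.2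
  have hf : Function.Injective f := fun v w h =>
    iotaHom_injective hS h2 hC hr hω hW (congrArg (fun x : torus a t g => (x : G)) h)
  exact ⟨isCyclic_of_injective f hf, hcard ▸ Subgroup.card_dvd_of_injective f hf⟩

/-- The points fixed by a non-trivial element of the mate. -/
theorem mate_fixed_iff {g : G} (hgf : IsFree hS h2 g)
    (hT : ∀ {w : G} (hw : w ∈ wSub a t), iota hS h2 hC hr hω hw ∈ torus a t g)
    {w : G} (hw : w ∈ wSub a t) (hw1 : w ≠ 1) (p : Ω) :
    ((iota hS h2 hC hr hω hw)⁻¹ * w) • p = p ↔ ∃ τ ∈ torus a t g, τ • ω = p := by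
  set l := iota hS h2 hC hr hω hw with hl
  have hlf := iota_isFree hS h2 hC hr hω hw hw1
  have hconj : ∀ y ∈ smallGroup a t, (l⁻¹ * w) • (y • ω) = (l⁻¹ * y * l) • ω := by
    intro y hy
    rw [← mul_smul, mul_assoc l⁻¹ w y, wSub_comm_small hS h2 hC hr hw hy, ← mul_assoc, mul_smul,
      ← iota_smul hS h2 hC hr hω hw, ← mul_smul]
  constructor
  · intro hp
    have hpout : p ∉ orbitSet hS h2 := by
      intro hpΔ
      refine hlf.free p hpΔ ?_
      rw [mul_smul, wSub_fix_orbit hS h2 hC hr hw hpΔ, inv_smul_eq_iff] at hp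
      exact hp.symm
    obtain ⟨y, hy, huniq⟩ := existsUnique_small hS h2 hC hr hω hpout
    refine ⟨y, ?_, hy⟩
    have h1 : (l⁻¹ * (y : G) * l) • ω = p := by rw [← hconj y y.2, hy, hp]
    have h3 : (⟨_, mul_mem (mul_mem (inv_mem hlf.mem) y.2) hlf.mem⟩ : smallGroup a t) = y := huniq _ h1
    have h4 : l⁻¹ * (y : G) * l = y := congrArg Subtype.val h3
    rw [← torus_eq_of_mem hS h2 hr hgf (hT hw) hlf.ne_one, mem_torus]
    refine ⟨y.2, ?_⟩
    calc (y : G) * l = l * (l⁻¹ * (y : G) * l) := by group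
      _ = l * y := by rw [h4]
  · rintro ⟨τ, hτ, rfl⟩
    rw [hconj τ (mem_torus.1 hτ).1, mul_assoc, torus_comm hS h2 hr hgf hτ (hT hw), inv_mul_cancel_left]

end Cfsg.Agent.RankOne
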