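import Cfsg.Agent.Lib.RankOneW.Defs
import Cfsg.Agent.Lib.RankOne.SmallQCases
import Cfsg.Agent.Lib.RankOne.SylowTwo
import Cfsg.Agent.S1137
import Cfsg.Agent.S1138

/-!
# The elements of `D` centralising the involutions of `G_a`

In the case of a Suzuki 2-group `Q` of order `q ^ 3` such an element, if it is not trivial, centralises
only the involutions of `Q`.
-/

set_option autoImplicit false
set_option linter.unusedSectionVars false

namespace Cfsg.Agent.RankOne

open MulAction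

variable {G Ω : Type*} [Group G] [MulAction G Ω] {a : Ω} {t : G} {Q : Subgroup G}
variable [Finite G] (hS : Cfsg.IsRankOneSetup G Ω a t Q)
  (h2 : ∃ x y : G, x ≠ 1 ∧ y ≠ 1 ∧ x ≠ y ∧ x * x = 1 ∧ y * y = 1 ∧ x * y = y * x)
include hS h2

theorem qSize_eq : qSize a t = Nat.card (invSub hS h2) := by
  rw [qSize, card_invSub hS h2, card_inverted hS]

theorem four_le_qSize : 4 ≤ qSize a t := by rw [qSize_eq hS h2]; exact four_le hS h2

theorem invSub_sq {z : G} (hz : z ∈ invSub hS h2) : z * z = 1 := by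
  rcases hz with rfl | h
  · exact one_mul 1
  · exact h.2.2

theorem mem_invSub_of_sq {x : G} (hx : x ∈ Q) (h : x * x = 1) : x ∈ invSub hS h2 := by
  by_cases hx1 : x = 1
  · exact Or.inl hx1
  · exact Or.inr ⟨smul_a hS hx, hx1, h⟩

theorem invSub_isPGroup : IsPGroup 2 (invSub hS h2) := by
  intro z
  refine ⟨1, Subtype.ext ?_⟩
  rw [pow_one, pow_two]
  exact invSub_sq hS h2 z.2

theorem qSize_pow : ∃ n, 2 ≤ n ∧ qSize a t = 2 ^ n := by
  have := Fact.mk Nat.prime_two
  obtain ⟨n, hn⟩ := IsPGroup.iff_card.1 (invSub_isPGroup hS h2)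
  refine ⟨n, ?_, (qSize_eq hS h2).trans hn⟩
  by_contra hlt
  have h4 := four_le hS h2
  rw [hn] at h4
  rcases (show n = 0 ∨ n = 1 by omega) with rfl | rfl <;> simp at h4

/-- The elements of `W`. -/
theorem mem_wSub {w : G} : w ∈ wSub a t ↔
    w ∈ twoStab a t ∧ ∀ z ∈ invSub hS h2, w * z = z * w := by
  refine ⟨fun h => ⟨(Subgroup.mem_inf.1 h).1, fun z hz => ?_⟩, fun h => Subgroup.mem_inf.2
    ⟨h.1, Subgroup.mem_centralizer_iff.2 fun z hz => (h.2 z (Or.inr hz)).symm⟩⟩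
  rcases hz with rfl | hz
  · rw [mul_one, one_mul]
  · exact (Subgroup.mem_centralizer_iff.1 (Subgroup.mem_inf.1 h).2 z hz).symm

theorem wSub_le : wSub a t ≤ twoStab a t := inf_le_left

theorem wSub_comm_inverted {w k : G} (hw : w ∈ wSub a t)
    (hk : k ∈ Cfsg.invertedBy (twoStab a t) t) : w * k = k * w := by
  have h : (⟨w, wSub_le hS h2 hw⟩ : twoStab a t) ∈ (invAct hS h2).ker :=
    (mem_ker_invAct hS h2).2 fun z hz =>
      Subgroup.mem_centralizer_iff.1 (Subgroup.mem_inf.1 hw).2 z hz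
  exact ((ker_invAct_comm hS h2 h).2 k hk).symm

theorem wSub_comm_t {w : G} (hw : w ∈ wSub a t) : w * t = t * w := by
  have h : (⟨w, wSub_le hS h2 hw⟩ : twoStab a t) ∈ (invAct hS h2).ker :=
    (mem_ker_invAct hS h2).2 fun z hz =>
      Subgroup.mem_centralizer_iff.1 (Subgroup.mem_inf.1 hw).2 z hz
  have := (ker_invAct_comm hS h2 h).1
  exact (mul_inv_eq_iff_eq_mul.1 this).symm

theorem wSub_le_v : wSub a t ≤ twoStab a t ⊓ Subgroup.centralizer {t} := fun _ hw =>
  Subgroup.mem_inf.2 ⟨wSub_le hS h2 hw,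
    Subgroup.mem_centralizer_singleton_iff.2 (wSub_comm_t hS h2 hw)⟩

theorem conj_mem_wSub {d w : G} (hd : d ∈ twoStab a t) (hw : w ∈ wSub a t) :
    d * w * d⁻¹ ∈ wSub a t := by
  refine (mem_wSub hS h2).2 ⟨mul_mem (mul_mem hd (wSub_le hS h2 hw)) (inv_mem hd), fun z hz => ?_⟩
  have hz' : d⁻¹ * z * d ∈ invSub hS h2 := by
    simpa using conj_mem_invSub hS h2 (inv_mem hd) hz
  have h := ((mem_wSub hS h2).1 hw).2 _ hz'
  calc d * w * d⁻¹ * z = d * (w * (d⁻¹ * z * d)) * d⁻¹ := by group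
    _ = z * (d * w * d⁻¹) := by rw [h]; group

section Cube

variable (hC : IsCube a t Q)
include hC

theorem cube_suzuki : Cfsg.IsSuzukiTwoGroup ↥Q := by
  have := Fact.mk Nat.prime_two
  let S : Sylow 2 Q :=
    { toSubgroup := ⊤
      isPGroup' := hC.isPGroup.to_subgroup _
      is_maximal' := fun _ h => top_le_iff.1 h }
  rcases sylow_two_abelian_or_suzuki hS h2 S with h | h
  · obtain ⟨x, hx, y, hy, hne⟩ := hC.nonabelian
    exact absurd (congrArg (fun z : (⊤ : Subgroup Q) => ((z : Q) : G))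
      (h.1.comm ⟨⟨x, hx⟩, trivial⟩ ⟨⟨y, hy⟩, trivial⟩)) hne
  · have e : (↥(⊤ : Subgroup ↥Q)) ≃* ↥Q := Subgroup.topEquiv
    obtain ⟨hf, hp, ⟨x, y, hxy⟩, ⟨u, v, huv, hu1, hu2, hv1, hv2⟩, K, hK, hreg⟩ := h
    refine ⟨inferInstance, hC.isPGroup, ⟨e x, e y, fun he => hxy (e.injective (by rw [map_mul, map_mul, he]))⟩,
      ⟨e u, e v, fun he => huv (e.injective he), fun he => hu1 (e.injective (by rw [he, map_one])),
        by rw [← map_mul, hu2, map_one],
        fun he => hv1 (e.injective (by rw [he, map_one])), by rw [← map_mul, hv2, map_one]⟩,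
      K.map (MulAut.congr e).toMonoidHom, ?_, fun x y hx1 hx2 hy1 hy2 => ?_⟩
    · exact isCyclic_of_surjective ((MulAut.congr e).toMonoidHom.subgroupMap K)
        (MonoidHom.subgroupMap_surjective _ K)
    · obtain ⟨k, hk, huniq⟩ := hreg (e.symm x) (e.symm y)
        (fun he => hx1 (by rw [← e.apply_symm_apply x, he, map_one]))
        (by rw [← map_mul, hx2, map_one])
        (fun he => hy1 (by rw [← e.apply_symm_apply y, he, map_one]))
        (by rw [← map_mul, hy2, map_one])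
      refine ⟨⟨MulAut.congr e k, Subgroup.mem_map_of_mem _ k.2⟩, ?_, ?_⟩
      · show e ((k : MulAut (⊤ : Subgroup Q)) (e.symm x)) = y
        rw [hk, MulEquiv.apply_symm_apply]
      · rintro ⟨_, l, hl, rfl⟩ he
        have he' : l (e.symm x) = e.symm y := by
          apply e.injective
          rw [MulEquiv.apply_symm_apply]
          exact he
        exact Subtype.ext (congrArg (MulAut.congr e) (congrArg Subtype.val (huniq ⟨l, hl⟩ he')))

theorem cube_sq_mem {x : G} (hx : x ∈ Q) : x * x ∈ invSub hS h2 := by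
  have hQ := cube_suzuki hS h2 hC
  have hc := (Cfsg.Agent.S1138.result hQ).1 ⟨x, hx⟩
  refine mem_invSub_of_sq hS h2 (mul_mem hx hx) ?_
  exact congrArg Subtype.val ((Cfsg.Agent.S1137.result hQ).2 _ hc)

theorem cube_comm_mem {x y : G} (hx : x ∈ Q) (hy : y ∈ Q) :
    x⁻¹ * y⁻¹ * x * y ∈ invSub hS h2 := by
  have hQ := cube_suzuki hS h2 hC
  have hc := (Cfsg.Agent.S1138.result hQ).2.1 ⟨x, hx⟩ ⟨y, hy⟩
  refine mem_invSub_of_sq hS h2 (mul_mem (mul_mem (mul_mem (inv_mem hx) (inv_mem hy)) hx) hy) ?_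
  exact congrArg Subtype.val ((Cfsg.Agent.S1137.result hQ).2 _ hc)

/-- A non-trivial element of `W` centralises only the involutions of `Q`. -/
theorem cent_wSub [FaithfulSMul G Ω] {w x : G} (hw : w ∈ wSub a t) (hw1 : w ≠ 1) (hx : x ∈ Q)
    (hwx : w * x = x * w) : x ∈ invSub hS h2 := by
  classical
  by_contra hxZ
  set Z := invSub hS h2 with hZ
  have hwa : w ∈ stabilizer G a := (Subgroup.mem_inf.1 (wSub_le hS h2 hw)).1
  have hwQ : ∀ y ∈ Q, w * y * w⁻¹ ∈ Q := fun y hy => hS.conj_mem w hwa y hy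
  have hwZ : ∀ z ∈ Z, w * z = z * w := ((mem_wSub hS h2).1 hw).2
  -- the centraliser of `w` is not all of `Q`
  obtain ⟨y, hy, hwy⟩ : ∃ y ∈ Q, w * y ≠ y * w := by
    by_contra hall
    push Not at hall
    apply hw1
    refine eq_of_smul_eq_smul fun p : Ω => ?_
    rw [one_smul]
    by_cases hp : p = a
    · rw [hp]; exact hwa
    obtain ⟨q, hq, rfl⟩ := exists_q_smul hS hp
    rw [← mul_smul, hall q hq, mul_smul, (mem_twoStab hS (wSub_le hS h2 hw)).2]
  have hQcomm : ∀ z ∈ Z, ∀ u ∈ Q, z * u = u * z := fun z hz u hu => invSub_comm hS h2 hz hu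
  -- the centraliser contains a square root of every element of `Z`
  have hsq : ∀ z ∈ Z, z ≠ 1 → ∃ u ∈ Q, w * u = u * w ∧ u * u = z := by
    intro z hz hz1
    have hxx : x * x ≠ 1 := fun h => hxZ (mem_invSub_of_sq hS h2 hx h)
    have hxi : x * x ∈ Cfsg.involutionsIn (stabilizer G a : Set G) :=
      (cube_sq_mem hS h2 hC hx).resolve_left hxx
    obtain ⟨k, hk, hkz⟩ := inverted_transitive hS hxi (hz.resolve_left hz1)
    refine ⟨k⁻¹ * x * k, by simpa using hS.conj_mem k⁻¹ (inv_mem (Subgroup.mem_inf.1 hk.1).1) x hx, ?_, ?_⟩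
    · have hwk := wSub_comm_inverted hS h2 hw hk
      calc w * (k⁻¹ * x * k) = k⁻¹ * (k * w) * k⁻¹ * x * k := by group
        _ = k⁻¹ * (w * x) * k := by rw [← hwk]; group
        _ = k⁻¹ * x * (w * k) := by rw [hwx]; group
        _ = k⁻¹ * x * k * w := by rw [hwk]; group
    · calc k⁻¹ * x * k * (k⁻¹ * x * k) = k⁻¹ * (x * x) * k := by group
        _ = z := hkz
  -- `u = [y, w]` commutes with the centraliser of `w`
  set u := y⁻¹ * (w * y * w⁻¹) with hu
  have huQ : u ∈ Q := mul_mem (inv_mem hy) (hwQ y hy)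
  have hu1 : u ≠ 1 := fun h => hwy (mul_inv_eq_iff_eq_mul.1 (inv_mul_eq_one.1 h).symm)
  have hucomm : ∀ c ∈ Q, w * c = c * w → u * c = c * u := by
    intro c hc hwc
    set z := c⁻¹ * y⁻¹ * c * y with hz
    have hzZ : z ∈ Z := cube_comm_mem hS h2 hC hc hy
    have h1 : c⁻¹ * (w * y⁻¹ * w⁻¹) * c * (w * y * w⁻¹) = z := by
      have hwc' : w * c⁻¹ = c⁻¹ * w := by
        calc w * c⁻¹ = c⁻¹ * (c * w) * c⁻¹ := by group
          _ = c⁻¹ * w := by rw [← hwc]; group
      calc c⁻¹ * (w * y⁻¹ * w⁻¹) * c * (w * y * w⁻¹)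
          = c⁻¹ * w * y⁻¹ * (w⁻¹ * (c * w)) * y * w⁻¹ := by group
        _ = c⁻¹ * w * y⁻¹ * c * y * w⁻¹ := by rw [← hwc]; group
        _ = w * z * w⁻¹ := by rw [← hwc', hz]; group
        _ = z := by rw [hwZ z hzZ]; group
    have h2' : c * (w * y * w⁻¹) = (w * y * w⁻¹) * c * z := by
      calc c * (w * y * w⁻¹)
          = (w * y * w⁻¹) * c * (c⁻¹ * (w * y⁻¹ * w⁻¹) * c * (w * y * w⁻¹)) := by group
        _ = _ := by rw [h1]
    have h3 : c * y = y * c * z := by rw [hz]; group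
    have hzy : z * u = u * z := hQcomm z hzZ u huQ
    symm
    calc c * u = y⁻¹ * (y * c * z) * z⁻¹ * y⁻¹ * (w * y * w⁻¹) := by rw [hu]; group
      _ = y⁻¹ * c * (y * z⁻¹) * y⁻¹ * (w * y * w⁻¹) := by rw [← h3]; group
      _ = y⁻¹ * c * z⁻¹ * (w * y * w⁻¹) := by rw [← hQcomm _ (inv_mem hzZ) y hy]; group
      _ = y⁻¹ * (c * (w * y * w⁻¹)) * z⁻¹ := by
          rw [mul_assoc (y⁻¹ * c), hQcomm _ (inv_mem hzZ) _ (hwQ y hy)]
          group
      _ = u * c := by rw [h2', hu]; group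
  -- so `u` is central modulo squares
  have huu : w * u ≠ u * w := by
    intro hwu
    apply hwy
    have hpow : ∀ m : ℕ, w ^ m * y * (w ^ m)⁻¹ = y * u ^ m := by
      intro m
      induction m with
      | zero => simp
      | succ m ih =>
        calc w ^ (m + 1) * y * (w ^ (m + 1))⁻¹
            = w ^ m * (w * y * w⁻¹) * (w ^ m)⁻¹ := by rw [pow_succ]; group
          _ = w ^ m * y * (w ^ m)⁻¹ * (w ^ m * u * (w ^ m)⁻¹) := by rw [hu]; group
          _ = y * u ^ m * u := by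
              rw [ih, ((show Commute w u from hwu).pow_left m).eq]
              group
          _ = y * u ^ (m + 1) := by rw [pow_succ, mul_assoc]
    have hord := hpow (orderOf w)
    rw [pow_orderOf_eq_one, one_mul, inv_one, mul_one, left_eq_mul] at hord
    have hodd : Odd (orderOf w) := odd_orderOf hS.odd_card (wSub_le hS h2 hw)
    have h4 : orderOf u ∣ orderOf w := orderOf_dvd_of_pow_eq_one hord
    have := Fact.mk Nat.prime_two
    obtain ⟨i, hi⟩ := hC.isPGroup ⟨u, huQ⟩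
    have h5 : orderOf u ∣ 2 ^ i := orderOf_dvd_of_pow_eq_one (congrArg Subtype.val hi)
    have h6 : orderOf u = 1 := Nat.eq_one_of_dvd_coprimes
      ((Nat.coprime_two_left.2 hodd).pow_left i) h5 h4
    exact absurd (orderOf_eq_one_iff.1 h6) hu1
  have hu2 : u * u ≠ 1 := fun h => huu (hwZ u (mem_invSub_of_sq hS h2 huQ h))
  obtain ⟨c, hc, hwc, hcc⟩ := hsq _ (cube_sq_mem hS h2 hC huQ) hu2
  have hcu := hucomm c hc hwc
  have huc : u * c ∈ invSub hS h2 := mem_invSub_of_sq hS h2 (mul_mem huQ hc) (by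
    calc u * c * (u * c) = u * (c * u) * c := by group
      _ = (u * u) * (c * c) := by rw [← hcu]; group
      _ = 1 := by rw [hcc]; exact invSub_sq hS h2 (cube_sq_mem hS h2 hC huQ))
  refine huu ?_
  calc w * u = w * (u * c) * c⁻¹ := by group
    _ = u * c * (w * c⁻¹) := by rw [hwZ _ huc]; group
    _ = u * c * (c⁻¹ * (c * w) * c⁻¹) := by group
    _ = u * w := by rw [← hwc]; group

end Cube

end Cfsg.Agent.RankOne
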