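import Cfsg.Agent.Lib.RankOne.HPart

/-!
# Vocabulary for the unitary case of the split rank-one set-up

`q` is one more than the number of elements of `D` inverted by `t`, and `W` consists of the elements
of `D` centralising all involutions of `G_a`.
-/

set_option autoImplicit false

namespace Cfsg.Agent.RankOne

open MulAction

variable {G Ω : Type*} [Group G] [MulAction G Ω]

/-- The number of elements of square one in `G_a`. -/
noncomputable def qSize (a : Ω) (t : G) : ℕ :=
  Nat.card (Cfsg.invertedBy (twoStab a t) t) + 1

/-- The elements of `D` centralising every involution of `G_a`. -/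
def wSub (a : Ω) (t : G) : Subgroup G :=
  twoStab a t ⊓ Subgroup.centralizer (Cfsg.involutionsIn (stabilizer G a : Set G))

/-- The subgroup generated by the involutions of `G_a`, `t`, and the elements of `D` inverted by `t`. -/
def smallGroup (a : Ω) (t : G) : Subgroup G :=
  Subgroup.closure (Cfsg.involutionsIn (stabilizer G a : Set G) ∪
    Cfsg.invertedBy (twoStab a t) t ∪ {t})

/-- The case of a Suzuki 2-group of order `q ^ 3`. -/
structure IsCube (a : Ω) (t : G) (Q : Subgroup G) : Prop where
  isPGroup : IsPGroup 2 Q
  card_eq : Nat.card Q = qSize a t ^ 3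
  nonabelian : ∃ x ∈ Q, ∃ y ∈ Q, x * y ≠ y * x

/-- The unitary case: `Q` has order `q ^ 3`, the centralisers of the involutions in `D` form all of
`V`, and their number is `(q + 1) / d` with `d` a divisor of `gcd 3 (q + 1)`. -/
structure IsUnitary (a : Ω) (t : G) (Q : Subgroup G) : Prop extends IsCube a t Q where
  v_eq : twoStab a t ⊓ Subgroup.centralizer {t} = wSub a t
  isCyclic : IsCyclic (wSub a t : Subgroup G)
  card_w : ∃ d, d ∣ Nat.gcd 3 (qSize a t + 1) ∧ Nat.card (wSub a t) * d = qSize a t + 1

end Cfsg.Agent.RankOne
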