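import Cfsg.Agent.Lib.RankOneW.Basic

/-!
# The group generated by the involutions of `G_a`, `t` and the inverted elements

When the element `r` of the structure equation is an involution this group `L` is doubly transitive on an
orbit `Δ` of `q + 1` points, has order `q (q - 1) (q + 1)`, and only the trivial element fixes a point
outside `Δ`.
-/

set_option autoImplicit false
set_option linter.unusedSectionVars false
set_option linter.style.haveILetI false

namespace Cfsg.Agent.RankOne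

open MulAction

variable {G Ω : Type*} [Group G] [MulAction G Ω] {a : Ω} {t : G} {Q : Subgroup G}
variable [Finite G] (hS : Cfsg.IsRankOneSetup G Ω a t Q)
  (h2 : ∃ x y : G, x ≠ 1 ∧ y ≠ 1 ∧ x ≠ y ∧ x * x = 1 ∧ y * y = 1 ∧ x * y = y * x)

/-- The element `r` of the structure equation is an involution of `G_a`. -/
def RInvol : Prop :=
  ∃ s ∈ Cfsg.involutionsIn (stabilizer G a : Set G), ∃ r ∈ invSub hS h2, t * s * t = r⁻¹ * t * r

/-- The orbit of `a` under the small group. -/
def orbitSet : Set Ω := {p | p = a ∨ ∃ z ∈ invSub hS h2, z • (t • a) = p}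

variable (hr : RInvol hS h2)
include hS h2

theorem t_smul_ta : t • (t • a) = a := by rw [← mul_smul, hS.mul_self, one_smul]

theorem z_smul_a {z : G} (hz : z ∈ invSub hS h2) : z • a = a := smul_a hS (invSub_le_Q hS h2 hz)

theorem invSub_le_small : invSub hS h2 ≤ smallGroup a t := by
  intro z hz
  rcases hz with rfl | hz
  · exact one_mem _
  · exact Subgroup.subset_closure (Or.inl (Or.inl hz))

theorem invK_le_small : invK a t ≤ smallGroup a t :=
  (Subgroup.closure_le _).2 fun _ hk => Subgroup.subset_closure (Or.inl (Or.inr hk))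

theorem t_mem_small : t ∈ smallGroup a t := Subgroup.subset_closure (Or.inr rfl)

theorem invK_conj_invSub {k z : G} (hk : k ∈ invK a t) (hz : z ∈ invSub hS h2) :
    k * z * k⁻¹ ∈ invSub hS h2 :=
  conj_mem_invSub hS h2 (invK_le hS hk) hz

include hr

/-- `t z t` for an involution `z` of `G_a`. -/
theorem tzt {z : G} (hz : z ∈ Cfsg.involutionsIn (stabilizer G a : Set G)) :
    ∃ z₁ ∈ Cfsg.involutionsIn (stabilizer G a : Set G), ∃ k ∈ invK a t,
      t * z * t = z₁ * k * t * z₁ := by
  obtain ⟨s, hs, r, hrA, heq⟩ := hr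
  have hrQ := invSub_le_Q hS h2 hrA
  have hr2 := invSub_sq hS h2 hrA
  have hti := inv_t hS
  obtain ⟨c, hc0, rfl⟩ := inverted_transitive hS hs hz
  have hc : c ∈ invK a t := Subgroup.subset_closure hc0
  have hr1 : r ≠ 1 := by
    rintro rfl
    rw [inv_one, one_mul, mul_one] at heq
    apply hS.not_mem
    have hst : t = s := by
      calc t = (t * t) * t := by rw [hS.mul_self, one_mul]
        _ = t * (t * s * t) * t⁻¹ * t * t := by rw [heq]; group
        _ = (t * t) * s * (t * t) := by group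
        _ = s := by rw [hS.mul_self, one_mul, mul_one]
    rw [hst]
    exact hs.1
  refine ⟨c * r * c⁻¹, (invK_conj_invSub hS h2 hc hrA).resolve_left fun h => hr1 (conj_eq_one_iff.1 h),
    c * c, mul_mem hc hc, ?_⟩
  have htct := tkt_eq hS h2 hc
  have e1 : t * c⁻¹ * t = c := by
    rw [tkt_eq hS h2 (inv_mem hc), inv_inv]
  have e2 : c * t * c = t := by
    calc c * t * c = (t * t) * c * t * c := by rw [hS.mul_self, one_mul]
      _ = t * (t * c * t) * c := by group
      _ = t := by rw [htct]; group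
  calc t * (c⁻¹ * s * c) * t = (t * c⁻¹ * t⁻¹) * (t * s * t⁻¹) * (t * c * t) := by group
    _ = c * (r⁻¹ * t * r) * c⁻¹ := by rw [hti, e1, heq, htct]
    _ = c * r * (c * t * c) * r * c⁻¹ := by rw [e2, inv_eq_of_mul_eq_one_right hr2]; group
    _ = _ := by group

/-- The elements of the small group. -/
theorem small_cases {g : G} (hg : g ∈ smallGroup a t) :
    (∃ z ∈ invSub hS h2, ∃ k ∈ invK a t, g = z * k) ∨
      ∃ z ∈ invSub hS h2, ∃ k ∈ invK a t, ∃ z' ∈ invSub hS h2, g = z * k * t * z' := by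
  have hti := inv_t hS
  set P : G → Prop := fun y => (∃ q ∈ invSub hS h2, ∃ k ∈ invK a t, y = q * k) ∨
    ∃ q ∈ invSub hS h2, ∃ k ∈ invK a t, ∃ q' ∈ invSub hS h2, y = q * k * t * q' with hP
  have hKc : ∀ k ∈ invK a t, ∀ x ∈ invSub hS h2, k * x * k⁻¹ ∈ invSub hS h2 :=
    fun k hk x hx => invK_conj_invSub hS h2 hk hx
  have hsw : ∀ k ∈ invK a t, k * t * k = t := fun k hk => by
    calc k * t * k = (t * t) * k * t * k := by rw [hS.mul_self, one_mul]
      _ = t * (t * k * t) * k := by group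
      _ = t := by rw [tkt_eq hS h2 hk]; group
  have stepZ : ∀ x ∈ invSub hS h2, ∀ y, P y → P (x * y) := by
    rintro x hx y (⟨q, hq, k, hk, rfl⟩ | ⟨q, hq, k, hk, q', hq', rfl⟩)
    · exact Or.inl ⟨x * q, mul_mem hx hq, k, hk, by group⟩
    · exact Or.inr ⟨x * q, mul_mem hx hq, k, hk, q', hq', by group⟩
  have stepK : ∀ x ∈ invK a t, ∀ y, P y → P (x * y) := by
    rintro x hx y (⟨q, hq, k, hk, rfl⟩ | ⟨q, hq, k, hk, q', hq', rfl⟩)
    · exact Or.inl ⟨x * q * x⁻¹, hKc x hx q hq, x * k, mul_mem hx hk, by group⟩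
    · exact Or.inr ⟨x * q * x⁻¹, hKc x hx q hq, x * k, mul_mem hx hk, q', hq', by group⟩
  have stepT : ∀ y, P y → P (t * y) := by
    rintro y (⟨q, hq, k, hk, rfl⟩ | ⟨q, hq, k, hk, q', hq', rfl⟩)
    · refine Or.inr ⟨1, one_mem _, k⁻¹, inv_mem hk, k⁻¹ * q * k, by
        simpa using hKc k⁻¹ (inv_mem hk) q hq, ?_⟩
      calc t * (q * k) = (t * k * t) * t * (k⁻¹ * q * k) := by
            rw [mul_assoc (t * k) t t, hS.mul_self]; group
        _ = _ := by rw [tkt_eq hS h2 hk, one_mul]
    · rcases hq with rfl | hq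
      · refine Or.inl ⟨k⁻¹ * q' * k, by simpa using hKc k⁻¹ (inv_mem hk) q' hq', k⁻¹, inv_mem hk, ?_⟩
        calc t * (1 * k * t * q') = (t * k * t) * q' := by group
          _ = _ := by rw [tkt_eq hS h2 hk]; group
      · obtain ⟨z₁, hz₁, k₁, hk₁, e⟩ := tzt hS h2 hr hq
        have hz₁' : z₁ ∈ invSub hS h2 := Or.inr hz₁
        refine Or.inr ⟨z₁, hz₁', k₁ * k, mul_mem hk₁ hk, k * z₁ * k⁻¹ * q',
          mul_mem (hKc k hk _ hz₁') hq', ?_⟩
        calc t * (q * k * t * q') = (t * q * t) * (t * k * t) * q' := by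
              rw [show t * q * t * (t * k * t) = t * q * (t * t) * k * t by group, hS.mul_self]; group
          _ = z₁ * k₁ * (k * t * k) * z₁ * k⁻¹ * q' := by rw [e, tkt_eq hS h2 hk, hsw k hk]
          _ = _ := by group
  have step : ∀ x ∈ Cfsg.involutionsIn (stabilizer G a : Set G) ∪
      Cfsg.invertedBy (twoStab a t) t ∪ {t}, ∀ y, P y → P (x * y) := by
    rintro x ((hx | hx) | rfl) y hy
    · exact stepZ x (Or.inr hx) y hy
    · exact stepK x (Subgroup.subset_closure hx) y hy
    · exact stepT y hy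
  show P g
  induction hg using Subgroup.closure_induction_left with
  | one => exact Or.inl ⟨1, one_mem _, 1, one_mem _, (mul_one 1).symm⟩
  | mul_left x hx y hy ih => exact step x hx y ih
  | inv_mul_cancel x hx y hy ih =>
    rcases hx with (hx | hx) | hx
    · exact stepZ x⁻¹ (inv_mem (Or.inr hx)) y ih
    · exact stepK x⁻¹ (inv_mem (Subgroup.subset_closure hx)) y ih
    · rw [Set.mem_singleton_iff.1 hx, hti]
      exact stepT y ih

theorem small_move_a {g : G} (hg : g ∈ smallGroup a t) (ha : g • a = a) :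
    ∃ z ∈ invSub hS h2, ∃ k ∈ invK a t, g = z * k := by
  rcases small_cases hS h2 hr hg with h | ⟨z, hz, k, hk, z', hz', rfl⟩
  · exact h
  exfalso
  have hzk : (z * k) • (t • a) = a := by
    rw [← mul_smul]
    rw [mul_smul, z_smul_a hS h2 hz'] at ha
    rw [mul_smul]
    simpa [mul_smul] using ha
  rw [mul_smul, (mem_twoStab hS (invK_le hS hk)).2] at hzk
  exact ta_ne hS (MulAction.injective z (hzk.trans (z_smul_a hS h2 hz).symm))

theorem small_twoStab {g : G} (hg : g ∈ smallGroup a t) (hD : g ∈ twoStab a t) : g ∈ invK a t := by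
  obtain ⟨z, hz, k, hk, rfl⟩ := small_move_a hS h2 hr hg (mem_twoStab hS hD).1
  obtain ⟨rfl, -⟩ := qd_unique hS (invSub_le_Q hS h2 hz) (one_mem _) (invK_le hS hk) hD (by rw [one_mul])
  rwa [one_mul]

theorem smul_orbitSet {g : G} (hg : g ∈ smallGroup a t) {p : Ω} (hp : p ∈ orbitSet hS h2) :
    g • p ∈ orbitSet hS h2 := by
  have key : ∀ x ∈ smallGroup a t, x • a ∈ orbitSet hS h2 := by
    intro x hx
    rcases small_cases hS h2 hr hx with ⟨z, hz, k, hk, rfl⟩ | ⟨z, hz, k, hk, z', hz', rfl⟩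
    · exact Or.inl (by rw [mul_smul, (mem_twoStab hS (invK_le hS hk)).1, z_smul_a hS h2 hz])
    · refine Or.inr ⟨z, hz, ?_⟩
      rw [mul_smul, z_smul_a hS h2 hz', mul_smul, mul_smul, (mem_twoStab hS (invK_le hS hk)).2]
  rcases hp with rfl | ⟨z, hz, rfl⟩
  · exact key g hg
  · rw [← mul_smul, ← mul_smul]
    exact key _ (mul_mem (mul_mem hg (invSub_le_small hS h2 hz)) (t_mem_small hS h2))

/-- The small group is transitive on its orbit, with the pairs from `a`. -/
theorem small_move {b c : Ω} (hb : b ∈ orbitSet hS h2) (hc : c ∈ orbitSet hS h2) (hbc : b ≠ c) :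
    ∃ g ∈ smallGroup a t, g • a = b ∧ g • (t • a) = c := by
  obtain ⟨g, hg, hga⟩ : ∃ g ∈ smallGroup a t, g • a = b := by
    rcases hb with rfl | ⟨z, hz, rfl⟩
    · exact ⟨1, one_mem _, one_smul _ _⟩
    · exact ⟨z * t, mul_mem (invSub_le_small hS h2 hz) (t_mem_small hS h2), mul_smul _ _ _⟩
  rcases smul_orbitSet hS h2 hr (inv_mem hg) hc with h | ⟨z, hz, h⟩
  · exact absurd (by rw [← hga, ← h, smul_inv_smul]) hbc
  · exact ⟨g * z, mul_mem hg (invSub_le_small hS h2 hz), by rw [mul_smul, z_smul_a hS h2 hz, hga],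
      by rw [mul_smul, h, smul_inv_smul]⟩

theorem card_orbitSet : Nat.card (orbitSet hS h2) = qSize a t + 1 := by
  classical
  have := finite_points hS
  have e : orbitSet hS h2 = insert a ((fun w : invSub hS h2 => (w : G) • (t • a)) '' Set.univ) := by
    ext p
    simp [orbitSet, eq_comm]
  rw [Nat.card_coe_set_eq, e, Set.ncard_insert_of_notMem ?_ (Set.toFinite _),
    Set.ncard_image_of_injective _ ?_, Set.ncard_univ, qSize_eq hS h2]
  · intro w w' h
    exact Subtype.ext (congrArg (fun q : Q => (q : G)) ((existsUnique_smul hS (ta_ne hS)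
      (c := (w : G) • (t • a)) (fun h' => ta_ne hS (MulAction.injective _
        (h'.trans (z_smul_a hS h2 w.2).symm)))).unique
      (y₁ := ⟨(w : G), invSub_le_Q hS h2 w.2⟩) (y₂ := ⟨(w' : G), invSub_le_Q hS h2 w'.2⟩) rfl h.symm))
  · rintro ⟨w, -, h⟩
    exact ta_ne hS (MulAction.injective (w : G) (h.trans (z_smul_a hS h2 w.2).symm))

theorem card_small : Nat.card (smallGroup a t) =
    qSize a t * (qSize a t - 1) * (qSize a t + 1) := by
  classical
  have := finite_points hS
  set L := smallGroup a t with hL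
  have hcoset : Nat.card (MulAction.orbit L a) = qSize a t + 1 := by
    rw [← card_orbitSet hS h2 hr]
    refine Nat.card_congr (Equiv.subtypeEquivRight fun p => ?_)
    refine ⟨fun ⟨g, hg⟩ => hg ▸ smul_orbitSet hS h2 hr g.2 (Or.inl rfl), fun hp => ?_⟩
    by_cases hpa : p = a
    · rw [hpa]; exact mem_orbit_self a
    · obtain ⟨g, hg, hga, -⟩ := small_move hS h2 hr hp (Or.inl rfl) hpa
      exact ⟨⟨g, hg⟩, hga⟩
  have hstab : Nat.card (stabilizer L a) = qSize a t * (qSize a t - 1) := by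
    have hK : qSize a t - 1 = Nat.card (invK a t) := by
      rw [qSize_eq hS h2, ← card_invK hS h2, Nat.add_sub_cancel]
    rw [hK, qSize_eq hS h2, ← Nat.card_prod]
    refine (Nat.card_eq_of_bijective (fun p : invSub hS h2 × invK a t =>
      (⟨⟨p.1 * p.2, mul_mem (invSub_le_small hS h2 p.1.2) (invK_le_small hS h2 p.2.2)⟩, by
        show ((p.1 : G) * p.2) • a = a
        rw [mul_smul, (mem_twoStab hS (invK_le hS p.2.2)).1, z_smul_a hS h2 p.1.2]⟩ : stabilizer L a))
      ⟨fun p q h => ?_, fun g => ?_⟩).symm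
    · have h' : (p.1 : G) * p.2 = q.1 * q.2 :=
        congrArg (fun x : stabilizer L a => ((x : L) : G)) h
      obtain ⟨h1, h3⟩ := qd_unique hS (invSub_le_Q hS h2 p.1.2) (invSub_le_Q hS h2 q.1.2)
        (invK_le hS p.2.2) (invK_le hS q.2.2) h'
      exact Prod.ext (Subtype.ext h1) (Subtype.ext h3)
    · obtain ⟨z, hz, k, hk, e⟩ := small_move_a hS h2 hr (g.1).2 g.2
      exact ⟨(⟨z, hz⟩, ⟨k, hk⟩), Subtype.ext (Subtype.ext e.symm)⟩
  rw [← Nat.card_congr (MulAction.orbitProdStabilizerEquivGroup L a), Nat.card_prod, hcoset, hstab,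
    mul_comm]

/-- An element of the small group interchanging two points of the orbit is an involution. -/
theorem small_swap {u : G} (hu : u ∈ smallGroup a t) {b c : Ω} (hb : b ∈ orbitSet hS h2)
    (hc : c ∈ orbitSet hS h2) (hbc : b ≠ c) (hub : u • b = c) (huc : u • c = b) : IsInvol u := by
  obtain ⟨g, hg, g1, g2⟩ := small_move hS h2 hr hb hc hbc
  set d := t * (g⁻¹ * u * g) with hd
  have hdL : d ∈ smallGroup a t :=
    mul_mem (t_mem_small hS h2) (mul_mem (mul_mem (inv_mem hg) hu) hg)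
  have h1 : (g⁻¹ * u * g) • a = t • a := by
    rw [mul_smul, mul_smul, g1, hub, ← g2, inv_smul_smul]
  have h2' : (g⁻¹ * u * g) • (t • a) = a := by
    rw [mul_smul, mul_smul, g2, huc, ← g1, inv_smul_smul]
  have hdD : d ∈ twoStab a t := Subgroup.mem_inf.2
    ⟨by rw [mem_stabilizer_iff, hd, mul_smul, h1, t_smul_ta hS h2],
      by rw [mem_stabilizer_iff, hd, mul_smul, h2']⟩
  have hdK := (mem_invK hS h2).1 (small_twoStab hS h2 hr hdL hdD)
  have hinv := (swap_of_inverted hS hdK).1
  rw [show t * d = g⁻¹ * u * g by rw [hd, ← mul_assoc, hS.mul_self, one_mul]] at hinv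
  have := hinv.conj g
  rwa [show g * (g⁻¹ * u * g) * g⁻¹ = u by group] at this

theorem exists_small_invol {c b b' : Ω} (hc : c ∈ orbitSet hS h2) (hb : b ∈ orbitSet hS h2)
    (hb' : b' ∈ orbitSet hS h2) (hbc : b ≠ c) (hb'c : b' ≠ c) (hbb : b ≠ b') :
    ∃ i ∈ smallGroup a t, IsInvol i ∧ i • c = c ∧ i • b = b' := by
  obtain ⟨g, hg, g1, g2⟩ := small_move hS h2 hr hc hb hbc.symm
  rcases smul_orbitSet hS h2 hr (inv_mem hg) hb' with h | ⟨z, hz, h⟩
  · exact absurd (show b' = c by rw [← g1, ← h, smul_inv_smul]) hb'c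
  have hz1 : z ≠ 1 := by
    rintro rfl
    rw [one_smul] at h
    exact hbb (by rw [← g2, h, smul_inv_smul])
  obtain ⟨hzi, hza⟩ := (mem_involutionsIn hS).1 (hz.resolve_left hz1)
  exact ⟨g * z * g⁻¹, mul_mem (mul_mem hg (invSub_le_small hS h2 hz)) (inv_mem hg), hzi.conj g,
    by rw [mul_smul, mul_smul, ← g1, inv_smul_smul, hza],
    by rw [mul_smul, mul_smul, ← g2, inv_smul_smul, h, smul_inv_smul]⟩

/-- An involution of the small group fixes a point of the orbit. -/
theorem small_invol_fix {u : G} (hu : u ∈ smallGroup a t) (hui : IsInvol u) {p : Ω} (hp : u • p = p) :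
    p ∈ orbitSet hS h2 := by
  classical
  have := finite_points hS
  by_contra hno
  have hfree : ∀ q ∈ orbitSet hS h2, u • q ≠ q := fun q hq h =>
    hno (fixed_unique hS hui h hp ▸ hq)
  haveI : Fintype (orbitSet hS h2) := Fintype.ofFinite _
  let σ : Equiv.Perm (orbitSet hS h2) :=
    { toFun := fun q => ⟨u • q.1, smul_orbitSet hS h2 hr hu q.2⟩
      invFun := fun q => ⟨u • q.1, smul_orbitSet hS h2 hr hu q.2⟩
      left_inv := fun q => Subtype.ext (by
        show u • u • (q : Ω) = q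
        rw [← mul_smul, hui.2, one_smul])
      right_inv := fun q => Subtype.ext (by
        show u • u • (q : Ω) = q
        rw [← mul_smul, hui.2, one_smul]) }
  have := Fact.mk Nat.prime_two
  obtain ⟨n, hn, hq⟩ := qSize_pow hS h2
  obtain ⟨q, hq'⟩ := Equiv.Perm.exists_fixed_point_of_prime (p := 2) (n := 1) (σ := σ) (by
    rw [← Nat.card_eq_fintype_card, card_orbitSet hS h2 hr, hq]
    have : 2 ∣ 2 ^ n := dvd_pow_self 2 (by omega)
    omega) (by
    refine Equiv.ext fun q => Subtype.ext ?_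
    rw [pow_one, pow_two, Equiv.Perm.mul_apply, Equiv.Perm.one_apply]
    show u • u • (q : Ω) = q
    rw [← mul_smul, hui.2, one_smul])
  exact hfree q q.2 (congrArg Subtype.val hq')

theorem qSize_coprime {m : ℕ} (h1 : m ∣ qSize a t - 1) (h3 : m ∣ qSize a t + 1) : m = 1 := by
  obtain ⟨n, hn, hq⟩ := qSize_pow hS h2
  have h4 : m ∣ 2 := by
    have := Nat.dvd_sub h3 h1
    rwa [show qSize a t + 1 - (qSize a t - 1) = 2 by have := four_le_qSize hS h2; omega] at this
  rcases (Nat.dvd_prime Nat.prime_two).1 h4 with h | h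
  · exact h
  exfalso
  rw [h, hq] at h3
  have h5 : 2 ∣ 2 ^ n := dvd_pow_self 2 (by omega)
  omega

theorem invK_orderOf {k : G} (hk : k ∈ invK a t) : orderOf k ∣ qSize a t - 1 := by
  have h := Subgroup.orderOf_dvd_natCard _ hk
  rwa [qSize_eq hS h2, ← card_invK hS h2, Nat.add_sub_cancel]

/-- An element of odd order of the small group fixing a point of the orbit moves all outside points. -/
theorem small_fix_orbit {g : G} (hg : g ∈ smallGroup a t) (hg1 : g ≠ 1) (hodd : Odd (orderOf g))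
    {c : Ω} (hc : c ∈ orbitSet hS h2) (hgc : g • c = c) :
    orderOf g ∣ qSize a t - 1 ∧ ∃ c' ∈ orbitSet hS h2, c' ≠ c ∧ g • c' = c' ∧
      ∀ p : Ω, g • p = p → p = c ∨ p = c' := by
  classical
  -- move `c` to `a`
  obtain ⟨x, hx, hxa⟩ : ∃ x ∈ smallGroup a t, x • a = c := by
    by_cases h : c = a
    · exact ⟨1, one_mem _, by rw [one_smul, h]⟩
    · obtain ⟨x, hx, hxa, -⟩ := small_move hS h2 hr hc (Or.inl rfl) h
      exact ⟨x, hx, hxa⟩
  set y := x⁻¹ * g * x with hy
  have hyL : y ∈ smallGroup a t := mul_mem (mul_mem (inv_mem hx) hg) hx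
  have hya : y • a = a := by rw [hy, mul_smul, mul_smul, hxa, hgc, ← hxa, inv_smul_smul]
  obtain ⟨z, hz, k, hk, hyzk⟩ := small_move_a hS h2 hr hyL hya
  have hk1 : k ≠ 1 := by
    rintro rfl
    rw [mul_one] at hyzk
    have h1 : orderOf g ∣ 2 := by
      rw [show g = MulAut.conj x y by simp [hy, mul_assoc], MulEquiv.orderOf_eq, hyzk,
        orderOf_dvd_iff_pow_eq_one, pow_two]
      exact invSub_sq hS h2 hz
    rcases (Nat.dvd_prime Nat.prime_two).1 h1 with h | h
    · exact hg1 (orderOf_eq_one_iff.1 h)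
    · rw [h] at hodd; exact absurd hodd (by decide)
  -- remove `z`
  let φ : invSub hS h2 → invSub hS h2 := fun w =>
    ⟨w * (k * (w : G)⁻¹ * k⁻¹), mul_mem w.2 (invK_conj_invSub hS h2 hk (inv_mem w.2))⟩
  have hφ : Function.Injective φ := by
    intro w w' h
    have e : (w : G) * (k * (w : G)⁻¹ * k⁻¹) = w' * (k * (w' : G)⁻¹ * k⁻¹) := congrArg Subtype.val h
    set u := (w' : G)⁻¹ * w with hu
    have hfix : k * u = u * k := by
      calc k * u = (k * (w' : G)⁻¹ * k⁻¹) * (k * (w : G)⁻¹ * k⁻¹)⁻¹ * k := by rw [hu]; group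
        _ = (w' : G)⁻¹ * (w' * (k * (w' : G)⁻¹ * k⁻¹)) * (k * (w : G)⁻¹ * k⁻¹)⁻¹ * k := by group
        _ = (w' : G)⁻¹ * (w * (k * (w : G)⁻¹ * k⁻¹)) * (k * (w : G)⁻¹ * k⁻¹)⁻¹ * k := by rw [← e]
        _ = u * k := by rw [hu]; group
    have : u ∈ Q ⊓ Subgroup.centralizer {k} := Subgroup.mem_inf.2
      ⟨mul_mem (inv_mem (invSub_le_Q hS h2 w'.2)) (invSub_le_Q hS h2 w.2),
        Subgroup.mem_centralizer_singleton_iff.2 hfix.symm⟩
    rw [inverted_fpf hS ((mem_invK hS h2).1 hk) hk1, Subgroup.mem_bot, hu, inv_mul_eq_one] at this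
    exact Subtype.ext this.symm
  obtain ⟨w, hw⟩ := (Finite.injective_iff_surjective.1 hφ) ⟨z, hz⟩
  have hw' : (w : G) * (k * (w : G)⁻¹ * k⁻¹) = z := congrArg Subtype.val hw
  set c₀ := x * (w : G) with hc₀
  have hc₀L : c₀ ∈ smallGroup a t := mul_mem hx (invSub_le_small hS h2 w.2)
  have hgk : g = c₀ * k * c₀⁻¹ := by
    rw [hc₀]
    calc g = x * y * x⁻¹ := by rw [hy]; group
      _ = x * ((w : G) * (k * (w : G)⁻¹ * k⁻¹) * k) * x⁻¹ := by rw [hyzk, hw']
      _ = _ := by group
  have hc₀a : c₀ • a = c := by rw [hc₀, mul_smul, z_smul_a hS h2 w.2, hxa]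
  refine ⟨?_, c₀ • (t • a), smul_orbitSet hS h2 hr hc₀L (Or.inr ⟨1, one_mem _, one_smul _ _⟩),
    fun h => ta_ne hS (MulAction.injective c₀ (h.trans hc₀a.symm)), ?_, fun p hp => ?_⟩
  · rw [hgk, ← MulAut.conj_apply, MulEquiv.orderOf_eq]
    exact invK_orderOf hS h2 hr hk
  · rw [hgk, mul_smul, mul_smul, inv_smul_smul, (mem_twoStab hS (invK_le hS hk)).2]
  · have h' : k • (c₀⁻¹ • p) = c₀⁻¹ • p := by
      rw [hgk, mul_smul, mul_smul] at hp
      exact eq_inv_smul_iff.2 hp
    rcases inverted_fixed hS ((mem_invK hS h2).1 hk) hk1 h' with h | h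
    · exact Or.inl (by rw [← hc₀a, ← h, smul_inv_smul])
    · exact Or.inr (by rw [← h, smul_inv_smul])

/-- An element of odd order of the small group without fixed points in the orbit is inverted by one of
its involutions and has order dividing `q + 1`. -/
theorem small_free_orbit {g : G} (hg : g ∈ smallGroup a t) (hg1 : g ≠ 1) (hodd : Odd (orderOf g))
    (hfree : ∀ c ∈ orbitSet hS h2, g • c ≠ c) :
    orderOf g ∣ qSize a t + 1 ∧ ∃ i ∈ smallGroup a t, IsInvol i ∧ i * g * i⁻¹ = g⁻¹ := by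
  classical
  have := finite_points hS
  have hpow : ∀ x ∈ Subgroup.zpowers g, x ≠ 1 → ∀ c ∈ orbitSet hS h2, x • c ≠ c := by
    intro x hx hx1 c hc hxc
    have hxL : x ∈ smallGroup a t := Subgroup.zpowers_le.2 hg hx
    have hxo : Odd (orderOf x) :=
      hodd.of_dvd_nat (orderOf_dvd_of_mem_zpowers hx)
    obtain ⟨-, c', hc', hne, hxc', hall⟩ := small_fix_orbit hS h2 hr hxL hx1 hxo hc hxc
    have hcomm : x * g = g * x := by
      obtain ⟨m, rfl⟩ := hx
      exact ((Commute.refl g).zpow_left m).eq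
    have hmove : ∀ e : Ω, x • e = e → x • (g • e) = g • e := fun e he => by
      rw [← mul_smul, hcomm, mul_smul, he]
    rcases hall _ (hmove c hxc) with h | h
    · exact hfree c hc h
    rcases hall _ (hmove c' hxc') with h' | h'
    · -- `g` interchanges `c` and `c'`
      have h1 : (g * g) • c = c := by rw [mul_smul, h, h']
      obtain ⟨m, hm⟩ := hodd
      have h3 : g = (g * g) ^ (m + 1) := by
        rw [← pow_two, ← pow_mul, show 2 * (m + 1) = orderOf g + 1 by omega, pow_succ,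
          pow_orderOf_eq_one, one_mul]
      have h4 : ∀ j : ℕ, (g * g) ^ j • c = c := fun j => by
        induction j with
        | zero => simp
        | succ j ih => rw [pow_succ, mul_smul, h1, ih]
      exact hfree c hc (by rw [h3]; exact h4 _)
    · exact hfree c' hc' h'
  constructor
  · letI : MulAction (Subgroup.zpowers g) (orbitSet hS h2) :=
      { smul := fun x c => ⟨(x : G) • c.1, smul_orbitSet hS h2 hr (Subgroup.zpowers_le.2 hg x.2) c.2⟩
        one_smul := fun c => Subtype.ext (one_smul G c.1)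
        mul_smul := fun x y c => Subtype.ext (mul_smul (x : G) (y : G) c.1) }
    have h := ZassAb.card_dvd_of_free (A := Subgroup.zpowers g) (S := orbitSet hS h2) fun x c hxc => by
      by_contra hx1
      exact hpow x x.2 (fun e => hx1 (Subtype.ext e)) c c.2 (congrArg Subtype.val hxc)
    rwa [Nat.card_zpowers, card_orbitSet hS h2 hr] at h
  · have ha : a ∈ orbitSet hS h2 := Or.inl rfl
    have hgg : g • (g • a) ≠ a := by
      rw [← mul_smul]
      refine hpow _ ?_ (fun e => ?_) a ha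
      · exact mul_mem (Subgroup.mem_zpowers g) (Subgroup.mem_zpowers g)
      · have h1 : orderOf g ∣ 2 := orderOf_dvd_of_pow_eq_one (by rw [pow_two, e])
        rcases (Nat.dvd_prime Nat.prime_two).1 h1 with h | h
        · exact hg1 (orderOf_eq_one_iff.1 h)
        · rw [h] at hodd; exact absurd hodd (by decide)
    obtain ⟨i, hi, hii, hia, hib⟩ := exists_small_invol hS h2 hr ha (smul_orbitSet hS h2 hr hg ha)
      (smul_orbitSet hS h2 hr (inv_mem hg) ha) (hfree a ha)
      (fun h => hfree a ha (by conv_lhs => rw [← h, smul_inv_smul]))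
      (fun h => hgg (by rw [h, smul_inv_smul]))
    have hu := small_swap hS h2 hr (mul_mem hi hg) ha (smul_orbitSet hS h2 hr (inv_mem hg) ha)
      (fun h => hfree a ha (by conv_lhs => rw [h, smul_inv_smul]))
      (by rw [mul_smul, hib]) (by rw [mul_smul, smul_inv_smul, hia])
    refine ⟨i, hi, hii, ?_⟩
    have h2' := hu.2
    rw [hii.inv_eq]
    calc i * g * i = (i * g * (i * g)) * g⁻¹ := by group
      _ = g⁻¹ := by rw [h2', one_mul]

/-- The small group fixes no point outside its orbit. -/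
theorem small_semiregular {g : G} (hg : g ∈ smallGroup a t) (hg1 : g ≠ 1) {p : Ω}
    (hp : p ∉ orbitSet hS h2) : g • p ≠ p := by
  intro hgp
  rcases Nat.even_or_odd (orderOf g) with ⟨m, hm⟩ | hodd
  · have hu : IsInvol (g ^ m) := by
      refine ⟨fun h => ?_, by rw [← pow_add, ← hm, pow_orderOf_eq_one]⟩
      have := Nat.le_of_dvd (Nat.pos_of_ne_zero fun h0 => by
        rw [h0] at hm; exact (orderOf_pos g).ne' hm) (orderOf_dvd_of_pow_eq_one h)
      have := orderOf_pos g
      omega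
    refine hp (small_invol_fix hS h2 hr (pow_mem hg m) hu ?_)
    clear hm hu
    induction m with
    | zero => simp
    | succ m ih => rw [pow_succ, mul_smul, hgp, ih]
  by_cases hfix : ∃ c ∈ orbitSet hS h2, g • c = c
  · obtain ⟨c, hc, hgc⟩ := hfix
    obtain ⟨-, c', hc', -, -, hall⟩ := small_fix_orbit hS h2 hr hg hg1 hodd hc hgc
    rcases hall p hgp with h | h
    · exact hp (h ▸ hc)
    · exact hp (h ▸ hc')
  push Not at hfix
  obtain ⟨hdvd, i, -, hii, hinv⟩ := small_free_orbit hS h2 hr hg hg1 hodd hfix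
  obtain ⟨-, -, x, -, -, hxK⟩ := exists_conj_inverted hS h2 hg1 hodd hii hinv hgp
  have h1 : orderOf g ∣ qSize a t - 1 := by
    have := invK_orderOf hS h2 hr (Subgroup.subset_closure hxK)
    rwa [← MulAut.conj_apply, MulEquiv.orderOf_eq] at this
  exact hg1 (orderOf_eq_one_iff.1 (qSize_coprime hS h2 hr h1 hdvd))

end Cfsg.Agent.RankOne
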