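import Cfsg.Agent.Lib.RankOneW.MateConj

/-!
# The three blocks of a torus

An element of the product of the torus at `ω` and `W` which fixes a point lies in `W`, in the mate, or in
the third conjugate of `W`.  An involution exchanging `W` and the mate inverts the torus modulo the
`iota w`.
-/

set_option autoImplicit false
set_option linter.unusedSectionVars false

namespace Cfsg.Agent.RankOne

open MulAction

universe u v

variable {G : Type u} {Ω : Type v} [Group G] [MulAction G Ω] {a : Ω} {t : G} {Q : Subgroup G}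
variable [Finite G] [FaithfulSMul G Ω] (hS : Cfsg.IsRankOneSetup G Ω a t Q)
  (h2 : ∃ x y : G, x ≠ 1 ∧ y ≠ 1 ∧ x ≠ y ∧ x * x = 1 ∧ y * y = 1 ∧ x * y = y * x)
  (hC : IsCube a t Q) (hr : RInvol hS h2) {ω : Ω} (hω : ω ∉ orbitSet hS h2)
include hS h2 hC hr hω

theorem iota_inv {w : G} (hw : w ∈ wSub a t) :
    iota hS h2 hC hr hω (inv_mem hw) = (iota hS h2 hC hr hω hw)⁻¹ := by
  refine eq_inv_of_mul_eq_one_right ?_
  rw [← iota_mul hS h2 hC hr hω (inv_mem hw) hw]
  exact (iota_eq hS h2 hC hr hω _ (one_mem _)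
    (by rw [one_smul, inv_mul_cancel, one_smul])).symm

theorem iota_inj {v w : G} (hv : v ∈ wSub a t) (hw : w ∈ wSub a t)
    (h : iota hS h2 hC hr hω hv = iota hS h2 hC hr hω hw) : v = w := by
  by_contra hne
  refine hω (wSub_fixed_mem hS h2 hC hr (mul_mem (inv_mem hw) hv)
    (fun e => hne (inv_mul_eq_one.1 e).symm) ?_)
  rw [mul_smul, ← iota_smul hS h2 hC hr hω hv, h, iota_smul hS h2 hC hr hω hw, inv_smul_smul]

theorem iota_comm_self {w : G} (hw : w ∈ wSub a t) :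
    Commute (iota hS h2 hC hr hω hw) w :=
  (wSub_comm_small hS h2 hC hr hw (iota_mem hS h2 hC hr hω hw)).symm

/-- An element of `T W` fixing a point. -/
theorem torus_fix (hW : wSub a t ≠ ⊥) {τ w : G} (hτ : τ ∈ mateTorus a t ω) (hw : w ∈ wSub a t) {p : Ω}
    (hp : (τ * w) • p = p) :
    τ = 1 ∨ τ⁻¹ = iota hS h2 hC hr hω hw ∨ τ⁻¹ = (iota hS h2 hC hr hω hw)⁻¹ := by
  by_cases hτ1 : τ = 1
  · exact Or.inl hτ1
  right
  have hτf := mateTorus_isFree hS h2 hC hr hω hW hτ hτ1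
  by_cases hpΔ : p ∈ orbitSet hS h2
  · refine absurd ?_ (hτf.free p hpΔ)
    rwa [mul_smul, wSub_fix_orbit hS h2 hC hr hw hpΔ] at hp
  have hpi : τ⁻¹ = iota hS h2 hC hr hpΔ hw := iota_eq hS h2 hC hr hpΔ hw (inv_mem hτf.mem) (by
    rw [inv_smul_eq_iff, ← mul_smul, hp])
  obtain ⟨y, hy, -⟩ := existsUnique_small hS h2 hC hr hω hpΔ
  set l := iota hS h2 hC hr hω hw with hl
  have hlL := iota_mem hS h2 hC hr hω hw
  have hconj : τ⁻¹ = (y : G) * l * (y : G)⁻¹ := by
    rw [hpi]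
    refine (iota_eq hS h2 hC hr hpΔ hw (mul_mem (mul_mem y.2 hlL) (inv_mem y.2)) ?_).symm
    rw [← hy, mul_smul, mul_smul, inv_smul_smul, iota_smul, ← mul_smul,
      ← wSub_comm_small hS h2 hC hr hw y.2, mul_smul]
  have hl1 : l ≠ 1 := fun e => hτ1 (by
    rw [e, mul_one, mul_inv_cancel, inv_eq_one] at hconj
    exact hconj)
  obtain ⟨h, hhf, e, -⟩ := exists_mateTorus hS h2 hC hr hω hW
  have hlT : l ∈ torus a t h := e ▸ iota_mem_mateTorus hS h2 hC hr hω hw
  have hτT : τ⁻¹ ∈ torus a t h := e ▸ inv_mem hτ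
  have hn : ∀ z ∈ torus a t h, (y : G) * z * (y : G)⁻¹ ∈ torus a t h := by
    intro z hz
    rw [← torus_eq_of_mem hS h2 hr hhf hτT (inv_ne_one.2 hτ1), mem_torus]
    refine ⟨mul_mem (mul_mem y.2 (mem_torus.1 hz).1) (inv_mem y.2), ?_⟩
    rw [hconj, conj_mul, conj_mul, torus_comm hS h2 hr hhf hz hlT]
  rcases torus_normalizer hS h2 hr hhf y.2 hn with hyT | hinv
  · exact Or.inl (by rw [hconj, torus_comm hS h2 hr hhf hyT hlT]; group)
  · exact Or.inr (by rw [hconj, hinv l hlT])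

/-- An involution exchanging `W` and the mate, if a conjugating element moves `W` into the product of
the small group and `W`. -/
theorem exists_swap_of_pull (hW : wSub a t ≠ ⊥) {g₀ : G} (hg₀ : ConjMate a t ω g₀)
    (hbw : ∀ w ∈ wSub a t, g₀⁻¹ * w * g₀ ∈ smallGroup a t ⊔ wSub a t) :
    ∃ g : G, IsInvol g ∧ ConjMate a t ω g := by
  classical
  obtain ⟨w₁, hw₁⟩ := Subgroup.ne_bot_iff_exists_ne_one.1 hW
  set p := g₀⁻¹ • a with hpdef
  have hpout : p ∉ orbitSet hS h2 := by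
    intro hpΔ
    have hm : g₀ * w₁ * g₀⁻¹ ∈ mate a t ω := (hg₀ _).2 w₁.2
    have hm1 : g₀ * w₁ * g₀⁻¹ ≠ 1 := fun e => hw₁ (Subtype.ext (by
      calc (w₁ : G) = g₀⁻¹ * (g₀ * w₁ * g₀⁻¹) * g₀ := by group
        _ = 1 := by rw [e]; group))
    obtain ⟨τ, hτ, e⟩ := (mate_fixed hS h2 hC hr hω hW hm hm1 a).1 (by
      rw [mul_smul, mul_smul, ← hpdef, wSub_fix_orbit hS h2 hC hr w₁.2 hpΔ, hpdef, smul_inv_smul])
    refine hω ?_
    have h := smul_orbitSet hS h2 hr (inv_mem (Subgroup.mem_inf.1 hτ).1) (p := a) (Or.inl rfl)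
    rwa [show τ⁻¹ • a = ω from inv_smul_eq_iff.2 e.symm] at h
  have hxm : ∀ w ∈ wSub a t, g₀⁻¹ * w * g₀ ∈ mate a t p := fun w hw => Subgroup.mem_inf.2
    ⟨by rw [mem_stabilizer_iff, hpdef, mul_smul, mul_smul, smul_inv_smul,
      (mem_twoStab hS (wSub_le hS h2 hw)).1], hbw w hw⟩
  obtain ⟨h₁, h₁f, e₁, hT₁⟩ := exists_mateTorus hS h2 hC hr hpout hW
  obtain ⟨i₀, hi₀L, hi₀, hinv₀⟩ := exists_inverter hS h2 hr h₁f
  obtain ⟨h, hhf, eT, hT⟩ := exists_mateTorus hS h2 hC hr hω hW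
  obtain ⟨i, hiL, hi, hinv⟩ := exists_inverter hS h2 hr hhf
  set i' := g₀ * i₀ * g₀⁻¹ with hi'
  have hi'2 : i' * i' = 1 := (hi₀.conj g₀).2
  have hfixm : ∀ m ∈ mate a t ω, i' * m * i' = m := by
    intro m hm
    have hw : g₀⁻¹ * m * g₀ ∈ wSub a t := by
      rw [← hg₀]
      convert hm using 1
      group
    have hcm := wSub_comm_small hS h2 hC hr hw hi₀L
    calc i' * m * i' = g₀ * (i₀ * (g₀⁻¹ * m * g₀) * i₀) * g₀⁻¹ := by rw [hi']; group
      _ = g₀ * ((g₀⁻¹ * m * g₀) * (i₀ * i₀)) * g₀⁻¹ := by rw [← hcm]; group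
      _ = m := by rw [hi₀.2]; group
  -- `i'` moves `W` to the third block
  have hthird : ∀ w ∈ wSub a t, ∃ (y : G) (hy : y ∈ wSub a t),
      i' * w * i' = iota hS h2 hC hr hω hy * y := by
    intro w hw
    by_cases hw1 : w = 1
    · subst hw1
      refine ⟨1, one_mem _, ?_⟩
      rw [mul_one, hi'2, mul_one]
      exact iota_eq hS h2 hC hr hω (one_mem _) (one_mem _) rfl
    obtain ⟨u, hu, hxu⟩ := (mem_mate hS h2 hC hr hpout).1 (hxm w hw)
    set l₁ := iota hS h2 hC hr hpout hu with hl₁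
    have hl₁T : l₁ ∈ torus a t h₁ := hT₁ hu
    have hul : Commute l₁ u := iota_comm_self hS h2 hC hr hpout hu
    have hcu : Commute i₀ u := (wSub_comm_small hS h2 hC hr hu hi₀L).symm
    have hix : i₀ * (g₀⁻¹ * w * g₀) * i₀ = u * (g₀⁻¹ * w * g₀)⁻¹ * u := by
      calc i₀ * (g₀⁻¹ * w * g₀) * i₀ = (i₀ * l₁⁻¹) * (u * i₀) := by rw [hxu, hl₁]; group
        _ = (i₀ * l₁⁻¹ * i₀) * u := by rw [← hcu.eq]; group
        _ = l₁ * u := by rw [hinv₀ _ (inv_mem hl₁T), inv_inv]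
        _ = u * (l₁⁻¹ * u)⁻¹ * u := by group
        _ = _ := by rw [← hxu]
    obtain ⟨z, hz, hmm⟩ := (mem_mate hS h2 hC hr hω).1 ((hg₀ u).2 hu)
    have hzw : Commute z w := wSub_comm hS h2 hC hr hω hW hz hw
    have hlz := iota_comm_self hS h2 hC hr hω hz
    have hlw : Commute (iota hS h2 hC hr hω hz) w :=
      (wSub_comm_small hS h2 hC hr hw (iota_mem hS h2 hC hr hω hz)).symm
    have hcalc : i' * w * i' = (iota hS h2 hC hr hω (mul_mem hz hz))⁻¹ * (z * z * w⁻¹) := by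
      calc i' * w * i' = g₀ * (i₀ * (g₀⁻¹ * w * g₀) * i₀) * g₀⁻¹ := by rw [hi']; group
        _ = (g₀ * u * g₀⁻¹) * w⁻¹ * (g₀ * u * g₀⁻¹) := by rw [hix]; group
        _ = (iota hS h2 hC hr hω hz)⁻¹ * z * (w⁻¹ * (iota hS h2 hC hr hω hz)⁻¹) * z := by
            rw [hmm]; group
        _ = (iota hS h2 hC hr hω hz)⁻¹ * (z * (iota hS h2 hC hr hω hz)⁻¹) * (w⁻¹ * z) := by
            rw [← hlw.inv_inv.eq]; group
        _ = (iota hS h2 hC hr hω hz)⁻¹ * (iota hS h2 hC hr hω hz)⁻¹ * (z * (w⁻¹ * z)) := by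
            rw [← hlz.inv_left.eq]; group
        _ = _ := by rw [iota_mul, mul_inv_rev, ← hzw.inv_right.eq, mul_assoc z z]
    have hwm : i' * w * i' ≠ 1 := fun e => hw1 (by
      calc w = (i' * i') * w * (i' * i') := by rw [hi'2]; group
        _ = i' * (i' * w * i') * i' := by group
        _ = 1 := by rw [e, mul_one, hi'2])
    have hfix : (i' * w * i') • (i' • a) = i' • a := by
      rw [← mul_smul, show i' * w * i' * i' = i' * w * (i' * i') by group, hi'2, mul_one, mul_smul,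
        (mem_twoStab hS (wSub_le hS h2 hw)).1]
    rw [hcalc] at hfix hwm
    have hw2 : z * z * w⁻¹ ∈ wSub a t := mul_mem (mul_mem hz hz) (inv_mem hw)
    rcases torus_fix hS h2 hC hr hω hW (inv_mem (iota_mem_mateTorus hS h2 hC hr hω (mul_mem hz hz)))
      hw2 hfix with e | e | e
    · -- `z = 1`, so `u = 1` and `w = 1`
      exfalso
      have hzz : z * z = 1 := iota_one hS h2 hC hr hω (mul_mem hz hz) (inv_eq_one.1 e)
      have hz1 : z = 1 := sq_inj (odd_orderOf hS.odd_card (wSub_le hS h2 hz)) (by simp)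
        (by rw [hzz, mul_one])
      subst hz1
      have hu1 : u = 1 := by
        have e1 : iota hS h2 hC hr hω hz = 1 :=
          (iota_eq hS h2 hC hr hω hz (one_mem _) rfl).symm
        rw [e1, inv_one, mul_one, mul_inv_eq_one, mul_eq_left] at hmm
        exact hmm
      subst hu1
      have e1 : l₁ = 1 := (iota_eq hS h2 hC hr hpout hu (one_mem _) rfl).symm
      rw [e1, inv_one, mul_one] at hxu
      exact hw1 (by
        have h' : w * g₀ = g₀ := by
          calc w * g₀ = g₀ * (g₀⁻¹ * w * g₀) := by group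
            _ = g₀ := by rw [hxu, mul_one]
        exact mul_eq_right.1 h')
    · exfalso
      rw [inv_inv] at e
      have h' := iota_inj hS h2 hC hr hω _ _ e
      exact hw1 (inv_eq_one.1 (left_eq_mul.1 h'))
    · rw [inv_inv, ← iota_inv hS h2 hC hr hω hw2] at e
      have h' := iota_inj hS h2 hC hr hω _ _ e
      refine ⟨(z * z)⁻¹, inv_mem (mul_mem hz hz), ?_⟩
      rw [hcalc, iota_inv hS h2 hC hr hω (mul_mem hz hz)]
      exact congrArg _ (inv_eq_iff_eq_inv.2 h').symm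
  -- the swap
  have hswap : ∀ w ∈ wSub a t, i' * i * i' * w * (i' * i * i')⁻¹ ∈ mate a t ω := by
    intro w hw
    obtain ⟨y, hy, e⟩ := hthird w hw
    have hiy : Commute i y := (wSub_comm_small hS h2 hC hr hy hiL).symm
    have h' : i * (i' * w * i') * i = (iota hS h2 hC hr hω hy)⁻¹ * y := by
      calc i * (i' * w * i') * i = (i * iota hS h2 hC hr hω hy) * (y * i) := by rw [e]; group
        _ = (i * iota hS h2 hC hr hω hy * i) * y := by rw [← hiy.eq]; group
        _ = _ := by rw [hinv _ (hT hy)]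
    have hm := mate_elem hS h2 hC hr hω hy
    have hinvg : (i' * i * i')⁻¹ = i' * i * i' := by
      have h2g := hi.conj i'
      rw [inv_eq_of_mul_eq_one_right hi'2] at h2g
      exact h2g.inv_eq
    rw [hinvg,
      show i' * i * i' * w * (i' * i * i') = i' * (i * (i' * w * i') * i) * i' by group, h',
      hfixm _ hm]
    exact hm
  refine ⟨i' * i * i', ?_, fun x => ⟨fun hx => ?_, hswap x⟩⟩
  · have := hi.conj i'
    rwa [inv_eq_of_mul_eq_one_right hi'2] at this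
  · let f : wSub a t → mate a t ω := fun w => ⟨_, hswap w w.2⟩
    have hf : Function.Bijective f := (Nat.bijective_iff_injective_and_card f).2
      ⟨fun v w e => Subtype.ext (mul_left_cancel (mul_right_cancel (congrArg Subtype.val e))),
        (card_mate hS h2 hC hr hω).symm⟩
    obtain ⟨w, hw⟩ := hf.2 ⟨_, hx⟩
    have e : i' * i * i' * (w : G) * (i' * i * i')⁻¹ = i' * i * i' * x * (i' * i * i')⁻¹ :=
      congrArg Subtype.val hw
    rw [← mul_left_cancel (mul_right_cancel e)]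
    exact w.2

/-- An involution exchanging `W` and the mate. -/
theorem exists_swap (hW : wSub a t ≠ ⊥) (hb : BetaTriv (a := a) (t := t) hS h2) :
    ∃ g : G, IsInvol g ∧ ConjMate a t ω g := by
  obtain ⟨g₀, hg₀⟩ := exists_conjMate hS h2 hC hr hω hW
  refine exists_swap_of_pull hS h2 hC hr hω hW hg₀ fun w hw => ?_
  have h1 := hb ω hω g₀ hg₀ _ (iota_mem_mateTorus hS h2 hC hr hω hw)
  have h2' : g₀⁻¹ * ((iota hS h2 hC hr hω hw)⁻¹ * w) * g₀ ∈ wSub a t := by
    rw [← hg₀]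
    convert mate_elem hS h2 hC hr hω hw using 1
    group
  have h3 := mul_mem h1 (Subgroup.mem_sup_right (S := smallGroup a t) h2')
  convert h3 using 1
  group

/-- The involution exchanging `W` and the mate inverts the torus modulo the `iota w` and `W`. -/
theorem swap_decomp (hW : wSub a t ≠ ⊥) (hb : BetaTriv (a := a) (t := t) hS h2) {g : G}
    (hg : IsInvol g) (hgm : ConjMate a t ω g) {δ : G} (hδ : δ ∈ mateTorus a t ω) :
    ∃ (w₀ w₁ : G) (hw₀ : w₀ ∈ wSub a t), w₁ ∈ wSub a t ∧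
      g * δ⁻¹ * g = δ * iota hS h2 hC hr hω hw₀ * w₁ := by
  obtain ⟨l, hl, w, hw, hγ⟩ := sup_cases hS h2 hC hr (by
    have h := hb ω hω g hgm _ (inv_mem hδ)
    rwa [hg.inv_eq] at h : g * δ⁻¹ * g ∈ smallGroup a t ⊔ wSub a t)
  have hlT : l ∈ mateTorus a t ω := by
    refine Subgroup.mem_inf.2 ⟨hl, Subgroup.mem_centralizer_iff.2 fun m hm => ?_⟩
    have hc : Commute (g * δ⁻¹ * g) m := by
      have hw' : g * m * g ∈ wSub a t := by
        rw [← hgm, hg.inv_eq, show g * (g * m * g) * g = (g * g) * m * (g * g) by group, hg.2,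
          one_mul, mul_one]
        exact hm
      have hcd : Commute δ⁻¹ (g * m * g) :=
        (wSub_comm_small hS h2 hC hr hw' (inv_mem (Subgroup.mem_inf.1 hδ).1)).symm
      calc g * δ⁻¹ * g * m = g * (δ⁻¹ * (g * m * g)) * g := by
            rw [show g * (δ⁻¹ * (g * m * g)) * g = g * δ⁻¹ * g * m * (g * g) by group, hg.2, mul_one]
        _ = g * (g * m * g * δ⁻¹) * g := by rw [hcd.eq]
        _ = m * (g * δ⁻¹ * g) := by
            rw [show g * (g * m * g * δ⁻¹) * g = (g * g) * m * (g * δ⁻¹ * g) by group, hg.2, one_mul]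
    have hwm : Commute w m := by
      obtain ⟨u, hu, rfl⟩ := (mem_mate hS h2 hC hr hω).1 hm
      exact (show Commute w (iota hS h2 hC hr hω hu) from
        wSub_comm_small hS h2 hC hr hw (iota_mem hS h2 hC hr hω hu)).inv_right.mul_right
        (wSub_comm hS h2 hC hr hω hW hw hu)
    have h3 := hc.mul_left hwm.inv_left
    rw [hγ, mul_inv_cancel_right] at h3
    exact h3.symm.eq
  have hδγ : Commute δ (g * δ⁻¹ * g) := by
    rw [hγ]
    exact (show Commute δ l from mateTorus_comm hS h2 hC hr hω hW hδ hlT).mul_right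
      (wSub_comm_small hS h2 hC hr hw (Subgroup.mem_inf.1 hδ).1).symm
  set c := δ⁻¹ * l * w with hc
  have hcγ : c = δ⁻¹ * (g * δ⁻¹ * g) := by rw [hc, hγ, mul_assoc]
  have hgc : g * c = c * g := by
    calc g * c = (g * δ⁻¹ * g) * δ⁻¹ * g := by rw [hcγ]; group
      _ = c * g := by rw [hcγ, ← hδγ.inv_left.eq]
  obtain ⟨p, hp⟩ := exists_fixed hS hg.2
  have hcp : c • p = p := fixed_of_commute hS hg hp hgc
  have key : ∃ (w₀ : G) (hw₀ : w₀ ∈ wSub a t), δ⁻¹ * l = iota hS h2 hC hr hω hw₀ := by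
    rcases torus_fix hS h2 hC hr hω hW (mul_mem (inv_mem hδ) hlT) hw hcp with e | e | e
    · exact ⟨1, one_mem _, e.trans (iota_eq hS h2 hC hr hω (one_mem _) (one_mem _) rfl)⟩
    · exact ⟨w⁻¹, inv_mem hw, by rw [iota_inv hS h2 hC hr hω hw, ← e, inv_inv]⟩
    · exact ⟨w, hw, inv_injective e⟩
  obtain ⟨w₀, hw₀, e⟩ := key
  exact ⟨w₀, w, hw₀, hw, by rw [← e, hγ]; group⟩

end Cfsg.Agent.RankOne
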