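import Cfsg.Agent.Lib.RankOneW.Blocks

/-!
# The middle parts lie in `K W`

If the tori are moved into the product of the small group and `W`, every `h` in `t y t = g h t f` lies in
`K W`, so the two-point stabiliser of `⟨Q, t⟩` does, and `V = W` when `Q` and `t` generate the group.
-/

set_option autoImplicit false
set_option linter.unusedSectionVars false

namespace Cfsg.Agent.RankOne

open MulAction

universe u v

variable {G : Type u} {Ω : Type v} [Group G] [MulAction G Ω] {a : Ω} {t : G} {Q : Subgroup G}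

/-- An element of the big cell with middle part in `N`. -/
def InCell (t : G) (Q N : Subgroup G) (g : G) : Prop :=
  ∃ q ∈ Q, ∃ h ∈ N, ∃ f ∈ Q, g = q * h * t * f

variable [Finite G] (hS : Cfsg.IsRankOneSetup G Ω a t Q)
  (h2 : ∃ x y : G, x ≠ 1 ∧ y ≠ 1 ∧ x ≠ y ∧ x * x = 1 ∧ y * y = 1 ∧ x * y = y * x)
include hS

theorem cell_unique {q h f q' h' f' : G} (hq : q ∈ Q) (hh : h ∈ twoStab a t) (hf : f ∈ Q)
    (hq' : q' ∈ Q) (hh' : h' ∈ twoStab a t) (hf' : f' ∈ Q) (e : q * h * t * f = q' * h' * t * f') :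
    h = h' := by
  have h1 : t * (f * f'⁻¹) * t⁻¹ = h⁻¹ * q⁻¹ * q' * h' := by
    calc t * (f * f'⁻¹) * t⁻¹ = h⁻¹ * q⁻¹ * (q * h * t * f) * f'⁻¹ * t⁻¹ := by group
      _ = _ := by rw [e]; group
  have h3 : t * (f * f'⁻¹) * t⁻¹ ∈ stabilizer G a := h1 ▸ mul_mem (mul_mem (mul_mem
    (inv_mem (Subgroup.mem_inf.1 hh).1) (inv_mem (hS.le hq))) (hS.le hq')) (Subgroup.mem_inf.1 hh').1
  have h4 : f * f'⁻¹ ∈ Q ⊓ stabilizer G (t • a) := by
    refine Subgroup.mem_inf.2 ⟨mul_mem hf (inv_mem hf'), ?_⟩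
    have := mem_stabilizer_iff.1 h3
    rw [mul_smul, mul_smul, inv_t hS] at this
    rw [mem_stabilizer_iff]
    exact MulAction.injective t (this.trans (by
      show a = t • (t • a)
      rw [← mul_smul, hS.mul_self, one_smul]))
  rw [hS.inf_eq_bot, Subgroup.mem_bot, mul_inv_eq_one] at h4
  subst h4
  exact (qd_unique hS hq hq' hh hh' (mul_right_cancel (mul_right_cancel e))).2

theorem exists_cell {g : G} (hg : g • a ≠ a) :
    ∃ q ∈ Q, ∃ h ∈ twoStab a t, ∃ f ∈ Q, g = q * h * t * f := by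
  obtain ⟨q, hq, hqg⟩ := exists_q_smul hS hg
  obtain ⟨q₁, hq₁, d, hd, e⟩ := exists_qd hS (g := (q * t)⁻¹ * g) (by
    rw [mem_stabilizer_iff, mul_smul, inv_smul_eq_iff, mul_smul, hqg])
  refine ⟨q, hq, t * d * t, tdt_mem hS hd, d⁻¹ * q₁ * d, ?_, ?_⟩
  · simpa using hS.conj_mem d⁻¹ (inv_mem (Subgroup.mem_inf.1 hd).1) q₁ hq₁
  calc g = q * t * ((q * t)⁻¹ * g) := by group
    _ = q * (t * d * (t * t)) * (d⁻¹ * q₁ * d) := by rw [e, hS.mul_self]; group
    _ = _ := by group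

theorem InCell.mul_q_left {N : Subgroup G} {g x : G} (h : InCell t Q N g) (hx : x ∈ Q) :
    InCell t Q N (x * g) := by
  obtain ⟨q, hq, h, hh, f, hf, rfl⟩ := h
  exact ⟨x * q, mul_mem hx hq, h, hh, f, hf, by group⟩

theorem InCell.mul_q_right {N : Subgroup G} {g x : G} (h : InCell t Q N g) (hx : x ∈ Q) :
    InCell t Q N (g * x) := by
  obtain ⟨q, hq, h, hh, f, hf, rfl⟩ := h
  exact ⟨q, hq, h, hh, f * x, mul_mem hf hx, by group⟩

theorem InCell.mul_left {N : Subgroup G} (hN : N ≤ twoStab a t) {g n : G} (h : InCell t Q N g)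
    (hn : n ∈ N) : InCell t Q N (n * g) := by
  obtain ⟨q, hq, h, hh, f, hf, rfl⟩ := h
  exact ⟨n * q * n⁻¹, hS.conj_mem n (Subgroup.mem_inf.1 (hN hn)).1 q hq, n * h, mul_mem hn hh, f, hf,
    by group⟩

theorem InCell.mul_right {N : Subgroup G} (hN : N ≤ twoStab a t)
    (hNt : ∀ n ∈ N, t * n * t ∈ N) {g n : G} (h : InCell t Q N g) (hn : n ∈ N) :
    InCell t Q N (g * n) := by
  obtain ⟨q, hq, h, hh, f, hf, rfl⟩ := h
  refine ⟨q, hq, h * (t * n * t), mul_mem hh (hNt n hn), n⁻¹ * f * n, ?_, ?_⟩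
  · simpa using hS.conj_mem n⁻¹ (inv_mem (Subgroup.mem_inf.1 (hN hn)).1) f hf
  calc q * h * t * f * n = q * h * t * (n * (n⁻¹ * f * n)) := by group
    _ = q * h * t * n * (t * t) * (n⁻¹ * f * n) := by rw [hS.mul_self]; group
    _ = _ := by group

theorem sup_wSub_le [FaithfulSMul G Ω] : invK a t ⊔ wSub a t ≤ twoStab a t :=
  sup_le (invK_le hS) inf_le_left

include h2

theorem sup_wSub_t [FaithfulSMul G Ω] : ∀ n ∈ invK a t ⊔ wSub a t, t * n * t ∈ invK a t ⊔ wSub a t := by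
  intro n hn
  rw [show n = n * 1 from (mul_one n).symm]
  have hD := sup_wSub_le hS hn
  have h := mul_mem hn (Subgroup.mem_sup_left (T := wSub a t) (conj_t_mod hS hD))
  rwa [mul_inv_cancel_left, ← mul_one n] at h

variable [FaithfulSMul G Ω] (hC : IsCube a t Q) (hr : RInvol hS h2)
include hC hr

/-- **The middle part of every `t y t` lies in `K W`.** -/
theorem hpart_mem (hW : wSub a t ≠ ⊥) (hb : BetaTriv (a := a) (t := t) hS h2) {y g₀ h₀ f₀ : G}
    (hy : y ∈ Q) (hy1 : y ≠ 1) (hg₀ : g₀ ∈ Q) (hh₀ : h₀ ∈ twoStab a t) (hf₀ : f₀ ∈ Q)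
    (e₀ : t * y * t = g₀ * h₀ * t * f₀) : h₀ ∈ invK a t ⊔ wSub a t := by
  classical
  set N := invK a t ⊔ wSub a t with hNdef
  have hN : N ≤ twoStab a t := sup_wSub_le hS
  have hNt := sup_wSub_t hS h2
  by_cases hyZ : y ∈ invSub hS h2
  · obtain ⟨⟨s, r⟩, ⟨hs, hrr, heq⟩, -⟩ := structure_equation hS
    exact Subgroup.mem_sup_left (hk_invol hS h2 hs hrr heq (hyZ.resolve_left hy1) g₀ h₀ f₀ hg₀ hh₀ hf₀ e₀)
  set ω := y⁻¹ • (t • a) with hωdef
  have hω : ω ∉ orbitSet hS h2 := by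
    rintro (h | ⟨z, hz, hzω⟩)
    · refine ta_ne hS ?_
      rw [hωdef, inv_smul_eq_iff, smul_a hS hy] at h
      exact h
    · have h := (existsUnique_smul hS (ta_ne hS) (b := t • a) (c := ω) (fun h => ta_ne hS (by
          rw [hωdef, inv_smul_eq_iff, smul_a hS hy] at h
          exact h))).unique (y₁ := ⟨y⁻¹, inv_mem hy⟩) (y₂ := ⟨z, invSub_le_Q hS h2 hz⟩) rfl hzω
      exact hyZ (by
        rw [← inv_inv y, show y⁻¹ = z from congrArg Subtype.val h]
        exact inv_mem hz)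
  obtain ⟨g, hgi, hg⟩ := exists_swap hS h2 hC hr hω hW hb
  have hginv := hgi.inv_eq
  have hgmate : ∀ m ∈ mate a t ω, g * m * g ∈ wSub a t := fun m hm => by
    rw [← hg, hginv, show g * (g * m * g) * g = (g * g) * m * (g * g) by group, hgi.2, one_mul,
      mul_one]
    exact hm
  -- the image of `a`
  obtain ⟨w, hw⟩ := Subgroup.ne_bot_iff_exists_ne_one.1 hW
  have hgw := (hg w).2 w.2
  rw [hginv] at hgw
  have hgw1 : g * (w : G) * g ≠ 1 := fun e => hw (Subtype.ext (by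
    calc (w : G) = (g * g) * w * (g * g) := by rw [hgi.2]; group
      _ = g * (g * w * g) * g := by group
      _ = 1 := by rw [e, mul_one, hgi.2]))
  obtain ⟨τ₀, hτ₀, hτ₀ω⟩ := (mate_fixed hS h2 hC hr hω hW hgw hgw1 (g • a)).1 (by
    rw [← mul_smul, show g * (w : G) * g * g = g * w * (g * g) by group, hgi.2, mul_one, mul_smul,
      (mem_twoStab hS (wSub_le hS h2 w.2)).1])
  have hτ₀L := (Subgroup.mem_inf.1 hτ₀).1
  have hgaout : g • a ∉ orbitSet hS h2 := fun h => hω (by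
    have h' := smul_orbitSet hS h2 hr (inv_mem hτ₀L) h
    rwa [← hτ₀ω, inv_smul_smul] at h')
  have hga : g • a ≠ a := fun h => hgaout (Or.inl h)
  obtain ⟨x, hx, hxg⟩ := exists_q_smul hS hga
  set s := x⁻¹ * g * x with hs
  have hsi : IsInvol s := by simpa [hs] using hgi.conj x⁻¹
  have hk : t * s ∈ Cfsg.invertedBy (twoStab a t) t := swap_mem_inverted hS hsi (by
    rw [hs, mul_smul, mul_smul, smul_a hS hx, ← hxg, inv_smul_smul])
  -- the big cell on `g T`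
  have hA : ∀ δ ∈ mateTorus a t ω, InCell t Q N (g * δ) := by
    intro δ hδ
    obtain ⟨q, hq, h, hh, f, hf, e⟩ := exists_cell hS (g := g * δ) (by
      intro h
      have h' := congrArg (g • ·) h
      change g • ((g * δ) • a) = g • a at h'
      rw [← mul_smul, ← mul_assoc, hgi.2, one_mul] at h'
      exact hgaout (h' ▸ smul_orbitSet hS h2 hr (Subgroup.mem_inf.1 hδ).1 (Or.inl rfl)))
    refine ⟨q, hq, h, ?_, f, hf, e⟩
    obtain ⟨w₀, w₁, hw₀, hw₁, hdec⟩ := swap_decomp hS h2 hC hr hω hW hb hgi hg hδ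
    have hm₀ := mate_elem hS h2 hC hr hω hw₀
    set l := iota hS h2 hC hr hω hw₀
    set m := l⁻¹ * w₀ with hm
    have hδw : Commute δ w₀ := (wSub_comm_small hS h2 hC hr hw₀ (Subgroup.mem_inf.1 hδ).1).symm
    have hδm : Commute δ m⁻¹ :=
      (show Commute δ m from
        ((Subgroup.mem_centralizer_iff.1 (Subgroup.mem_inf.1 hδ).2) m hm₀).symm).inv_right
    have hlw : Commute l w₀ := iota_comm_self hS h2 hC hr hω hw₀
    have hl : l = m⁻¹ * w₀ := by
      rw [hm, mul_inv_rev, inv_inv, mul_assoc, hlw.eq, inv_mul_cancel_left]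
    set w₂ := g * m⁻¹ * g with hw₂
    have hw₂W : w₂ ∈ wSub a t := hgmate _ (inv_mem hm₀)
    set w₃ := w₀ * w₁
    have hw₃ : w₃ ∈ wSub a t := mul_mem hw₀ hw₁
    have hinv : (g * δ)⁻¹ = w₂ * (g * δ) * w₃ := by
      calc (g * δ)⁻¹ = (g * g) * δ⁻¹ * g := by rw [mul_inv_rev, hginv, hgi.2, one_mul]
        _ = g * (g * δ⁻¹ * g) := by group
        _ = g * (δ * m⁻¹) * w₃ := by rw [hdec, hl]; simp only [w₃, mul_assoc]
        _ = g * m⁻¹ * (g * g) * δ * w₃ := by rw [hδm.eq, hgi.2]; group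
        _ = _ := by rw [hw₂]; group
    rw [e] at hinv
    have hDw₂ := wSub_le hS h2 hw₂W
    have hDw₃ := wSub_le hS h2 hw₃
    have htw : t * w₃ = w₃ * t := (wSub_comm_t hS h2 hw₃).symm
    have hcell : f⁻¹ * (t * h⁻¹ * t) * t * q⁻¹ =
        (w₂ * q * w₂⁻¹) * (w₂ * h * w₃) * t * (w₃⁻¹ * f * w₃) := by
      calc f⁻¹ * (t * h⁻¹ * t) * t * q⁻¹ = f⁻¹ * t * h⁻¹ * (t * t) * q⁻¹ := by group
        _ = (q * h * t * f)⁻¹ := by rw [hS.mul_self, mul_inv_rev, mul_inv_rev, mul_inv_rev, inv_t hS]; group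
        _ = w₂ * (q * h * t * f) * w₃ := hinv
        _ = (w₂ * q * w₂⁻¹) * (w₂ * h) * (t * w₃) * (w₃⁻¹ * f * w₃) := by group
        _ = _ := by rw [htw]; group
    have heq := cell_unique hS (inv_mem hf) (tdt_mem hS (inv_mem hh)) (inv_mem hq)
      (hS.conj_mem w₂ (Subgroup.mem_inf.1 hDw₂).1 q hq) (mul_mem (mul_mem hDw₂ hh) hDw₃)
      (by simpa using hS.conj_mem w₃⁻¹ (inv_mem (Subgroup.mem_inf.1 hDw₃).1) f hf) hcell
    have hk₀ : h * (t * h⁻¹ * t) ∈ invK a t := by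
      simpa using conj_t_mod hS (inv_mem hh)
    have hsq : h * h ∈ N := by
      have e' : h * h = (h * w₂⁻¹ * h⁻¹) * (h * (t * h⁻¹ * t)) * w₃⁻¹ := by rw [heq]; group
      rw [e']
      exact mul_mem (mul_mem (Subgroup.mem_sup_right (conj_mem_wSub hS h2 hh (inv_mem hw₂W)))
        (Subgroup.mem_sup_left hk₀)) (Subgroup.mem_sup_right (inv_mem hw₃))
    obtain ⟨j, hj⟩ := exists_sqrt (odd_orderOf hS.odd_card hh)
    rw [← hj, ← (Commute.refl h).mul_pow]
    exact pow_mem hsq j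
  -- the big cell on `t x⁻¹ T`
  have hkN : t * s ∈ N := Subgroup.mem_sup_left (Subgroup.subset_closure hk)
  have hB : ∀ δ ∈ mateTorus a t ω, InCell t Q N (t * x⁻¹ * δ) := by
    intro δ hδ
    have h := InCell.mul_left hS hN (InCell.mul_q_left hS (hA δ hδ) (inv_mem hx)) hkN
    have e : t * s * (x⁻¹ * (g * δ)) = t * x⁻¹ * δ := by
      rw [hs, show t * (x⁻¹ * g * x) * (x⁻¹ * (g * δ)) = t * x⁻¹ * (g * g) * δ by group, hgi.2,
        mul_one]
    rwa [e] at h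
  -- shift to `ω`
  obtain ⟨q₀, hq₀, d₀, hd₀, e₁⟩ := exists_qd hS (g := t * y * τ₀⁻¹ * x * t) (by
    rw [mem_stabilizer_iff, mul_smul, mul_smul, mul_smul, mul_smul, hxg, ← hτ₀ω, inv_smul_smul,
      hωdef, smul_inv_smul, ← mul_smul, hS.mul_self, one_smul])
  have hshift : ∀ δ, t * y * (τ₀⁻¹ * δ) = q₀ * (d₀ * (t * x⁻¹ * δ)) := fun δ => by
    rw [← mul_assoc q₀, ← e₁, show t * y * τ₀⁻¹ * x * t * (t * x⁻¹ * δ) =
      t * y * τ₀⁻¹ * x * (t * t) * x⁻¹ * δ by group, hS.mul_self]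
    group
  have hd₀N : d₀ ∈ N := by
    obtain ⟨q, hq, h, hh, f, hf, e⟩ := hB τ₀ hτ₀
    have h1 : (1 : G) * 1 * t * y = (q₀ * (d₀ * q * d₀⁻¹)) * (d₀ * h) * t * f := by
      have := hshift τ₀
      rw [inv_mul_cancel, mul_one, e] at this
      rw [one_mul, one_mul, this]
      group
    have h2' := cell_unique hS (one_mem Q) (one_mem _) hy
      (mul_mem hq₀ (hS.conj_mem d₀ (Subgroup.mem_inf.1 hd₀).1 q hq)) (mul_mem hd₀ (hN hh)) hf h1
    rw [eq_inv_of_mul_eq_one_left h2'.symm]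
    exact inv_mem hh
  have hall : ∀ σ ∈ mateTorus a t ω, InCell t Q N (t * y * σ) := by
    intro σ hσ
    have h := InCell.mul_q_left hS (InCell.mul_left hS hN (hB _ (mul_mem hτ₀ hσ)) hd₀N) hq₀
    rw [← hshift, inv_mul_cancel_left] at h
    exact h
  obtain ⟨σ, hσ, hσa⟩ := mateTorus_transitive hS h2 hC hr hω hW (Or.inl rfl)
    (Or.inr ⟨1, one_mem _, one_smul _ _⟩ : t • a ∈ orbitSet hS h2)
  obtain ⟨z, hz, k, hk', e₂⟩ := small_move_a hS h2 hr
    (mul_mem (t_mem_small hS h2) (Subgroup.mem_inf.1 hσ).1)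
    (by rw [mul_smul, hσa, ← mul_smul, hS.mul_self, one_smul])
  obtain ⟨q, hq, h, hh, f, hf, e₃⟩ := InCell.mul_q_right hS
    (InCell.mul_right hS hN hNt (hall σ hσ) (Subgroup.mem_sup_left (inv_mem hk')))
    (inv_mem (invSub_le_Q hS h2 hz))
  have e₄ : t * y * σ * k⁻¹ * z⁻¹ = t * y * t := by
    calc t * y * σ * k⁻¹ * z⁻¹ = t * y * ((t * t) * σ) * k⁻¹ * z⁻¹ := by rw [hS.mul_self, one_mul]
      _ = t * y * t * (t * σ) * k⁻¹ * z⁻¹ := by group
      _ = t * y * t := by rw [e₂]; group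
  rw [cell_unique hS hg₀ hh₀ hf₀ hq (hN hh) hf (e₀.symm.trans (e₄.symm.trans e₃))]
  exact hh

/-- The elements of `⟨Q, t⟩`. -/
theorem sup_t_cases (hW : wSub a t ≠ ⊥) (hb : BetaTriv (a := a) (t := t) hS h2) {g : G}
    (hg : g ∈ Q ⊔ Subgroup.zpowers t) :
    (∃ q ∈ Q, ∃ n ∈ invK a t ⊔ wSub a t, g = q * n) ∨ InCell t Q (invK a t ⊔ wSub a t) g := by
  set N := invK a t ⊔ wSub a t
  have hN : N ≤ twoStab a t := sup_wSub_le hS
  have hNt := sup_wSub_t hS h2
  have stepQ : ∀ x ∈ Q, ∀ y : G, ((∃ q ∈ Q, ∃ n ∈ N, y = q * n) ∨ InCell t Q N y) →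
      ((∃ q ∈ Q, ∃ n ∈ N, x * y = q * n) ∨ InCell t Q N (x * y)) := by
    rintro x hx y (⟨q, hq, n, hn, rfl⟩ | h)
    · exact Or.inl ⟨x * q, mul_mem hx hq, n, hn, by group⟩
    · exact Or.inr (InCell.mul_q_left hS h hx)
  have stepT : ∀ y : G, ((∃ q ∈ Q, ∃ n ∈ N, y = q * n) ∨ InCell t Q N y) →
      ((∃ q ∈ Q, ∃ n ∈ N, t * y = q * n) ∨ InCell t Q N (t * y)) := by
    rintro y (⟨q, hq, n, hn, rfl⟩ | ⟨q, hq, h, hh, f, hf, rfl⟩)
    · have h0 : InCell t Q N (t * q) := ⟨1, one_mem _, 1, one_mem _, q, hq, by group⟩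
      have h := InCell.mul_right hS hN hNt h0 hn
      exact Or.inr (by rwa [← mul_assoc])
    · have hh' := hNt h hh
      rcases eq_or_ne q 1 with rfl | hq1
      · refine Or.inl ⟨(t * h * t) * f * (t * h * t)⁻¹,
          hS.conj_mem _ (Subgroup.mem_inf.1 (hN hh')).1 f hf, t * h * t, hh', by group⟩
      · obtain ⟨g₁, h₁, f₁, hg₁, hh₁, hf₁, e⟩ := exists_ghtf hS hq hq1
        have hc : InCell t Q N (t * q * t) :=
          ⟨g₁, hg₁, h₁, hpart_mem hS h2 hC hr hW hb hq hq1 hg₁ hh₁ hf₁ e, f₁, hf₁, e⟩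
        have h' := InCell.mul_q_right hS (InCell.mul_right hS hN hNt hc hh') hf
        refine Or.inr ?_
        rwa [show t * q * t * (t * h * t) * f = t * q * (t * t) * h * t * f by group, hS.mul_self,
          mul_one, show t * q * h * t * f = t * (q * h * t * f) by group] at h'
  rw [Subgroup.sup_eq_closure] at hg
  induction hg using Subgroup.closure_induction_left with
  | one => exact Or.inl ⟨1, one_mem _, 1, one_mem _, (mul_one 1).symm⟩
  | mul_left x hx y hy ih =>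
    rcases hx with hx | hx
    · exact stepQ x hx y ih
    · obtain ⟨j, rfl⟩ := Subgroup.mem_zpowers_iff.1 hx
      rcases Int.even_or_odd j with ⟨i, rfl⟩ | ⟨i, rfl⟩
      · rw [← two_mul, zpow_mul, zpow_two, hS.mul_self, one_zpow, one_mul]; exact ih
      · rw [zpow_add_one, zpow_mul, zpow_two, hS.mul_self, one_zpow, one_mul]; exact stepT y ih
  | inv_mul_cancel x hx y hy ih =>
    rcases hx with hx | hx
    · exact stepQ _ (inv_mem hx) y ih
    · obtain ⟨j, rfl⟩ := Subgroup.mem_zpowers_iff.1 hx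
      rcases Int.even_or_odd j with ⟨i, rfl⟩ | ⟨i, rfl⟩
      · rw [← two_mul, zpow_mul, zpow_two, hS.mul_self, one_zpow, inv_one, one_mul]; exact ih
      · rw [zpow_add_one, zpow_mul, zpow_two, hS.mul_self, one_zpow, one_mul, inv_t hS]
        exact stepT y ih

theorem twoStab_inf_sup_le (hW : wSub a t ≠ ⊥) (hb : BetaTriv (a := a) (t := t) hS h2) :
    twoStab a t ⊓ (Q ⊔ Subgroup.zpowers t) ≤ invK a t ⊔ wSub a t := by
  intro d hd
  obtain ⟨hdD, hdH⟩ := Subgroup.mem_inf.1 hd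
  rcases sup_t_cases hS h2 hC hr hW hb hdH with ⟨q, hq, n, hn, e⟩ | ⟨q, hq, h, hh, f, hf, e⟩
  · obtain ⟨-, e'⟩ := qd_unique hS (one_mem Q) hq hdD (sup_wSub_le hS hn) (by rw [one_mul, e])
    exact e' ▸ hn
  · exfalso
    refine hS.not_mem (show t ∈ stabilizer G a from ?_)
    rw [show t = h⁻¹ * q⁻¹ * d * f⁻¹ by rw [e]; group]
    exact mul_mem (mul_mem (mul_mem (inv_mem (Subgroup.mem_inf.1 (sup_wSub_le hS hh)).1)
      (inv_mem (hS.le hq))) (Subgroup.mem_inf.1 hdD).1) (inv_mem (hS.le hf))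

/-- **`V = W`** when `Q` and `t` generate the group. -/
theorem v_eq_of_top (hW : wSub a t ≠ ⊥) (hb : BetaTriv (a := a) (t := t) hS h2)
    (htop : Q ⊔ Subgroup.zpowers t = ⊤) :
    twoStab a t ⊓ Subgroup.centralizer {t} = wSub a t := by
  refine le_antisymm (fun v hv => ?_) (wSub_le_v hS h2)
  obtain ⟨hvD, hvt⟩ := Subgroup.mem_inf.1 hv
  have hvN := twoStab_inf_sup_le hS h2 hC hr hW hb (Subgroup.mem_inf.2 ⟨hvD, htop ▸ Subgroup.mem_top v⟩)
  have key : ∀ n ∈ invK a t ⊔ wSub a t, ∃ k ∈ invK a t, ∃ w ∈ wSub a t, n = k * w := by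
    intro n hn
    rw [Subgroup.sup_eq_closure] at hn
    induction hn using Subgroup.closure_induction with
    | mem x hx =>
      rcases hx with hx | hx
      · exact ⟨x, hx, 1, one_mem _, (mul_one x).symm⟩
      · exact ⟨1, one_mem _, x, hx, (one_mul x).symm⟩
    | one => exact ⟨1, one_mem _, 1, one_mem _, (one_mul 1).symm⟩
    | mul x y _ _ hx hy =>
      obtain ⟨k, hk, w, hw, rfl⟩ := hx
      obtain ⟨k', hk', w', hw', rfl⟩ := hy
      refine ⟨k * k', mul_mem hk hk', w * w', mul_mem hw hw', ?_⟩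
      calc k * w * (k' * w') = k * (w * k') * w' := by group
        _ = _ := by rw [wSub_comm_inverted hS h2 hw ((mem_invK hS h2).1 hk')]; group
    | inv x _ hx =>
      obtain ⟨k, hk, w, hw, rfl⟩ := hx
      refine ⟨k⁻¹, inv_mem hk, w⁻¹, inv_mem hw, ?_⟩
      rw [mul_inv_rev, wSub_comm_inverted hS h2 (inv_mem hw) ((mem_invK hS h2).1 (inv_mem hk))]
  obtain ⟨k, hk, w, hw, rfl⟩ := key v hvN
  have hkt : k * t = t * k := by
    have h1 : Commute (k * w) t := Subgroup.mem_centralizer_singleton_iff.1 hvt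
    have h2' : Commute w t := wSub_comm_t hS h2 hw
    have h3 := h1.mul_left h2'.inv_left
    rw [mul_inv_cancel_right] at h3
    exact h3.eq
  have hkk : k * k = 1 := by
    have h := tkt_eq hS h2 hk
    rw [← hkt, mul_assoc, hS.mul_self, mul_one] at h
    exact mul_eq_one_iff_eq_inv.2 h
  have hk1 : k = 1 := sq_inj (odd_orderOf hS.odd_card (invK_le hS hk)) (by simp) (by rw [hkk, mul_one])
  rw [hk1, one_mul]
  exact hw

end Cfsg.Agent.RankOne
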