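import Cfsg.Agent.Lib.RankOneW.MateTorus
import Cfsg.Agent.Lib.RankOneW.Normal
import Cfsg.Agent.Lib.RankOneW.Galois

/-!
# The mate is conjugate to `W`

An element of prime order of the mate fixes `q + 1` points, so it is conjugate into `V`; if no conjugate
lies in `W`, an element `v` of `V` fixing a point outside `Δ` and an element of the mate generate a
group fixing three points, and the cyclicity of `V / W` and fusion control in `V` give a contradiction.
-/

set_option autoImplicit false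
set_option linter.unusedSectionVars false
set_option linter.style.haveILetI false

namespace Cfsg.Agent.RankOne

open MulAction

universe u v

/-- `ℓ (q₀ + 1)` divides `q₀ ^ o + 1` if `ℓ` divides `q₀ + 1` and `o`, and `o` is odd. -/
theorem mul_succ_dvd {ℓ q₀ o : ℕ} (hq : ℓ ∣ q₀ + 1) (ho : ℓ ∣ o) (hodd : Odd o) :
    ℓ * (q₀ + 1) ∣ q₀ ^ o + 1 := by
  have h : ((ℓ : ℤ)) * ((q₀ : ℤ) + 1) ∣ (q₀ : ℤ) ^ o + 1 := by
    have hs := geom_sum_mul (-(q₀ : ℤ)) o
    rw [hodd.neg_pow] at hs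
    have hdiv : (ℓ : ℤ) ∣ ∑ i ∈ Finset.range o, (-(q₀ : ℤ)) ^ i := by
      rw [← ZMod.intCast_zmod_eq_zero_iff_dvd]
      have h1 : ((-(q₀ : ℤ) : ℤ) : ZMod ℓ) = 1 := by
        have h0 : ((q₀ + 1 : ℕ) : ZMod ℓ) = 0 := (ZMod.natCast_eq_zero_iff _ _).2 hq
        push_cast at h0 ⊢
        linear_combination -h0
      rw [Int.cast_sum]
      simp only [Int.cast_pow, h1, one_pow, Finset.sum_const, Finset.card_range, nsmul_eq_mul,
        mul_one]
      exact (ZMod.natCast_eq_zero_iff _ _).2 ho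
    have he : (q₀ : ℤ) ^ o + 1 = (∑ i ∈ Finset.range o, (-(q₀ : ℤ)) ^ i) * ((q₀ : ℤ) + 1) := by
      linear_combination hs
    rw [he]
    exact mul_dvd_mul_right hdiv _
  exact_mod_cast h

/-- Elements of the same order of a finite cyclic group generate the same subgroup. -/
theorem zpowers_eq_of_cyclic {C : Type*} [Group C] [Finite C] [IsCyclic C] {x y : C}
    (h : orderOf x = orderOf y) : Subgroup.zpowers x = Subgroup.zpowers y := by
  classical
  letI : Fintype C := Fintype.ofFinite C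
  have key : ∀ z : C, orderOf z = orderOf x → (Subgroup.zpowers z : Set C).toFinset =
      Finset.univ.filter fun a : C => a ^ orderOf x = 1 := fun z hz => by
    refine Finset.eq_of_subset_of_card_le (fun a ha => ?_) ?_
    · rw [Set.mem_toFinset] at ha
      rw [Finset.mem_filter, ← hz]
      exact ⟨Finset.mem_univ _, orderOf_dvd_iff_pow_eq_one.1 (orderOf_dvd_of_mem_zpowers ha)⟩
    · refine (IsCyclic.card_pow_eq_one_le (orderOf_pos x)).trans ?_
      rw [← Set.ncard_eq_toFinset_card', ← Nat.card_coe_set_eq, SetLike.coe_sort_coe,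
        Nat.card_zpowers, hz]
  refine SetLike.coe_injective (Set.toFinset_inj.1 ?_)
  rw [key x rfl, key y h.symm]

variable {G : Type u} {Ω : Type v} [Group G] [MulAction G Ω] {a : Ω} {t : G} {Q : Subgroup G}
variable [Finite G] [FaithfulSMul G Ω] (hS : Cfsg.IsRankOneSetup G Ω a t Q)
  (h2 : ∃ x y : G, x ≠ 1 ∧ y ≠ 1 ∧ x ≠ y ∧ x * x = 1 ∧ y * y = 1 ∧ x * y = y * x)
  (hC : IsCube a t Q) (hr : RInvol hS h2)

include hS in
/-- A set fixing three points is conjugate into `V`. -/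
theorem exists_conj_v {X : Set G} {b c d : Ω} (hbc : b ≠ c) (hbd : b ≠ d) (hcd : c ≠ d)
    (hX : ∀ x ∈ X, x • b = b ∧ x • c = c ∧ x • d = d) :
    ∃ g : G, ∀ x ∈ X, g * x * g⁻¹ ∈ twoStab a t ⊓ Subgroup.centralizer {t} := by
  obtain ⟨g, hgb, hgc⟩ := exists_smul_pair hS hbc (ta_ne hS).symm
  have hfix : ∀ (x : G) (p : Ω), x • p = p → (g * x * g⁻¹) • (g • p) = g • p := fun x p hp => by
    rw [mul_smul, mul_smul, inv_smul_smul, hp]
  have hsub : (fun x => g * x * g⁻¹) '' X ⊆ (twoStab a t : Set G) := by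
    rintro _ ⟨x, hx, rfl⟩
    obtain ⟨hb, hc, -⟩ := hX x hx
    exact Subgroup.mem_inf.2 ⟨by rw [mem_stabilizer_iff, ← hgb]; exact hfix x b hb,
      by rw [mem_stabilizer_iff, ← hgc]; exact hfix x c hc⟩
  obtain ⟨k, hk, hkc⟩ := conj_into_centralizer hS hsub ⟨g • b, g • c, g • d,
    fun h => hbc (MulAction.injective g h), fun h => hbd (MulAction.injective g h),
    fun h => hcd (MulAction.injective g h), by
      rintro _ ⟨x, hx, rfl⟩
      obtain ⟨hb, hc, hd⟩ := hX x hx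
      exact ⟨hfix x b hb, hfix x c hc, hfix x d hd⟩⟩
  refine ⟨k * g, fun x hx => ?_⟩
  have hy : (fun x => g * x * g⁻¹) x ∈ (fun x => g * x * g⁻¹) '' X := ⟨x, hx, rfl⟩
  rw [show k * g * x * (k * g)⁻¹ = k * (g * x * g⁻¹) * k⁻¹ by group]
  exact Subgroup.mem_inf.2 ⟨mul_mem (mul_mem hk (hsub hy)) (inv_mem hk),
    Subgroup.mem_centralizer_singleton_iff.2 (hkc _ hy)⟩

include hS h2

/-- An element of `V` fused into `W` lies in `W`. -/
theorem mem_wSub_of_fused {x g : G} (hx : x ∈ twoStab a t ⊓ Subgroup.centralizer {t})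
    (hg : g * x * g⁻¹ ∈ wSub a t) : x ∈ wSub a t := by
  obtain ⟨v, hv, he⟩ := conj_in_centralizer hS (X := {x}) (Set.singleton_subset_iff.2 hx) g (by
    rintro _ ⟨y, rfl, rfl⟩
    exact wSub_le_v hS h2 hg)
  simp only [Set.image_singleton, Set.singleton_eq_singleton_iff] at he
  have h := conj_mem_wSub hS h2 (inv_mem (Subgroup.mem_inf.1 hv).1) (he.symm ▸ hg :
    v * x * v⁻¹ ∈ wSub a t)
  simpa [mul_assoc] using h

include hC hr

variable {ω : Ω} (hω : ω ∉ orbitSet hS h2)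
include hω

theorem mate_translate {l g : G} (hl : l ∈ smallGroup a t) :
    g ∈ mate a t (l • ω) ↔ l⁻¹ * g * l ∈ mate a t ω := by
  have hl' : l ∈ smallGroup a t ⊔ wSub a t := Subgroup.mem_sup_left hl
  constructor <;> intro h <;> obtain ⟨h1, h2'⟩ := Subgroup.mem_inf.1 h
  · exact Subgroup.mem_inf.2 ⟨by
      rw [mem_stabilizer_iff, mul_smul, mul_smul, mem_stabilizer_iff.1 h1, inv_smul_smul],
      mul_mem (mul_mem (inv_mem hl') h2') hl'⟩
  · refine Subgroup.mem_inf.2 ⟨?_, ?_⟩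
    · have e := mem_stabilizer_iff.1 h1
      rw [mul_smul, mul_smul, inv_smul_eq_iff] at e
      exact e
    · have h3 := mul_mem (mul_mem hl' h2') (inv_mem hl')
      simpa [mul_assoc] using h3

theorem conjMate_translate {l g : G} (hl : l ∈ smallGroup a t) (hg : ConjMate a t ω g) :
    ConjMate a t (l • ω) (l * g) := fun x => by
  rw [mate_translate hS h2 hC hr hω hl, ← hg x,
    show l⁻¹ * (l * g * x * (l * g)⁻¹) * l = g * x * g⁻¹ by group]

/-- If some non-trivial element of the mate is conjugate into `W`, so is the whole mate. -/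
theorem conjMate_of_elem (hW : wSub a t ≠ ⊥) {m g : G} (hm : m ∈ mate a t ω) (hm1 : m ≠ 1)
    (hgm : g * m * g⁻¹ ∈ wSub a t) : ConjMate a t ω g⁻¹ := by
  classical
  have hgm1 : g * m * g⁻¹ ≠ 1 := fun e => hm1 (by
    calc m = g⁻¹ * (g * m * g⁻¹) * g := by group
      _ = 1 := by rw [e]; group)
  -- `g` moves the torus orbit of `ω` onto `Δ`
  have hΔ : ∀ p ∈ orbitSet hS h2, ∃ τ ∈ mateTorus a t ω, g • (τ • ω) = p := by
    intro p hp
    have h : m • (g⁻¹ • p) = g⁻¹ • p := by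
      have h' := wSub_fix_orbit hS h2 hC hr hgm hp
      rw [mul_smul, mul_smul, ← eq_inv_smul_iff] at h'
      exact h'
    obtain ⟨τ, hτ, e⟩ := (mate_fixed hS h2 hC hr hω hW hm hm1 _).1 h
    exact ⟨τ, hτ, by rw [e, smul_inv_smul]⟩
  have hfwd : ∀ x : mate a t ω, g * x * g⁻¹ ∈ wSub a t := by
    intro x
    by_cases hx1 : (x : G) = 1
    · rw [hx1, mul_one, mul_inv_cancel]; exact one_mem _
    refine mem_wSub_of_fix_orbit hS h2 hC hr fun p hp => ?_
    obtain ⟨τ, hτ, rfl⟩ := hΔ p hp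
    rw [mul_smul, mul_smul, inv_smul_smul,
      (mate_fixed hS h2 hC hr hω hW x.2 hx1 _).2 ⟨τ, hτ, rfl⟩]
  let f : mate a t ω → wSub a t := fun x => ⟨_, hfwd x⟩
  have hf : Function.Bijective f := (Nat.bijective_iff_injective_and_card f).2
    ⟨fun x y h => Subtype.ext (by
      have h' : g * x * g⁻¹ = g * y * g⁻¹ := congrArg Subtype.val h
      simpa using h'), card_mate hS h2 hC hr hω⟩
  intro x
  rw [inv_inv]
  refine ⟨fun h => ?_, fun h => ?_⟩
  · have h' := hfwd ⟨_, h⟩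
    simpa [mul_assoc] using h'
  · obtain ⟨y, hy⟩ := hf.2 ⟨x, h⟩
    have h' : g * y * g⁻¹ = x := congrArg Subtype.val hy
    rw [← h', show g⁻¹ * (g * y * g⁻¹) * g = (y : G) by group]
    exact y.2

/-- The main case: `v` in `V` but not in `W`, of prime order dividing `|W|`, fixes `ω`. -/
theorem exists_conjMate_of_v (hW : wSub a t ≠ ⊥) {ℓ : ℕ} (hℓ : ℓ.Prime) {v w : G}
    (hv : v ∈ twoStab a t ⊓ Subgroup.centralizer {t}) (hvW : v ∉ wSub a t) (hvℓ : v ^ ℓ = 1)
    (hvω : v • ω = ω) (hw : w ∈ wSub a t) (hwℓ : orderOf w = ℓ) :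
    ∃ g : G, ConjMate a t ω g := by
  classical
  haveI := Fact.mk hℓ
  have := finite_points hS
  have hw1 : w ≠ 1 := fun e => hℓ.ne_one (by rw [← hwℓ, e, orderOf_one])
  have hvD := (Subgroup.mem_inf.1 hv).1
  have hℓodd : Odd ℓ := hwℓ ▸ odd_orderOf hS.odd_card (wSub_le hS h2 hw)
  -- `v` centralises `w`
  have hvw : v * w = w * v := by
    have hcyc := (wSub_cyclic hS h2 hC hr hω hW).1
    set w' : wSub a t := ⟨v * w * v⁻¹, conj_mem_wSub hS h2 hvD hw⟩
    have ho : orderOf w' = ℓ := by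
      rw [← Subgroup.orderOf_coe, show (w' : G) = MulAut.conj v w from rfl,
        (MulAut.conj v).orderOf_eq, hwℓ]
    have ho' : orderOf (⟨w, hw⟩ : wSub a t) = ℓ := by rw [Subgroup.orderOf_mk, hwℓ]
    have hzz : Subgroup.zpowers (⟨w, hw⟩ : wSub a t) = Subgroup.zpowers w' :=
      zpowers_eq_of_cyclic (ho'.trans ho.symm)
    have hmem : w' ∈ Subgroup.zpowers (⟨w, hw⟩ : wSub a t) := hzz ▸ Subgroup.mem_zpowers w'
    rw [← mem_powers_iff_mem_zpowers] at hmem
    obtain ⟨i, hi⟩ := hmem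
    have hi' : v * w * v⁻¹ = w ^ i := (congrArg Subtype.val hi).symm
    have hit : ∀ j : ℕ, v ^ j * w * (v ^ j)⁻¹ = w ^ i ^ j := by
      intro j
      induction j with
      | zero => simp
      | succ j ih =>
        calc v ^ (j + 1) * w * (v ^ (j + 1))⁻¹ = v ^ j * (v * w * v⁻¹) * (v ^ j)⁻¹ := by
              rw [pow_succ]; group
          _ = (v ^ j * w * (v ^ j)⁻¹) ^ i := by rw [hi', conj_pow]
          _ = w ^ i ^ (j + 1) := by rw [ih, ← pow_mul, ← pow_succ]
    have h := hit ℓ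
    rw [hvℓ, inv_one, mul_one, one_mul] at h
    have h' : w ^ 1 = w ^ i ^ ℓ := by rw [pow_one]; exact h
    rw [pow_eq_pow_iff_modEq, hwℓ, ← ZMod.natCast_eq_natCast_iff, Nat.cast_pow, ZMod.pow_card,
      Nat.cast_one] at h'
    have h'' : w ^ i = w ^ 1 := by
      rw [pow_eq_pow_iff_modEq, hwℓ, ← ZMod.natCast_eq_natCast_iff, Nat.cast_one]
      exact h'.symm
    rw [h'', pow_one] at hi'
    exact mul_inv_eq_iff_eq_mul.1 hi'
  set l := iota hS h2 hC hr hω hw with hl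
  have hlL := iota_mem hS h2 hC hr hω hw
  have hlf := iota_isFree hS h2 hC hr hω hw hw1
  have hlℓ : orderOf l = ℓ := by
    have e := orderOf_injective (iotaHom hS h2 hC hr hω hW) (iotaHom_injective hS h2 hC hr hω hW) ⟨w, hw⟩
    rw [Subgroup.orderOf_mk, hwℓ] at e
    exact e
  have hvl : v * l = l * v := by
    refine mul_inv_eq_iff_eq_mul.1
      (iota_eq hS h2 hC hr hω hw (conj_mem_small hS h2 hvD hlL) ?_)
    rw [mul_smul, mul_smul, show v⁻¹ • ω = ω from inv_smul_eq_iff.2 hvω.symm,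
      hl, iota_smul, ← mul_smul, hvw, mul_smul, hvω]
  set m := l⁻¹ * w with hm
  have hmM : m ∈ mate a t ω := mate_elem hS h2 hC hr hω hw
  have hm1 : m ≠ 1 := fun e => by
    have e' : l = w := inv_mul_eq_one.1 e
    exact hlf.free a (Or.inl rfl) (by rw [← hl, e']; exact (mem_twoStab hS (wSub_le hS h2 hw)).1)
  have hvm : v * m = m * v := ((show Commute v l from hvl).inv_right.mul_right hvw).eq
  have hlw : l * w = w * l := (wSub_comm_small hS h2 hC hr hw hlL).symm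
  -- three common fixed points
  have hlω : ∀ j : ℕ, v • (l ^ j • ω) = l ^ j • ω ∧ m • (l ^ j • ω) = l ^ j • ω := fun j => by
    refine ⟨?_, ?_⟩
    · rw [← mul_smul, ((show Commute v l from hvl).pow_right j).eq, mul_smul, hvω]
    · rw [← mul_smul, (((Commute.refl l).inv_left.mul_left (show Commute w l from hlw.symm)).pow_right j).eq,
        mul_smul, mem_stabilizer_iff.1 (Subgroup.mem_inf.1 hmM).1]
  have hne : ∀ j, j ≠ 0 → j < 3 → l ^ j • ω ≠ ω := fun j hj hj3 => by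
    refine small_semiregular hS h2 hr (pow_mem hlL j) (fun e => ?_) hω
    have hd := orderOf_dvd_of_pow_eq_one e
    rw [hlℓ] at hd
    have hle := Nat.le_of_dvd (by omega) hd
    have h2ℓ := hℓ.two_le
    obtain ⟨r, hr'⟩ := hℓodd
    omega
  obtain ⟨g, hg⟩ := exists_conj_v hS (X := {v, m}) (b := ω) (c := l • ω) (d := (l ^ 2) • ω)
    (fun h => hne 1 one_ne_zero (by omega) (by rw [pow_one]; exact h.symm))
    (fun h => hne 2 two_ne_zero (by omega) h.symm)
    (fun h => hne 1 one_ne_zero (by omega) (by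
      rw [pow_one]
      refine MulAction.injective l ?_
      show l • (l • ω) = l • ω
      rw [← mul_smul, ← pow_two]
      exact h.symm)) (by
    rintro x (rfl | rfl)
    · exact ⟨hvω, by simpa using (hlω 1).1, (hlω 2).1⟩
    · exact ⟨mem_stabilizer_iff.1 (Subgroup.mem_inf.1 hmM).1, by simpa using (hlω 1).2, (hlω 2).2⟩)
  have hgv := hg v (Or.inl rfl)
  have hgm := hg m (Or.inr rfl)
  by_cases hgmW : g * m * g⁻¹ ∈ wSub a t
  · exact ⟨g⁻¹, conjMate_of_elem hS h2 hC hr hω hW hmM hm1 hgmW⟩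
  exfalso
  have hgvW : g * v * g⁻¹ ∉ wSub a t := fun h => hvW (mem_wSub_of_fused hS h2 hv h)
  obtain ⟨n, -, hn⟩ := qSize_pow hS h2
  obtain ⟨⟨A, iA, iF, Γ, hcyc, -, hker⟩, -, hgal⟩ := exists_galois_full hS h2 hn
  have hordA : ∀ (x : G) (hx : x ∈ twoStab a t ⊓ Subgroup.centralizer {t}),
      x ^ ℓ = 1 → x ∉ wSub a t → orderOf (Γ ⟨x, hx⟩) = ℓ := fun x hx hxℓ hxW => by
    refine orderOf_eq_prime ?_ fun e => hxW ((hker _).1 e)
    rw [← map_pow, show (⟨x, hx⟩ : ↥(twoStab a t ⊓ Subgroup.centralizer {t})) ^ ℓ = 1 from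
      Subtype.ext hxℓ, map_one]
  have hmℓ : m ^ ℓ = 1 := by
    rw [hm, ((show Commute l w from hlw).inv_left).mul_pow, inv_pow, ← hlℓ, pow_orderOf_eq_one,
      hlℓ, ← hwℓ, pow_orderOf_eq_one, inv_one, one_mul]
  have h1 := hordA _ hgv (by rw [conj_pow, hvℓ]; group) hgvW
  have h2' := hordA _ hgm (by rw [conj_pow, hmℓ]; group) hgmW
  have hzz : Subgroup.zpowers (Γ ⟨_, hgv⟩) = Subgroup.zpowers (Γ ⟨_, hgm⟩) :=
    zpowers_eq_of_cyclic (h1.trans h2'.symm)
  have hmem : Γ ⟨_, hgm⟩ ∈ Subgroup.zpowers (Γ ⟨_, hgv⟩) := hzz ▸ Subgroup.mem_zpowers _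
  rw [← mem_powers_iff_mem_zpowers] at hmem
  obtain ⟨i, hi⟩ := hmem
  change Γ ⟨_, hgv⟩ ^ i = Γ ⟨_, hgm⟩ at hi
  -- `v ^ i * m⁻¹` is fused into `W`
  set u := v ^ i with hu
  have huV : u ∈ twoStab a t ⊓ Subgroup.centralizer {t} := pow_mem hv i
  have huW : u ∉ wSub a t := fun h => by
    have e : Γ ⟨_, hgv⟩ ^ i = 1 := by
      rw [← map_pow]
      refine (hker _).2 ?_
      have hv' : g * u * g⁻¹ ∈ twoStab a t ⊓ Subgroup.centralizer {t} := by
        rw [hu, ← conj_pow]; exact pow_mem hgv i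
      show (g * v * g⁻¹) ^ i ∈ wSub a t
      rw [conj_pow, ← hu]
      have h3 := mem_wSub_of_fused hS h2 (x := g * u * g⁻¹) (g := g⁻¹) hv' (by simpa [mul_assoc] using h)
      exact h3
    rw [e] at hi
    exact hgmW ((hker _).1 hi.symm)
  have hfused : g * (u * m⁻¹) * g⁻¹ ∈ wSub a t := by
    have e : Γ (⟨_, hgv⟩ ^ i * (⟨_, hgm⟩ : ↥(twoStab a t ⊓ Subgroup.centralizer {t}))⁻¹) = 1 := by
      rw [map_mul, map_pow, map_inv, hi, mul_inv_cancel]
    have h := (hker _).1 e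
    push_cast at h
    rw [conj_pow, conj_inv, conj_mul] at h
    exact h
  have huω : u • ω = ω := by
    have hs : v ∈ stabilizer G ω := hvω
    exact pow_mem hs i
  have huℓ : u ^ ℓ = 1 := by rw [hu, ← pow_mul, mul_comm, pow_mul, hvℓ, one_pow]
  have hul : u * l = l * u := ((show Commute v l from hvl).pow_left i).eq
  have huw : u * w = w * u := ((show Commute v w from hvw).pow_left i).eq
  -- conjugation by `u` on the torus
  obtain ⟨hcycT, hcardT⟩ := torus_spec hS h2 hr hlf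
  set T := torus a t l with hT
  have huD := (Subgroup.mem_inf.1 huV).1
  have hφmem : ∀ τ : T, u⁻¹ * τ * u * (τ : G)⁻¹ ∈ T := fun τ => by
    refine mul_mem (mem_torus.2 ⟨?_, ?_⟩) (inv_mem τ.2)
    · have h := conj_mem_small hS h2 (inv_mem huD) (mem_torus.1 τ.2).1
      rwa [inv_inv] at h
    · have hc : Commute u l := hul
      exact ((hc.inv_left.mul_left (show Commute (τ : G) l from (mem_torus.1 τ.2).2)).mul_left hc).eq
  let φ : T →* T :=
    { toFun := fun τ => ⟨_, hφmem τ⟩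
      map_one' := Subtype.ext (by simp)
      map_mul' := fun σ τ => Subtype.ext (by
        show u⁻¹ * ((σ : G) * τ) * u * ((σ : G) * τ)⁻¹ =
          (u⁻¹ * σ * u * (σ : G)⁻¹) * (u⁻¹ * τ * u * (τ : G)⁻¹)
        have hc : Commute (σ : G)⁻¹ (u⁻¹ * τ * u * (τ : G)⁻¹) :=
          torus_comm hS h2 hr hlf (inv_mem σ.2) (hφmem τ)
        calc u⁻¹ * ((σ : G) * τ) * u * ((σ : G) * τ)⁻¹
            = (u⁻¹ * σ * u) * ((u⁻¹ * τ * u * (τ : G)⁻¹) * (σ : G)⁻¹) := by group
          _ = _ := by rw [← hc.eq]; group) }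
  -- the fixed points of `u` in the orbit
  obtain ⟨o, -, hoodd, -, hoW, hoq, -⟩ := hgal u huV huW
  have hℓo : ℓ ∣ o := by
    by_contra hno
    obtain ⟨j, hj⟩ := exists_pow_eq_self_of_coprime (x := u) (n := o)
      (by rw [show orderOf u = ℓ from orderOf_eq_prime huℓ (fun e => huW (e.symm ▸ one_mem _))]
          exact ((hℓ.coprime_iff_not_dvd.2 hno)).symm)
    exact huW (hj ▸ pow_mem hoW j)
  set S := {p : orbitSet hS h2 // u • p.1 = p.1} with hSdef
  have hScard : Nat.card S = Nat.card (fixInv hS h2 u) + 1 := by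
    haveI : Finite (fixInv hS h2 u) := Subtype.finite
    rw [← Finite.card_option]
    have hz : ∀ z : fixInv hS h2 u, u • (z.1 • (t • a)) = z.1 • (t • a) := fun z => by
      rw [← mul_smul, z.2.2, mul_smul, (mem_twoStab hS huD).2]
    refine (Nat.card_eq_of_bijective (fun z : Option (fixInv hS h2 u) => match z with
      | none => (⟨⟨a, Or.inl rfl⟩, (mem_twoStab hS huD).1⟩ : S)
      | some z => ⟨⟨z.1 • (t • a), Or.inr ⟨z.1, z.2.1, rfl⟩⟩, hz z⟩) ⟨?_, ?_⟩).symm
    · have key : ∀ z : fixInv hS h2 u, z.1 • (t • a) ≠ a := fun z h => ta_ne hS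
        (MulAction.injective (z.1) (h.trans (smul_a hS (invSub_le_Q hS h2 z.2.1)).symm))
      rintro (_ | z) (_ | z') h
      · rfl
      · exact absurd (congrArg (fun p : S => p.1.1) h).symm (key z')
      · exact absurd (congrArg (fun p : S => p.1.1) h) (key z)
      · refine congrArg some (Subtype.ext ?_)
        exact congrArg (fun x : Q => (x : G)) ((existsUnique_smul hS (ta_ne hS) (key z')).unique
          (y₁ := ⟨z.1, invSub_le_Q hS h2 z.2.1⟩) (y₂ := ⟨z'.1, invSub_le_Q hS h2 z'.2.1⟩)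
          (congrArg (fun p : S => p.1.1) h) rfl)
    · rintro ⟨⟨p, hp | ⟨z, hz', rfl⟩⟩, hup⟩
      · exact ⟨none, Subtype.ext (Subtype.ext hp.symm)⟩
      · exact ⟨some ⟨z, hz', mul_inv_eq_iff_eq_mul.1
          (mem_centralizer_iff_fix hS huD (invSub_le_Q hS h2 hz') rfl hup)⟩, rfl⟩
  letI : MulAction φ.ker S :=
    { smul := fun τ p => ⟨⟨((τ : T) : G) • p.1.1,
        smul_orbitSet hS h2 hr (mem_torus.1 (τ : T).2).1 p.1.2⟩, by
          have hk : u⁻¹ * ((τ : T) : G) * u * ((τ : T) : G)⁻¹ = 1 :=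
            congrArg Subtype.val (MonoidHom.mem_ker.1 τ.2)
          show u • (((τ : T) : G) • p.1.1) = ((τ : T) : G) • p.1.1
          have e : u * ((τ : T) : G) = ((τ : T) : G) * u := by
            have h' := mul_inv_eq_one.1 hk
            rw [mul_assoc, inv_mul_eq_iff_eq_mul] at h'
            exact h'.symm
          rw [← mul_smul, e, mul_smul, p.2]⟩
      one_smul := fun p => Subtype.ext (Subtype.ext (one_smul G p.1.1))
      mul_smul := fun σ τ p => Subtype.ext (Subtype.ext (mul_smul ((σ : T) : G) ((τ : T) : G) p.1.1)) }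
  have hkd : Nat.card φ.ker ∣ Nat.card (fixInv hS h2 u) + 1 := hScard ▸
    ZassAb.card_dvd_of_free (A := φ.ker) (S := S) fun τ p hp => by
      by_contra hτ1
      exact (torus_isFree hS h2 hr hlf (τ : T).2
        (fun e => hτ1 (Subtype.ext (Subtype.ext e)))).free p.1.1 p.1.2
        (congrArg (fun p : S => p.1.1) hp)
  -- so `l` is in the image
  have hlT : l ∈ T := self_mem_torus hS h2 hr hlf
  have hlker : φ ⟨l, hlT⟩ = 1 := Subtype.ext (by
    show u⁻¹ * l * u * l⁻¹ = 1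
    rw [mul_assoc u⁻¹, ← hul]; group)
  have hℓq0 : ℓ ∣ Nat.card (fixInv hS h2 u) + 1 := by
    refine dvd_trans ?_ hkd
    rw [← hlℓ]
    have h := orderOf_dvd_natCard (⟨⟨l, hlT⟩, MonoidHom.mem_ker.2 hlker⟩ : φ.ker)
    rwa [Subgroup.orderOf_mk, Subgroup.orderOf_mk] at h
  have hℓrange : ℓ ∣ Nat.card φ.range := by
    have h := mul_succ_dvd hℓq0 hℓo hoodd
    rw [hoq, ← hcardT, ← Subgroup.card_mul_index φ.ker, Subgroup.index_ker, mul_comm ℓ] at h
    exact (Nat.mul_dvd_mul_iff_left Nat.card_pos).1 ((Nat.mul_dvd_mul_right hkd ℓ).trans h)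
  obtain ⟨y, hy⟩ := exists_prime_orderOf_dvd_card' ℓ hℓrange
  haveI := hcycT
  have hlr : (⟨l, hlT⟩ : T) ∈ φ.range := by
    have hyo : orderOf (y : T) = ℓ := by rw [Subgroup.orderOf_coe, hy]
    have hzz : Subgroup.zpowers (⟨l, hlT⟩ : T) = Subgroup.zpowers (y : T) :=
      zpowers_eq_of_cyclic (by rw [Subgroup.orderOf_mk, hlℓ, hyo])
    exact (Subgroup.zpowers_le.2 y.2) (hzz ▸ Subgroup.mem_zpowers _)
  obtain ⟨τ, hτ⟩ := hlr
  have hτ' : u⁻¹ * τ * u * (τ : G)⁻¹ = l := congrArg Subtype.val hτ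
  have hτu : (τ : G) * u * (τ : G)⁻¹ = u * l := by rw [← hτ']; group
  -- contradiction by fusion
  have hτw : (τ : G) * w = w * τ := (wSub_comm_small hS h2 hC hr hw (mem_torus.1 τ.2).1).symm
  have hτw' : (τ : G) * w⁻¹ * (τ : G)⁻¹ = w⁻¹ := by
    rw [mul_inv_eq_iff_eq_mul]
    exact (show Commute (τ : G) w from hτw).inv_right.eq
  have hkey : u * m⁻¹ = (τ : G) * (u * w⁻¹) * (τ : G)⁻¹ := by
    rw [← conj_mul, hτu, hτw', hm, mul_inv_rev, inv_inv, mul_assoc u l,
      ((show Commute l w from hlw).inv_right).eq]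
  have huwV : u * w⁻¹ ∈ twoStab a t ⊓ Subgroup.centralizer {t} :=
    mul_mem huV (inv_mem (wSub_le_v hS h2 hw))
  have hin := mem_wSub_of_fused hS h2 huwV (g := g * τ) (by
    rw [show g * τ * (u * w⁻¹) * (g * τ)⁻¹ = g * ((τ : G) * (u * w⁻¹) * (τ : G)⁻¹) * g⁻¹ by group,
      ← hkey]
    exact hfused)
  exact huW (by simpa using mul_mem hin hw)

/-- **The mate is conjugate to `W`.** -/
theorem exists_conjMate (hW : wSub a t ≠ ⊥) : ∃ g : G, ConjMate a t ω g := by
  classical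
  have := finite_points hS
  obtain ⟨ℓ, hℓ, hℓd⟩ := Nat.exists_prime_and_dvd
    (fun h => hW (Subgroup.card_eq_one.1 h) : Nat.card (wSub a t) ≠ 1)
  haveI := Fact.mk hℓ
  obtain ⟨w₀, hw₀⟩ := exists_prime_orderOf_dvd_card' ℓ hℓd
  have hw : (w₀ : G) ∈ wSub a t := w₀.2
  have hwℓ : orderOf (w₀ : G) = ℓ := by rw [Subgroup.orderOf_coe, hw₀]
  set w := (w₀ : G)
  set l := iota hS h2 hC hr hω hw with hl
  set m := l⁻¹ * w with hm
  have hw1 : w ≠ 1 := fun e => hℓ.ne_one (by rw [← hwℓ, e, orderOf_one])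
  have hmM : m ∈ mate a t ω := mate_elem hS h2 hC hr hω hw
  have hlf := iota_isFree hS h2 hC hr hω hw hw1
  have hm1 : m ≠ 1 := fun e => by
    have e' : l = w := inv_mul_eq_one.1 e
    exact hlf.free a (Or.inl rfl) (by rw [← hl, e']; exact (mem_twoStab hS (wSub_le hS h2 hw)).1)
  have hmfix := mate_fixed hS h2 hC hr hω hW hmM hm1
  -- three fixed points
  obtain ⟨hcyc, hcard⟩ := mateTorus_spec hS h2 hC hr hω hW
  obtain ⟨τ, hτ⟩ := hcyc.exists_generator
  have hτo : orderOf τ = qSize a t + 1 := by rw [orderOf_eq_card_of_forall_mem_zpowers hτ, hcard]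
  have h4 := four_le_qSize hS h2
  have hinj : ∀ σ σ' : G, σ ∈ mateTorus a t ω → σ' ∈ mateTorus a t ω → σ • ω = σ' • ω → σ = σ' := by
    intro σ σ' hσ hσ' h
    by_contra hne
    exact small_semiregular hS h2 hr (Subgroup.mem_inf.1 (mul_mem (inv_mem hσ') hσ)).1
      (fun e => hne (inv_mul_eq_one.1 e).symm) hω (by rw [mul_smul, h, inv_smul_smul])
  obtain ⟨g, hg⟩ := exists_conj_v hS (X := {m}) (b := ω) (c := (τ : G) • ω) (d := ((τ : G) ^ 2) • ω)
    (fun h => by
      have e := hinj 1 τ (one_mem _) τ.2 (by rwa [one_smul])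
      rw [← Subgroup.orderOf_coe, ← e, orderOf_one] at hτo
      omega)
    (fun h => by
      have e := hinj 1 ((τ : G) ^ 2) (one_mem _) (pow_mem τ.2 2) (by rwa [one_smul])
      rw [← Subgroup.orderOf_coe] at hτo
      have hd := Nat.le_of_dvd (by omega) (orderOf_dvd_of_pow_eq_one e.symm)
      omega)
    (fun h => by
      have e := hinj τ ((τ : G) ^ 2) τ.2 (pow_mem τ.2 2) h
      rw [pow_two] at e
      rw [← Subgroup.orderOf_coe, left_eq_mul.1 e, orderOf_one] at hτo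
      omega)
    (by
      rintro x rfl
      exact ⟨mem_stabilizer_iff.1 (Subgroup.mem_inf.1 hmM).1, (hmfix _).2 ⟨τ, τ.2, rfl⟩,
        (hmfix _).2 ⟨_, pow_mem τ.2 2, rfl⟩⟩)
  have hgm := hg m rfl
  by_cases hgmW : g * m * g⁻¹ ∈ wSub a t
  · exact ⟨g⁻¹, conjMate_of_elem hS h2 hC hr hω hW hmM hm1 hgmW⟩
  -- `v` fixes a point outside `Δ`
  obtain ⟨ω₀, hω₀, hvω₀⟩ : ∃ p, p ∉ orbitSet hS h2 ∧ (g * m * g⁻¹) • p = p := by
    by_contra hno
    push Not at hno
    refine hgmW (mem_wSub_of_fix_orbit hS h2 hC hr fun p hp => ?_)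
    let f : mateTorus a t ω → orbitSet hS h2 := fun σ => ⟨g • ((σ : G) • ω), by
      by_contra hout
      exact hno _ hout (by
        rw [mul_smul, mul_smul, inv_smul_smul, (hmfix _).2 ⟨σ, σ.2, rfl⟩])⟩
    have hf : Function.Bijective f := (Nat.bijective_iff_injective_and_card f).2
      ⟨fun σ σ' h => Subtype.ext (hinj _ _ σ.2 σ'.2 (MulAction.injective g (congrArg Subtype.val h))),
        by rw [hcard, card_orbitSet hS h2 hr]⟩
    obtain ⟨σ, hσ⟩ := hf.2 ⟨p, hp⟩
    have e : g • ((σ : G) • ω) = p := congrArg Subtype.val hσ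
    rw [← e, mul_smul, mul_smul, inv_smul_smul, (hmfix _).2 ⟨σ, σ.2, rfl⟩]
  have hmℓ : m ^ ℓ = 1 := by
    have hlw : l * w = w * l := (wSub_comm_small hS h2 hC hr hw hlf.mem).symm
    have hlℓ : orderOf l = ℓ := by
      have e := orderOf_injective (iotaHom hS h2 hC hr hω hW) (iotaHom_injective hS h2 hC hr hω hW) w₀
      rw [hw₀] at e
      exact e
    rw [hm, ((show Commute l w from hlw).inv_left).mul_pow, inv_pow, ← hlℓ, pow_orderOf_eq_one,
      hlℓ, ← hwℓ, pow_orderOf_eq_one, inv_one, one_mul]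
  obtain ⟨g₀, hg₀⟩ := exists_conjMate_of_v hS h2 hC hr hω₀ hW hℓ hgm hgmW
    (by rw [conj_pow, hmℓ]; group) hvω₀ hw hwℓ
  obtain ⟨y, hy, -⟩ := existsUnique_small hS h2 hC hr hω₀ hω
  exact ⟨(y : G) * g₀, hy ▸ conjMate_translate hS h2 hC hr hω₀ y.2 hg₀⟩

end Cfsg.Agent.RankOne
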