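import Cfsg.Agent.Lib.RankOneW.Mate

/-!
# The torus of a point outside the orbit

For `ω` outside `Δ` the centraliser of the mate in the small group is the torus containing all `iota w`.
It is regular on `Δ` and its orbit of `ω` consists of the points fixed by the mate.
-/

set_option autoImplicit false
set_option linter.unusedSectionVars false

namespace Cfsg.Agent.RankOne

open MulAction

variable {G Ω : Type*} [Group G] [MulAction G Ω] {a : Ω} {t : G} {Q : Subgroup G}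

/-- The centraliser of the mate at `ω` in the small group. -/
def mateTorus (a : Ω) (t : G) (ω : Ω) : Subgroup G :=
  smallGroup a t ⊓ Subgroup.centralizer (mate a t ω : Set G)

/-- `g` conjugates `W` onto the mate at `ω`. -/
def ConjMate (a : Ω) (t : G) (ω : Ω) (g : G) : Prop :=
  ∀ x : G, g * x * g⁻¹ ∈ mate a t ω ↔ x ∈ wSub a t

variable [Finite G] [FaithfulSMul G Ω] (hS : Cfsg.IsRankOneSetup G Ω a t Q)
  (h2 : ∃ x y : G, x ≠ 1 ∧ y ≠ 1 ∧ x ≠ y ∧ x * x = 1 ∧ y * y = 1 ∧ x * y = y * x)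
  (hC : IsCube a t Q) (hr : RInvol hS h2)

/-- The torus of each point outside `Δ` is moved into the product of the small group and `W` by the
elements conjugating `W` onto the mate. -/
def BetaTriv : Prop :=
  ∀ ω : Ω, ω ∉ orbitSet hS h2 → ∀ g : G, ConjMate a t ω g →
    ∀ τ ∈ mateTorus a t ω, g⁻¹ * τ * g ∈ smallGroup a t ⊔ wSub a t

variable {ω : Ω} (hω : ω ∉ orbitSet hS h2)
include hS h2 hC hr hω

theorem exists_mateTorus (hW : wSub a t ≠ ⊥) : ∃ h : G, IsFree hS h2 h ∧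
    mateTorus a t ω = torus a t h ∧
      ∀ {w : G} (hw : w ∈ wSub a t), iota hS h2 hC hr hω hw ∈ torus a t h := by
  obtain ⟨h, hhf, -, hT⟩ := exists_iota_torus hS h2 hC hr hω hW
  refine ⟨h, hhf, le_antisymm (fun y hy => ?_) fun y hy => ?_, hT⟩
  · obtain ⟨w, hw⟩ := Subgroup.ne_bot_iff_exists_ne_one.1 hW
    obtain ⟨hyL, hyc⟩ := Subgroup.mem_inf.1 hy
    have hw1 : (w : G) ≠ 1 := fun e => hw (Subtype.ext e)
    have hf := iota_isFree hS h2 hC hr hω w.2 hw1
    rw [← torus_eq_of_mem hS h2 hr hhf (hT w.2) hf.ne_one, mem_torus]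
    refine ⟨hyL, ?_⟩
    have h1 : Commute y ((iota hS h2 hC hr hω w.2)⁻¹ * w) :=
      ((Subgroup.mem_centralizer_iff.1 hyc) _ (mate_elem hS h2 hC hr hω w.2)).symm
    have h2' : Commute y (w : G) := (wSub_comm_small hS h2 hC hr w.2 hyL).symm
    have h3 := h1.mul_right h2'.inv_right
    rw [mul_inv_cancel_right] at h3
    exact (Commute.inv_right_iff.1 h3).eq
  · refine Subgroup.mem_inf.2 ⟨(mem_torus.1 hy).1, Subgroup.mem_centralizer_iff.2 fun m hm => ?_⟩
    obtain ⟨w, hw, rfl⟩ := (mem_mate hS h2 hC hr hω).1 hm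
    have h1 : Commute y (iota hS h2 hC hr hω hw) := torus_comm hS h2 hr hhf hy (hT hw)
    have h2' : Commute y w := (wSub_comm_small hS h2 hC hr hw (mem_torus.1 hy).1).symm
    exact (h1.inv_right.mul_right h2').symm.eq

theorem mateTorus_spec (hW : wSub a t ≠ ⊥) :
    IsCyclic (mateTorus a t ω : Subgroup G) ∧ Nat.card (mateTorus a t ω) = qSize a t + 1 := by
  obtain ⟨h, hhf, e, -⟩ := exists_mateTorus hS h2 hC hr hω hW
  rw [e]
  exact torus_spec hS h2 hr hhf

theorem mateTorus_isFree (hW : wSub a t ≠ ⊥) {τ : G} (hτ : τ ∈ mateTorus a t ω) (hτ1 : τ ≠ 1) :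
    IsFree hS h2 τ := by
  obtain ⟨h, hhf, e, -⟩ := exists_mateTorus hS h2 hC hr hω hW
  exact torus_isFree hS h2 hr hhf (e ▸ hτ) hτ1

theorem mateTorus_comm (hW : wSub a t ≠ ⊥) {σ τ : G} (hσ : σ ∈ mateTorus a t ω)
    (hτ : τ ∈ mateTorus a t ω) : σ * τ = τ * σ := by
  obtain ⟨h, hhf, e, -⟩ := exists_mateTorus hS h2 hC hr hω hW
  exact torus_comm hS h2 hr hhf (e ▸ hσ) (e ▸ hτ)

theorem iota_mem_mateTorus {w : G} (hw : w ∈ wSub a t) :
    iota hS h2 hC hr hω hw ∈ mateTorus a t ω := by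
  by_cases hW : wSub a t = ⊥
  · have e : w = 1 := Subgroup.mem_bot.1 (hW ▸ hw)
    subst e
    rw [← iota_eq hS h2 hC hr hω hw (one_mem (smallGroup a t)) rfl]
    exact one_mem _
  · obtain ⟨h, -, e, hT⟩ := exists_mateTorus hS h2 hC hr hω hW
    exact e.symm ▸ hT hw

/-- The torus is transitive on `Δ`. -/
theorem mateTorus_transitive (hW : wSub a t ≠ ⊥) {b c : Ω} (hb : b ∈ orbitSet hS h2)
    (hc : c ∈ orbitSet hS h2) : ∃ τ ∈ mateTorus a t ω, τ • b = c := by
  have := finite_points hS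
  let f : mateTorus a t ω → orbitSet hS h2 := fun τ =>
    ⟨(τ : G) • b, smul_orbitSet hS h2 hr (Subgroup.mem_inf.1 τ.2).1 hb⟩
  have hf : Function.Injective f := by
    intro σ τ h
    by_contra hne
    have h' : (σ : G) • b = (τ : G) • b := congrArg Subtype.val h
    refine (mateTorus_isFree hS h2 hC hr hω hW (mul_mem (inv_mem τ.2) σ.2)
      fun e => hne (Subtype.ext (inv_mul_eq_one.1 e).symm)).free b hb ?_
    rw [mul_smul, h', inv_smul_smul]
  have hcard : Nat.card (mateTorus a t ω) = Nat.card (orbitSet hS h2) := by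
    rw [(mateTorus_spec hS h2 hC hr hω hW).2, card_orbitSet hS h2 hr]
  obtain ⟨τ, hτ⟩ := ((Nat.bijective_iff_injective_and_card f).2 ⟨hf, hcard⟩).2 ⟨c, hc⟩
  exact ⟨τ, τ.2, congrArg Subtype.val hτ⟩

/-- The mate has the order of `W`. -/
theorem card_mate : Nat.card (mate a t ω) = Nat.card (wSub a t) := by
  refine (Nat.card_eq_of_bijective (fun w : wSub a t =>
    (⟨_, mate_elem hS h2 hC hr hω w.2⟩ : mate a t ω)) ⟨fun v w h => ?_, fun g => ?_⟩).symm
  · have h' : (iota hS h2 hC hr hω v.2)⁻¹ * v = (iota hS h2 hC hr hω w.2)⁻¹ * w := congrArg Subtype.val h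
    have h'' : (v : G) * (w : G)⁻¹ = iota hS h2 hC hr hω v.2 * (iota hS h2 hC hr hω w.2)⁻¹ := by
      calc (v : G) * (w : G)⁻¹
          = iota hS h2 hC hr hω v.2 * ((iota hS h2 hC hr hω v.2)⁻¹ * v) * (w : G)⁻¹ := by group
        _ = _ := by rw [h']; group
    have hmem : (v : G) * (w : G)⁻¹ ∈ twoStab a t := mul_mem (wSub_le hS h2 v.2)
      (inv_mem (wSub_le hS h2 w.2))
    have hL : (v : G) * (w : G)⁻¹ ∈ smallGroup a t := h'' ▸
      mul_mem (iota_mem hS h2 hC hr hω v.2) (inv_mem (iota_mem hS h2 hC hr hω w.2))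
    have hK := small_twoStab hS h2 hr hL hmem
    have hW : (v : G) * (w : G)⁻¹ ∈ wSub a t := mul_mem v.2 (inv_mem w.2)
    by_contra hne
    obtain ⟨s, s', hs, -⟩ := two_invol_fixing hS h2
    have h1 := eq_one_of_inverted_commute hS ((mem_invK hS h2).1 hK)
      ((mem_involutionsIn hS).1 hs).1 ((mem_involutionsIn hS).1 hs).2
      (((mem_wSub hS h2).1 hW).2 s (Or.inr hs))
    exact hne (Subtype.ext (mul_inv_eq_one.1 h1))
  · obtain ⟨w, hw, e⟩ := (mem_mate hS h2 hC hr hω).1 g.2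
    exact ⟨⟨w, hw⟩, Subtype.ext e.symm⟩

/-- The points of the torus orbit of `ω` have the same mate. -/
theorem mate_smul {τ : G} (hτ : τ ∈ mateTorus a t ω) : mate a t (τ • ω) = mate a t ω := by
  obtain ⟨hτL, hτc⟩ := Subgroup.mem_inf.1 hτ
  have hc : ∀ g ∈ mate a t ω, g * τ = τ * g := Subgroup.mem_centralizer_iff.1 hτc
  ext g
  constructor
  · intro hg
    obtain ⟨hgω, hgs⟩ := Subgroup.mem_inf.1 hg
    have hm : τ⁻¹ * g * τ ∈ mate a t ω := Subgroup.mem_inf.2
      ⟨by rw [mem_stabilizer_iff, mul_smul, mul_smul, mem_stabilizer_iff.1 hgω, inv_smul_smul],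
        mul_mem (mul_mem (inv_mem (Subgroup.mem_sup_left hτL)) hgs) (Subgroup.mem_sup_left hτL)⟩
    have e : g = τ⁻¹ * g * τ := by
      calc g = τ * (τ⁻¹ * g * τ) * τ⁻¹ := by group
        _ = (τ⁻¹ * g * τ) * τ * τ⁻¹ := by rw [hc _ hm]
        _ = _ := by group
    rwa [e]
  · intro hg
    obtain ⟨hgω, hgs⟩ := Subgroup.mem_inf.1 hg
    exact Subgroup.mem_inf.2 ⟨by
      rw [mem_stabilizer_iff, ← mul_smul, hc g hg, mul_smul, mem_stabilizer_iff.1 hgω], hgs⟩

theorem mateTorus_smul {τ : G} (hτ : τ ∈ mateTorus a t ω) :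
    mateTorus a t (τ • ω) = mateTorus a t ω := by
  rw [mateTorus, mateTorus, mate_smul hS h2 hC hr hω hτ]

/-- A non-identity element of the mate fixes exactly the torus orbit of `ω`. -/
theorem mate_fixed (hW : wSub a t ≠ ⊥) {g : G} (hg : g ∈ mate a t ω) (hg1 : g ≠ 1) (p : Ω) :
    g • p = p ↔ ∃ τ ∈ mateTorus a t ω, τ • ω = p := by
  obtain ⟨w, hw, rfl⟩ := (mem_mate hS h2 hC hr hω).1 hg
  obtain ⟨h, hhf, e, hT⟩ := exists_mateTorus hS h2 hC hr hω hW
  have hw1 : w ≠ 1 := fun e1 => hg1 (by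
    subst e1
    rw [← iota_eq hS h2 hC hr hω hw (one_mem (smallGroup a t)) rfl]
    group)
  rw [e]
  exact mate_fixed_iff hS h2 hC hr hω hhf hT hw hw1 p

end Cfsg.Agent.RankOne
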