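import Cfsg.Agent.Lib.RankOneW.Basic

/-!
# The two-point stabiliser when `W = 1`
-/

set_option autoImplicit false
set_option linter.unusedSectionVars false

namespace Cfsg.Agent.RankOne

open MulAction

variable {G Ω : Type*} [Group G] [MulAction G Ω] {a : Ω} {t : G} {Q : Subgroup G}

/-- The centraliser of `t` in the two-point stabiliser. -/
abbrev vSub (a : Ω) (t : G) : Subgroup G := twoStab a t ⊓ Subgroup.centralizer {t}

variable [Finite G] (hS : Cfsg.IsRankOneSetup G Ω a t Q)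
  (h2 : ∃ x y : G, x ≠ 1 ∧ y ≠ 1 ∧ x ≠ y ∧ x * x = 1 ∧ y * y = 1 ∧ x * y = y * x)
include hS

theorem vSub_twoStab {y : G} (hy : y ∈ vSub a t) : y ∈ twoStab a t := (Subgroup.mem_inf.1 hy).1

theorem vSub_comm_t {y : G} (hy : y ∈ vSub a t) : y * t = t * y :=
  Subgroup.mem_centralizer_singleton_iff.1 (Subgroup.mem_inf.1 hy).2

theorem vSub_conj_t {y : G} (hy : y ∈ vSub a t) : t * y * t⁻¹ = y :=
  mem_centralizer_iff_conj.1 (Subgroup.mem_inf.1 hy).2

theorem eq_one_of_sq_odd {z : G} (hz : z ∈ twoStab a t) (h : z * z = 1) : z = 1 :=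
  sq_inj (odd_orderOf hS.odd_card hz) (odd_orderOf hS.odd_card (one_mem _)) (by rw [h, one_mul])

include h2

theorem invK_comm {k l : G} (hk : k ∈ invK a t) (hl : l ∈ invK a t) : k * l = l * k := by
  obtain ⟨k₀, -, hgen, -, -⟩ := exists_generator hS h2
  obtain ⟨i, rfl⟩ := (hgen k).1 ((mem_invK hS h2).1 hk)
  obtain ⟨j, rfl⟩ := (hgen l).1 ((mem_invK hS h2).1 hl)
  exact ((Commute.refl k₀).zpow_zpow i j).eq

theorem card_invK_eq : Nat.card (invK a t) = Nat.card (Cfsg.invertedBy (twoStab a t) t) :=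
  Nat.card_congr (Equiv.subtypeEquivRight fun _ => mem_invK hS h2)

theorem invK_inf_vSub {y : G} (hk : y ∈ invK a t) (hy : y ∈ vSub a t) : y = 1 := by
  have h := ((mem_invK hS h2).1 hk).2
  rw [vSub_conj_t hS hy] at h
  exact eq_one_of_sq_odd hS (vSub_twoStab hS hy) (by nth_rewrite 2 [h]; exact mul_inv_cancel y)

theorem exists_ky {d : G} (hd : d ∈ twoStab a t) : ∃ k ∈ invK a t, ∃ y ∈ vSub a t, d = k * y := by
  obtain ⟨y, z, hy, hyf, hz, rfl⟩ :=
    exists_decomp hS.mul_self hS.odd_card (fun x hx => conj_twoStab hS hx) hd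
  exact ⟨y * z * y⁻¹, conj_mem_invK hS h2 hy (Subgroup.subset_closure hz), y,
    Subgroup.mem_inf.2 ⟨hy, mem_centralizer_iff_conj.2 hyf⟩, by group⟩

/-- `V` fixes the involution of the structure equation. -/
theorem exists_vSub_invol : ∃ s ∈ Cfsg.involutionsIn (stabilizer G a : Set G),
    (∀ y ∈ vSub a t, y * s * y⁻¹ = s) ∧ ∀ d ∈ twoStab a t, d * s * d⁻¹ = s → d ∈ vSub a t := by
  obtain ⟨⟨s, r⟩, ⟨hs, hr, heq⟩, -⟩ := structure_equation hS
  have e := centralizer_t_eq hS hs hr heq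
  refine ⟨s, hs, fun y hy => ?_, fun d hd h => ?_⟩
  · have h := Subgroup.mem_centralizer_singleton_iff.1 (Subgroup.mem_inf.1 (e ▸ hy :
      y ∈ twoStab a t ⊓ Subgroup.centralizer {s})).2
    rw [h, mul_inv_cancel_right]
  · show d ∈ twoStab a t ⊓ Subgroup.centralizer {t}
    rw [e]
    exact Subgroup.mem_inf.2 ⟨hd, Subgroup.mem_centralizer_singleton_iff.2 (mul_inv_eq_iff_eq_mul.1 h)⟩

variable (hW : wSub a t = ⊥)
include hW

theorem eq_one_of_cent_invol {d : G} (hd : d ∈ twoStab a t)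
    (h : ∀ z ∈ invSub hS h2, d * z * d⁻¹ = z) : d = 1 := by
  have hmem : d ∈ wSub a t :=
    (mem_wSub hS h2).2 ⟨hd, fun z hz => mul_inv_eq_iff_eq_mul.1 (h z hz)⟩
  rwa [hW, Subgroup.mem_bot] at hmem

theorem vSub_cyclic : ∃ v ∈ vSub a t, vSub a t = Subgroup.zpowers v := by
  obtain ⟨k₀, -, -, -, v, hv, hgen⟩ := exists_generator hS h2
  refine ⟨v, hv, ?_⟩
  have hbot : twoStab a t ⊓ Subgroup.centralizer {t} ⊓
      Subgroup.centralizer (Cfsg.invertedBy (twoStab a t) t) = ⊥ := by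
    rw [centralizer_inverted_eq hS]; exact hW
  rw [hbot, bot_sup_eq, ← Subgroup.zpowers_eq_closure] at hgen
  exact hgen.symm

theorem vSub_comm {x y : G} (hx : x ∈ vSub a t) (hy : y ∈ vSub a t) : x * y = y * x := by
  obtain ⟨v, -, hv⟩ := vSub_cyclic hS h2 hW
  rw [hv] at hx hy
  obtain ⟨i, rfl⟩ := hx
  obtain ⟨j, rfl⟩ := hy
  exact ((Commute.refl v).zpow_zpow i j).eq

end Cfsg.Agent.RankOne
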