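import Cfsg.Agent.Lib.RankOneW.NoTrivFixed
import Cfsg.Agent.Lib.RankOne.FixSetup
import Mathlib.GroupTheory.Sylow
import Mathlib.GroupTheory.IndexNormal

/-!
# `W = 1`: the case `q₀ = 2`

Here `q = 8`, `|V| = 3` and `|G| = 2 ^ 9 * 3 ^ 4 * 7 * 19`.  The normaliser of the normal subgroup `A` of
order `27` of `C(v)` would move `v` in an orbit of length `9`, `17` or `25`, none of which is possible.
-/

set_option autoImplicit false
set_option linter.unusedSectionVars false
set_option linter.style.haveILetI false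
set_option maxRecDepth 4000

namespace Cfsg.Agent.RankOne

open MulAction

universe u v

variable {G : Type u} {Ω : Type v} [Group G] [MulAction G Ω] {a : Ω} {t : G} {Q : Subgroup G}
variable [Finite G] (hS : Cfsg.IsRankOneSetup G Ω a t Q)

/-- The centraliser of `v` acts on its fixed points with a normal subgroup `A` of order `27` above `⟨v⟩`
whose other elements fix no fixed point of `v`. -/
structure EightCore (a : Ω) (v : G) (A : Subgroup G) : Prop where
  le : A ≤ Subgroup.centralizer {v}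
  normal : ∀ g ∈ Subgroup.centralizer ({v} : Set G), ∀ x ∈ A, g * x * g⁻¹ ∈ A
  card : Nat.card A = 27
  mem : v ∈ A
  moves : ∀ x ∈ A, x ∉ Subgroup.zpowers v → x • a ≠ a

include hS

/-- A group of order 72 acting on nine points with all two-point stabilisers trivial has a normal subgroup of
order nine without fixed points. -/
theorem exists_regular_nine {H' Ω' : Type*} [Group H'] [Finite H'] [MulAction H' Ω'] {a' : Ω'} {t' : H'}
    {Q' : Subgroup H'} (hS' : Cfsg.IsRankOneSetup H' Ω' a' t' Q') (hQ : Nat.card Q' = 8)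
    (hD : twoStab a' t' = ⊥) :
    ∃ A : Subgroup H', A.Normal ∧ Nat.card A = 9 ∧ ∀ x ∈ A, x ≠ 1 → x • a' ≠ a' := by
  classical
  haveI := Fact.mk Nat.prime_three
  haveI := pretransitive hS'
  haveI := finite_points hS'
  have hH : Nat.card H' = 72 := by rw [card_group hS', hQ, hD, Subgroup.card_bot]
  have hΩ : Nat.card Ω' = 9 := by rw [card_points hS', hQ]
  have hstab : ∀ x, x • a' = a' → x ∈ Q' := fun x hx => by
    obtain ⟨q, hq, d, hd, rfl⟩ := exists_qd hS' (g := x) hx
    rw [hD, Subgroup.mem_bot] at hd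
    rw [hd, mul_one]
    exact hq
  choose gc hgc using fun c : Ω' => MulAction.exists_smul_eq H' a' c
  let F : Set H' := {x | ∀ c : Ω', x • c ≠ c}
  let S : Set H' := {q | q ∈ Q' ∧ q ≠ 1}
  let f : Ω' × S → H' := fun p => gc p.1 * p.2 * (gc p.1)⁻¹
  have hfix : ∀ p, f p • p.1 = p.1 := fun p => by
    show (gc p.1 * p.2 * (gc p.1)⁻¹) • p.1 = p.1
    rw [mul_smul, mul_smul, inv_smul_eq_iff.2 (hgc p.1).symm, smul_a hS' p.2.2.1, hgc]
  have hne : ∀ p, f p ≠ 1 := fun p h => p.2.2.2 (conj_eq_one_iff.1 h)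
  have hf : Function.Injective f := by
    intro p p' e
    have hc : p.1 = p'.1 := by
      by_contra hne'
      have h1 : ((gc p.1)⁻¹ * f p * gc p.1 : H') = p.2 := by simp [f, mul_assoc]
      have h2 : (p.2 : H') • ((gc p.1)⁻¹ • p'.1) = (gc p.1)⁻¹ • p'.1 := by
        rw [← h1, mul_smul, mul_smul, smul_inv_smul, e, hfix]
      refine hne' ?_
      have := eq_a_of_fixed hS' p.2.2.1 p.2.2.2 h2
      rw [inv_smul_eq_iff, hgc] at this
      exact this.symm
    refine Prod.ext hc (Subtype.ext ?_)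
    have e' : gc p.1 * p.2 * (gc p.1)⁻¹ = gc p.1 * p'.2 * (gc p.1)⁻¹ := by
      have e0 : gc p.1 * p.2 * (gc p.1)⁻¹ = gc p'.1 * p'.2 * (gc p'.1)⁻¹ := e
      rw [← hc] at e0
      exact e0
    exact mul_left_cancel (mul_right_cancel e')
  have hScard : Nat.card S + 1 = 8 := by
    rw [← hQ, show S = (Q' : Set H') \ {1} from rfl, Nat.card_coe_set_eq,
      Set.ncard_sdiff_singleton_add_one (one_mem Q') (Set.toFinite _), ← Nat.card_coe_set_eq]
    rfl
  have hF : F.ncard ≤ 8 := by
    have hdisj : Disjoint (Set.range f) (F ∪ {1}) := Set.disjoint_left.2 fun x hx hx' => by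
      obtain ⟨p, rfl⟩ := hx
      rcases hx' with hx' | hx'
      · exact hx' p.1 (hfix p)
      · exact hne p hx'
    have h1 := Set.ncard_union_eq hdisj (Set.toFinite _) (Set.toFinite _)
    have h2 : (Set.range f).ncard = 63 := by
      rw [← Nat.card_coe_set_eq, Nat.card_range_of_injective hf, Nat.card_prod, hΩ,
        show Nat.card S = 7 by omega]
    have hnot : (1 : H') ∉ F := fun h => h a' (one_smul _ _)
    have h3 : (F ∪ {1}).ncard = F.ncard + 1 := by
      rw [Set.union_singleton, Set.ncard_insert_of_notMem hnot (Set.toFinite _)]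
    have h4 := Set.ncard_le_ncard (Set.subset_univ (Set.range f ∪ (F ∪ {1}))) (Set.toFinite _)
    rw [Set.ncard_univ, hH] at h4
    omega
  have hP : ∀ P : Sylow 3 H', Nat.card P = 9 := fun P => by
    rw [P.card_eq_multiplicity, hH, show (72 : ℕ) = 3 ^ 2 * 8 by norm_num,
      Nat.factorization_mul (by norm_num) (by norm_num), Finsupp.add_apply,
      Nat.Prime.factorization_pow Nat.prime_three, Finsupp.single_eq_same,
      Nat.factorization_eq_zero_of_not_dvd (show ¬ 3 ∣ 8 by norm_num)]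
    norm_num
  have hfpf : ∀ P : Sylow 3 H', ∀ x ∈ P, x ≠ 1 → x ∈ F := fun P x hx hx1 c hc => by
    set y := (gc c)⁻¹ * x * gc c with hy
    have hyQ : y ∈ Q' := hstab y (by rw [hy, mul_smul, mul_smul, hgc, hc, inv_smul_eq_iff, hgc])
    have h8 : orderOf (⟨y, hyQ⟩ : Q') ∣ 8 := hQ ▸ orderOf_dvd_natCard _
    have h9 : orderOf (⟨x, hx⟩ : (P : Subgroup H')) ∣ 9 := hP P ▸ orderOf_dvd_natCard _
    rw [Subgroup.orderOf_mk] at h8 h9
    have hyx : orderOf y = orderOf x := by
      have := MulEquiv.orderOf_eq (MulAut.conj (gc c)⁻¹) x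
      rwa [MulAut.conj_apply, inv_inv] at this
    rw [hyx] at h8
    exact hx1 (orderOf_eq_one_iff.1 (Nat.eq_one_of_dvd_coprimes (by norm_num : Nat.Coprime 8 9) h8 h9))
  obtain ⟨P⟩ : Nonempty (Sylow 3 H') := inferInstance
  have hPeq : ∀ R : Sylow 3 H', ∀ x, x ∈ R ↔ x = 1 ∨ x ∈ F := by
    intro R
    have h1 : ((R : Subgroup H') : Set H') \ {1} = F := by
      refine Set.eq_of_subset_of_ncard_le (fun x hx => hfpf R x hx.1 hx.2) ?_ (Set.toFinite _)
      have := Set.ncard_sdiff_singleton_add_one (one_mem (R : Subgroup H')) (Set.toFinite _)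
      rw [← Nat.card_coe_set_eq ((R : Subgroup H') : Set H')] at this
      have h9 : Nat.card ((R : Subgroup H') : Set H') = 9 := hP R
      omega
    intro x
    rw [← h1]
    constructor
    · intro hx
      by_cases h : x = 1
      · exact Or.inl h
      · exact Or.inr ⟨hx, h⟩
    · rintro (rfl | ⟨hx, -⟩)
      · exact one_mem (R : Subgroup H')
      · exact hx
  refine ⟨P, ⟨fun x hx g => ?_⟩, hP P, fun x hx hx1 => hfpf P x hx hx1 a'⟩
  have h := (hPeq (g⁻¹ • P) x).2 ((hPeq P x).1 hx)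
  have h' : x ∈ (P : Subgroup H').map (MulAut.conj g⁻¹).toMonoidHom := h
  obtain ⟨z, hz, e⟩ := h'
  have e' : g⁻¹ * z * g = x := by rw [← e]; simp
  rw [← e', show g * (g⁻¹ * z * g) * g⁻¹ = z by group]
  exact hz

variable (h2 : ∃ x y : G, x ≠ 1 ∧ y ≠ 1 ∧ x ≠ y ∧ x * x = 1 ∧ y * y = 1 ∧ x * y = y * x)
  (hC : IsCube a t Q) (hW : wSub a t = ⊥)
include h2 hC hW

/-- **The case `q₀ = 2` is impossible.** -/
theorem eight_false [FaithfulSMul G Ω] {v : G} {p : ℕ} (hv : VElt a t v p)
    (hq0 : Nat.card ↥(Subgroup.centralizer ({v} : Set G) ⊓ invSub hS h2) = 2) : False := by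
  classical
  haveI := Fact.mk Nat.prime_three
  obtain ⟨-, hq, hdvd, hCQ, hlast⟩ := fixed_data hS h2 hC hW hv
  rw [hq0] at hq hdvd hCQ
  have hp : p = 3 := by
    have h3 := three_le_prime hS h2 hC hW hv
    exact (Nat.prime_dvd_prime_iff_eq hv.prime Nat.prime_three).1
      (hv.prime.dvd_of_dvd_pow (show p ∣ 3 ^ 2 by norm_num at hdvd ⊢; exact hdvd))
  subst hp
  rw [show (2 : ℕ) ^ 3 = 8 by norm_num] at hq hCQ
  obtain ⟨s, hs, hVs, -⟩ := exists_vSub_invol hS h2
  obtain ⟨hsi, hsa⟩ := (mem_involutionsIn hS).1 hs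
  have hvD := vSub_twoStab hS hv.mem
  have hvs : v * s = s * v := mul_inv_eq_iff_eq_mul.1 (hVs v hv.mem)
  have hscZ : s ∈ Subgroup.centralizer ({v} : Set G) ⊓ invSub hS h2 :=
    Subgroup.mem_inf.2 ⟨Subgroup.mem_centralizer_singleton_iff.2 hvs.symm, Or.inr hs⟩
  have hcZ : ∀ z ∈ Subgroup.centralizer ({v} : Set G) ⊓ invSub hS h2, z = 1 ∨ z = s := by
    intro z hz
    by_contra h
    push Not at h
    have h1 : ({1, s, z} : Set G).ncard = 3 :=
      Set.ncard_eq_three.2 ⟨1, s, z, Ne.symm hsi.1, Ne.symm h.1, Ne.symm h.2, rfl⟩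
    have h2' := Set.ncard_le_ncard
      (t := ((Subgroup.centralizer ({v} : Set G) ⊓ invSub hS h2 : Subgroup G) : Set G))
      (Set.insert_subset (one_mem _) (Set.insert_subset hscZ (Set.singleton_subset_iff.2 hz))) (Set.toFinite _)
    rw [h1, ← Nat.card_coe_set_eq] at h2'
    have : Nat.card ((Subgroup.centralizer ({v} : Set G) ⊓ invSub hS h2 : Subgroup G) : Set G) = 2 := hq0
    omega
  -- the elements of `D` centralising `v`
  have hD : ∀ d ∈ twoStab a t, d * v = v * d → d ∈ Subgroup.zpowers v := by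
    intro d hd hdv
    refine hlast d hd fun z hz => ?_
    rcases hcZ z hz with h | h <;> subst z
    · rw [mul_one, one_mul]
    · have hm : d * s * d⁻¹ ∈ Subgroup.centralizer ({v} : Set G) ⊓ invSub hS h2 := by
        refine Subgroup.mem_inf.2 ⟨?_, conj_mem_invSub hS h2 hd (Or.inr hs)⟩
        have hdc : d ∈ Subgroup.centralizer ({v} : Set G) := Subgroup.mem_centralizer_singleton_iff.2 hdv
        exact mul_mem (mul_mem hdc (Subgroup.mem_inf.1 hscZ).1) (inv_mem hdc)
      rcases hcZ _ hm with h | h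
      · exact absurd (conj_eq_one_iff.1 h) hsi.1
      · exact mul_inv_eq_iff_eq_mul.1 h
  have hV : vSub a t = Subgroup.zpowers v := le_antisymm
    (fun y hy => hD y (vSub_twoStab hS hy) (vSub_comm hS h2 hW hy hv.mem)) (Subgroup.zpowers_le.2 hv.mem)
  have hG : Nat.card G = 5515776 := by
    have hd := card_decomp hS.mul_self (twoStab a t) hS.odd_card (fun x hx => conj_twoStab hS hx)
    rw [show Nat.card ↥(twoStab a t ⊓ Subgroup.centralizer {t}) = 3 by
      rw [show twoStab a t ⊓ Subgroup.centralizer {t} = Subgroup.zpowers v from hV, Nat.card_zpowers, hv.order],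
      show Nat.card (Cfsg.invertedBy (twoStab a t) t) = 7 by
        have := hq
        rw [qSize] at this
        omega] at hd
    rw [card_group hS, hd, hC.card_eq, hq]
    norm_num
  -- the set-up on the fixed points
  have hX : ({v} : Set G) ⊆ (twoStab a t : Set G) := Set.singleton_subset_iff.2 hvD
  have htv : t ∈ Subgroup.centralizer ({v} : Set G) :=
    Subgroup.mem_centralizer_singleton_iff.2 (vSub_comm_t hS hv.mem).symm
  have h3 := fix_three_of_centralized hS hvD (invSub_le_Q hS h2 (Or.inr hs)) hsi.1 hvs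
  have hS' := fix_setup hS hX htv h3
  haveI := fix_finite hS hX
  have hkerv : ∀ x ∈ Subgroup.zpowers v, ∀ c : FixPts Ω ({v} : Set G), x • c.1 = c.1 := fun x hx c =>
    Subgroup.zpowers_le.2 (show v ∈ stabilizer G c.1 from c.2 v rfl) hx
  have hker : ∀ g : Subgroup.centralizer ({v} : Set G),
      fixElt Ω ({v} : Set G) g = 1 ↔ (g : G) ∈ Subgroup.zpowers v := by
    refine fun g => ⟨fun h => hD g ?_ (Subgroup.mem_centralizer_singleton_iff.1 g.2), fun h =>
      fixElt_eq_one.2 (hkerv g h)⟩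
    exact (fix_twoStab hS hX htv (g := g)).1 (by rw [h]; exact one_mem _)
  have hD' : twoStab (fixBase hS hX) (fixElt Ω ({v} : Set G) ⟨t, htv⟩) = ⊥ := by
    refine (Subgroup.eq_bot_iff_forall _).2 fun y hy => ?_
    obtain ⟨g, rfl⟩ := fixElt_surjective _ y
    exact (hker g).2 (hD g ((fix_twoStab hS hX htv).1 hy) (Subgroup.mem_centralizer_singleton_iff.1 g.2))
  have hQ' : Nat.card (fixQ Ω ({v} : Set G) Q) = 8 := by rw [card_fixQ hS hX, hCQ]
  obtain ⟨A', hA'n, hA'c, hA'f⟩ := exists_regular_nine hS hS' hQ' hD'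
  set Cv := Subgroup.centralizer ({v} : Set G) with hCv
  set π := fixElt Ω ({v} : Set G) with hπ
  have hkercard : Nat.card π.ker = 3 := by
    rw [← hv.order, ← Nat.card_zpowers]
    refine Nat.card_congr
      { toFun := fun x => ⟨(x.1 : G), (hker x.1).1 x.2⟩
        invFun := fun x => ⟨⟨x.1, Subgroup.zpowers_le.2 (Subgroup.mem_centralizer_singleton_iff.2 rfl) x.2⟩,
          (hker _).2 x.2⟩
        left_inv := fun x => rfl
        right_inv := fun x => rfl }
  have hCcard : Nat.card Cv = 216 := by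
    rw [← Subgroup.card_mul_index π.ker, hkercard, Subgroup.index_ker,
      MonoidHom.range_eq_top.2 (fixElt_surjective _), Subgroup.card_top, card_group hS', hQ', hD',
      Subgroup.card_bot]
  have hA0 : Nat.card (A'.comap π) = 27 := by
    have h1 := Subgroup.card_mul_index (A'.comap π)
    have h2' := Subgroup.card_mul_index A'
    rw [Subgroup.index_comap_of_surjective A' (fixElt_surjective _), hCcard] at h1
    rw [hA'c, show Nat.card (fixGroup Ω ({v} : Set G)) = 72 by
      rw [card_group hS', hQ', hD', Subgroup.card_bot]] at h2'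
    rw [show A'.index = 8 by omega] at h1
    omega
  set A := (A'.comap π).map Cv.subtype with hA
  have E : EightCore a v A := by
    refine ⟨Subgroup.map_subtype_le _, ?_, ?_, ?_, ?_⟩
    · rintro g hg _ ⟨x, hx, rfl⟩
      exact ⟨⟨g, hg⟩ * x * ⟨g, hg⟩⁻¹, by
        show π _ ∈ A'
        rw [map_mul, map_mul, map_inv]
        exact hA'n.conj_mem _ hx _, rfl⟩
    · rw [hA, Subgroup.card_map_of_injective Cv.subtype_injective, hA0]
    · exact ⟨⟨v, Subgroup.mem_centralizer_singleton_iff.2 rfl⟩,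
        by show π _ ∈ A'; rw [(hker _).2 (Subgroup.mem_zpowers v)]; exact one_mem _, rfl⟩
    · rintro _ ⟨x, hx, rfl⟩ hxv h
      exact hA'f _ hx (fun h1 => hxv ((hker x).1 h1)) (Subtype.ext h)
  clear_value A
  -- an element moving `v` and normalising `A`
  obtain ⟨P, hP⟩ := (IsPGroup.of_card (p := 3) (n := 3) (G := A) E.card).exists_le_sylow
  have hP81 : Nat.card P = 81 := by
    rw [P.card_eq_multiplicity, hG, show (5515776 : ℕ) = 3 ^ 4 * 68096 by norm_num,
      Nat.factorization_mul (by norm_num) (by norm_num), Finsupp.add_apply,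
      Nat.Prime.factorization_pow Nat.prime_three, Finsupp.single_eq_same,
      Nat.factorization_eq_zero_of_not_dvd (show ¬ 3 ∣ 68096 by norm_num)]
    norm_num
  haveI hAn : (A.subgroupOf (P : Subgroup G)).Normal := by
    refine Subgroup.normal_of_index_eq_minFac_card ?_
    have h1 := Subgroup.card_mul_index (A.subgroupOf (P : Subgroup G))
    rw [Nat.card_congr (Subgroup.subgroupOfEquivOfLe hP).toEquiv, E.card] at h1
    rw [hP81] at h1 ⊢
    rw [show Nat.minFac 81 = 3 by norm_num]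
    omega
  set N := Subgroup.normalizer (A : Set G) with hN
  have hCN : Cv ≤ N := fun g hg => Subgroup.mem_normalizer_iff.2 fun x => ⟨fun hx => E.normal g hg x hx,
    fun hx => by
      have := E.normal g⁻¹ (inv_mem hg) _ hx
      simpa [mul_assoc] using this⟩
  obtain ⟨g₀, hg₀N, hg₀⟩ : ∃ g ∈ N, g * v * g⁻¹ ≠ v := by
    by_contra hno
    push Not at hno
    have hPC : (P : Subgroup G) ≤ Cv := by
      intro g hg
      refine Subgroup.mem_centralizer_singleton_iff.2 (mul_inv_eq_iff_eq_mul.1 (hno g ?_))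
      refine Subgroup.mem_normalizer_iff.2 fun x => ⟨fun hx => ?_, fun hx => ?_⟩
      · exact hAn.conj_mem ⟨x, hP hx⟩ hx ⟨g, hg⟩
      · have h := hAn.conj_mem ⟨g * x * g⁻¹, hP hx⟩ hx ⟨g, hg⟩⁻¹
        have h' : g⁻¹ * (g * x * g⁻¹) * g⁻¹⁻¹ ∈ A := h
        simpa [mul_assoc] using h'
    have := Subgroup.card_dvd_of_le hPC
    rw [hCcard] at this
    change Nat.card P ∣ 216 at this
    rw [hP81] at this
    norm_num at this
  -- the orbit of `v`
  letI := NoTriv.conjOn N (A : Set G) (fun g hg x hx => (Subgroup.mem_normalizer_iff.1 hg x).1 hx)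
  set v' : (A : Set G) := ⟨v, E.mem⟩ with hv'
  have hstab : Nat.card (stabilizer N v') = 216 := by
    rw [← hCcard]
    exact Nat.card_congr
      { toFun := fun g => ⟨(g.1 : G), Subgroup.mem_centralizer_singleton_iff.2
          (mul_inv_eq_iff_eq_mul.1 (congrArg Subtype.val g.2))⟩
        invFun := fun g => ⟨⟨g.1, hCN g.2⟩, Subtype.ext (mul_inv_eq_iff_eq_mul.2
          (Subgroup.mem_centralizer_singleton_iff.1 g.2))⟩
        left_inv := fun g => rfl
        right_inv := fun g => rfl }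
  set O : Set G := {x | ∃ g ∈ N, g * v * g⁻¹ = x} with hO
  have hOA : O ⊆ (A : Set G) := by
    rintro _ ⟨g, hg, rfl⟩
    exact (Subgroup.mem_normalizer_iff.1 hg v).1 E.mem
  have horb : Nat.card (orbit N v') = O.ncard := by
    rw [← Nat.card_coe_set_eq]
    exact Nat.card_congr
      { toFun := fun x => ⟨(x.1 : G), by
          obtain ⟨g, hg⟩ := x.2
          exact ⟨g, g.2, congrArg Subtype.val hg⟩⟩
        invFun := fun x => ⟨⟨x.1, hOA x.2⟩, by
          obtain ⟨g, hg, e⟩ := x.2
          exact ⟨⟨g, hg⟩, Subtype.ext e⟩⟩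
        left_inv := fun x => rfl
        right_inv := fun x => rfl }
  have hOdvd : O.ncard * 216 ∣ 5515776 := by
    rw [← horb, ← hstab, ← Nat.card_prod,
      Nat.card_congr (MulAction.orbitProdStabilizerEquivGroup N v'), ← hG]
    exact Subgroup.card_subgroup_dvd_card N
  have hvO : v ∈ O := ⟨1, one_mem _, by group⟩
  have hOv : ∀ x ∈ O, x ≠ v → x ∉ Subgroup.zpowers v := by
    rintro _ ⟨g, -, rfl⟩ hne hmem
    rw [← hV] at hmem
    obtain ⟨w, hw, e⟩ := conj_in_centralizer hS (X := {v}) (Set.singleton_subset_iff.2 hv.mem) g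
      (by rw [Set.image_singleton]; exact Set.singleton_subset_iff.2 hmem)
    rw [Set.image_singleton, Set.image_singleton, Set.singleton_eq_singleton_iff,
      vSub_comm hS h2 hW hw hv.mem, mul_inv_cancel_right] at e
    exact hne e.symm
  set T := O \ {v} with hT
  have hT1 : T.ncard + 1 = O.ncard := Set.ncard_sdiff_singleton_add_one hvO (Set.toFinite _)
  have hTne : T.Nonempty := ⟨_, ⟨g₀, hg₀N, rfl⟩, hg₀⟩
  have hTle : T.ncard ≤ 24 := by
    have hsub : T ⊆ (A : Set G) \ (Subgroup.zpowers v : Set G) := fun x hx =>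
      ⟨hOA hx.1, hOv x hx.1 hx.2⟩
    refine (Set.ncard_le_ncard hsub (Set.toFinite _)).trans ?_
    rw [Set.ncard_sdiff (show (Subgroup.zpowers v : Set G) ⊆ A from fun x hx => Subgroup.zpowers_le.2 E.mem hx)
      (Set.toFinite _), ← Nat.card_coe_set_eq, ← Nat.card_coe_set_eq]
    have e1 : Nat.card (A : Set G) = 27 := E.card
    have e2 : Nat.card (Subgroup.zpowers v : Set G) = 3 := (Nat.card_zpowers v).trans hv.order
    omega
  have hdvd8 : 8 ∣ T.ncard := by
    have h := NoTriv.card_dvd_of_free (A := Cv ⊓ Q) (S := T) (fun g hg x hx => by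
        obtain ⟨hgC, -⟩ := Subgroup.mem_inf.1 hg
        obtain ⟨⟨h, hh, rfl⟩, hne⟩ := hx
        refine ⟨⟨g * h, mul_mem (hCN hgC) hh, by group⟩, fun e => hne ?_⟩
        have hgv : g⁻¹ * v * g = v := by
          rw [mul_assoc, ← Subgroup.mem_centralizer_singleton_iff.1 hgC, inv_mul_cancel_left]
        have e' : g * (h * v * h⁻¹) * g⁻¹ = v := e
        show h * v * h⁻¹ ∈ ({v} : Set G)
        rw [show h * v * h⁻¹ = g⁻¹ * (g * (h * v * h⁻¹) * g⁻¹) * g by group, e']
        exact hgv)
      (fun g hg x hx hfix => by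
        by_contra hne
        refine E.moves x (hOA hx.1) (hOv x hx.1 hx.2) (eq_a_of_fixed hS (Subgroup.mem_inf.1 hg).2 hne ?_)
        rw [← mul_smul, mul_inv_eq_iff_eq_mul.1 hfix, mul_smul, smul_a hS (Subgroup.mem_inf.1 hg).2])
    rw [hCQ, Nat.card_coe_set_eq] at h
    exact h
  have hpos : 0 < T.ncard := (Set.ncard_pos (Set.toFinite _)).2 hTne
  obtain ⟨k, hk⟩ := hdvd8
  rcases (show k = 1 ∨ k = 2 ∨ k = 3 by omega) with rfl | rfl | rfl <;>
  · rw [← hT1, hk] at hOdvd
    norm_num at hOdvd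

end Cfsg.Agent.RankOne
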