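import Cfsg.Agent.Lib.Suzuki2.Free
import Mathlib.GroupTheory.PGroup
import Mathlib.FieldTheory.Fixed
import Mathlib.GroupTheory.GroupAction.Quotient

/-!
# Counting tools for the case `W = 1`

Fixed points of a `p`-group on an invariant set, free actions by conjugation, the number of fixed points of
a group of semilinear automorphisms, the fixed points of a complement in a semiregular situation, and the
bound `|M| ≤ |Z| ^ 3` for a group all of whose involutions lie in the elementary abelian central `Z` with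
squares in `Z`.
-/

set_option autoImplicit false
set_option linter.unusedSectionVars false

namespace Cfsg.Agent.RankOne.NoTriv

universe u

section conj

variable {G : Type u} [Group G] [Finite G]

/-- Conjugation on an invariant set. -/
@[reducible] def conjOn (A : Subgroup G) (S : Set G) (hS : ∀ g ∈ A, ∀ x ∈ S, g * x * g⁻¹ ∈ S) :
    MulAction A S where
  smul g x := ⟨(g : G) * x * (g : G)⁻¹, hS g g.2 x x.2⟩
  one_smul x := Subtype.ext (show (1 : G) * x * (1 : G)⁻¹ = x by group)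
  mul_smul g h x := Subtype.ext
    (show (g * h : G) * x * (g * h : G)⁻¹ = g * (h * x * (h : G)⁻¹) * (g : G)⁻¹ by group)

theorem card_fixed_modEq {p : ℕ} [Fact p.Prime] {A : Subgroup G} (hA : IsPGroup p A) {S : Set G}
    (hS : ∀ g ∈ A, ∀ x ∈ S, g * x * g⁻¹ ∈ S) :
    Nat.card S ≡ Nat.card {x : G | x ∈ S ∧ ∀ g ∈ A, g * x * g⁻¹ = x} [MOD p] := by
  letI := conjOn A S hS
  have h := hA.card_modEq_card_fixedPoints S
  suffices e : Nat.card (MulAction.fixedPoints A S) = Nat.card {x : G | x ∈ S ∧ ∀ g ∈ A, g * x * g⁻¹ = x} by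
    rwa [e] at h
  refine Nat.card_congr
    { toFun := fun x => ⟨(x.1 : G), x.1.2, fun g hg => congrArg Subtype.val (x.2 ⟨g, hg⟩)⟩
      invFun := fun x => ⟨⟨x.1, x.2.1⟩, fun g => Subtype.ext (x.2.2 g g.2)⟩
      left_inv := fun x => rfl
      right_inv := fun x => rfl }

theorem card_dvd_of_free {A : Subgroup G} {S : Set G} (hS : ∀ g ∈ A, ∀ x ∈ S, g * x * g⁻¹ ∈ S)
    (hfree : ∀ g ∈ A, ∀ x ∈ S, g * x * g⁻¹ = x → g = 1) : Nat.card A ∣ Nat.card S := by
  letI := conjOn A S hS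
  have h : ∀ b : S, MulAction.stabilizer A b = ⊥ := fun b => (Subgroup.eq_bot_iff_forall _).2
    fun g hg => Subtype.ext (hfree g g.2 b b.2 (congrArg Subtype.val hg))
  rw [Nat.card_congr (MulAction.selfEquivOrbitsQuotientProd h), Nat.card_prod]
  exact dvd_mul_left _ _

/-- **Semilinear automorphisms.** `K` is regular on the non-identity elements of `Z` and normalised by `A`,
which fixes a non-identity element of `Z` and acts faithfully. -/
theorem card_eq_fixed_pow (Z K A : Subgroup G) (hZ2 : ∀ z ∈ Z, z * z = 1)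
    (hKc : ∀ k ∈ K, ∀ l ∈ K, k * l = l * k) (hKZ : ∀ k ∈ K, ∀ z ∈ Z, k * z * k⁻¹ ∈ Z)
    (hreg : ∀ x ∈ Z, ∀ y ∈ Z, x ≠ 1 → y ≠ 1 → ∃ k ∈ K, k * x * k⁻¹ = y)
    (hfree : ∀ k ∈ K, ∀ x ∈ Z, x ≠ 1 → k * x * k⁻¹ = x → k = 1)
    (hAZ : ∀ g ∈ A, ∀ z ∈ Z, g * z * g⁻¹ ∈ Z) (hAK : ∀ g ∈ A, ∀ k ∈ K, g * k * g⁻¹ ∈ K)
    {s : G} (hs : s ∈ Z) (hs1 : s ≠ 1) (hAs : ∀ g ∈ A, g * s * g⁻¹ = s)
    (hfaith : ∀ g ∈ A, (∀ z ∈ Z, g * z * g⁻¹ = z) → g = 1) :
    Nat.card Z = Nat.card ↥(Z ⊓ Subgroup.centralizer (A : Set G)) ^ Nat.card A := by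
  classical
  letI : CommGroup Z :=
    { (inferInstance : Group Z) with
      mul_comm := fun x y => Subtype.ext (by
        have h1 := hZ2 _ x.2
        have h2 := hZ2 _ y.2
        have h3 := hZ2 _ (Z.mul_mem x.2 y.2)
        show (x : G) * y = y * x
        calc (x : G) * y = (x : G) * (x * y * (x * y)) * y := by rw [h3, mul_one]
          _ = (x * x : G) * y * x * (y * y) := by group
          _ = (y : G) * x := by rw [h1, h2, one_mul, mul_one]) }
  let conj : ∀ g : G, (∀ z ∈ Z, g * z * g⁻¹ ∈ Z) → (Additive Z →+ Additive Z) := fun g hg =>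
    AddMonoidHom.mk' (fun z => Additive.ofMul ⟨g * (Additive.toMul z : Z) * g⁻¹, hg _ (Additive.toMul z).2⟩)
      fun z w => Additive.toMul.injective (Subtype.ext (show g * ((Additive.toMul z : Z) * (Additive.toMul w : Z) : G) * g⁻¹
        = g * (Additive.toMul z : Z) * g⁻¹ * (g * (Additive.toMul w : Z) * g⁻¹) by group))
  let act : K → Additive Z → Additive Z := fun k => conj k (hKZ k k.2)
  have hext : ∀ {z w : Additive Z}, ((Additive.toMul z : Z) : G) = (Additive.toMul w : Z) → z = w :=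
    fun h => Additive.toMul.injective (Subtype.ext h)
  have hne : ∀ {z : Additive Z}, z ≠ 0 → ((Additive.toMul z : Z) : G) ≠ 1 := fun hz h => hz (hext h)
  set s₀ : Additive Z := Additive.ofMul ⟨s, hs⟩ with hs₀
  have hs₀0 : s₀ ≠ 0 := fun h => hs1 (congrArg (fun z : Additive Z => ((Additive.toMul z : Z) : G)) h)
  obtain ⟨F, iF, iFt, iC, e, g, hg⟩ := Suzuki2.exists_field act
    (fun z => hext (show (1 : G) * (Additive.toMul z : Z) * (1 : G)⁻¹ = (Additive.toMul z : Z) by group))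
    (fun k l z => hext (show (k * l : G) * (Additive.toMul z : Z) * (k * l : G)⁻¹ =
      k * (l * (Additive.toMul z : Z) * (l : G)⁻¹) * (k : G)⁻¹ by group))
    (fun k z w => map_add (conj k (hKZ k k.2)) z w)
    (fun z => hext (hZ2 _ (Additive.toMul z).2))
    (fun k l => Subtype.ext (hKc k k.2 l l.2))
    (fun x y hx hy => by
      obtain ⟨k, hk, hkxy⟩ := hreg _ (Additive.toMul x).2 _ (Additive.toMul y).2 (hne hx) (hne hy)
      refine ⟨⟨k, hk⟩, hext hkxy, fun l hl => Subtype.ext ?_⟩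
      refine (inv_mul_eq_one.1 (hfree (k⁻¹ * l) (K.mul_mem (K.inv_mem hk) l.2) _ (Additive.toMul x).2 (hne hx) ?_)).symm
      have hl' : (l : G) * (Additive.toMul x : Z) * (l : G)⁻¹ = (Additive.toMul y : Z) :=
        congrArg (fun z : Additive Z => ((Additive.toMul z : Z) : G)) hl
      calc k⁻¹ * l * (Additive.toMul x : Z) * (k⁻¹ * l)⁻¹
          = k⁻¹ * ((l : G) * (Additive.toMul x : Z) * (l : G)⁻¹) * k := by group
        _ = (Additive.toMul x : Z) := by rw [hl', ← hkxy]; group)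
    ⟨s₀, hs₀0⟩
  set c := e s₀ with hc
  have hc0 : c ≠ 0 := fun h => hs₀0 (e.injective (h.trans (map_zero e).symm))
  let e' : Additive Z ≃+ F := e.trans
    { toFun := fun x => x * c⁻¹
      invFun := fun x => x * c
      left_inv := fun x => inv_mul_cancel_right₀ hc0 x
      right_inv := fun x => mul_inv_cancel_right₀ hc0 x
      map_add' := fun x y => add_mul x y c⁻¹ }
  have he'k : ∀ k z, e' (act k z) = (g k : F) * e' z := fun k z => by
    show e (act k z) * c⁻¹ = (g k : F) * (e z * c⁻¹)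
    rw [hg, mul_assoc]
  have he's : e' s₀ = 1 := mul_inv_cancel₀ hc0
  let τ : A → F → F := fun α x => e' (conj α (hAZ α α.2) (e'.symm x))
  have hτone : ∀ α, τ α 1 = 1 := fun α => by
    show e' (conj α (hAZ α α.2) (e'.symm 1)) = 1
    rw [show e'.symm 1 = s₀ from by rw [← he's, e'.symm_apply_apply]]
    rw [show conj α (hAZ α α.2) s₀ = s₀ from hext (hAs α α.2), he's]
  have hτadd : ∀ α x y, τ α (x + y) = τ α x + τ α y := fun α x y => by
    show e' (conj α (hAZ α α.2) (e'.symm (x + y))) = _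
    rw [map_add, map_add, map_add]
  have hτmul : ∀ α x y, τ α (x * y) = τ α x * τ α y := by
    intro α x y
    by_cases hx : x = 0
    · subst hx
      have h0 : τ α 0 = 0 := by show e' _ = 0; rw [map_zero, map_zero, map_zero]
      rw [zero_mul, h0, zero_mul]
    obtain ⟨k, hk⟩ := g.surjective (Units.mk0 x hx)
    have hx' : x = (g k : F) := by rw [hk]; rfl
    let k' : K := ⟨(α : G) * k * (α : G)⁻¹, hAK α α.2 k k.2⟩
    have key : ∀ y, τ α ((g k : F) * y) = (g k' : F) * τ α y := by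
      intro y
      have e1 : e'.symm ((g k : F) * y) = act k (e'.symm y) := by
        rw [e'.symm_apply_eq, he'k, e'.apply_symm_apply]
      show e' (conj α (hAZ α α.2) (e'.symm ((g k : F) * y))) = _
      rw [e1, ← he'k]
      refine congrArg e' (hext ?_)
      show (α : G) * ((k : G) * (Additive.toMul (e'.symm y) : Z) * (k : G)⁻¹) * (α : G)⁻¹ =
        (k' : G) * ((α : G) * (Additive.toMul (e'.symm y) : Z) * (α : G)⁻¹) * (k' : G)⁻¹
      show _ = ((α : G) * k * (α : G)⁻¹) * _ * ((α : G) * k * (α : G)⁻¹)⁻¹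
      group
    have k1 := key 1
    rw [mul_one, hτone, mul_one] at k1
    rw [hx', key y, k1]
  letI : MulSemiringAction A F :=
    { smul := τ
      one_smul := fun x => by
        refine (congrArg e' (hext ?_)).trans (e'.apply_symm_apply x)
        show (1 : G) * (Additive.toMul (e'.symm x) : Z) * (1 : G)⁻¹ = _
        group
      mul_smul := fun α β x => by
        show τ (α * β) x = τ α (τ β x)
        show e' _ = e' _
        rw [e'.symm_apply_apply]
        refine congrArg e' (hext ?_)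
        show ((α : G) * β) * (Additive.toMul (e'.symm x) : Z) * ((α : G) * β)⁻¹ =
          (α : G) * ((β : G) * (Additive.toMul (e'.symm x) : Z) * (β : G)⁻¹) * (α : G)⁻¹
        group
      smul_zero := fun α => by show e' _ = 0; rw [map_zero, map_zero, map_zero]
      smul_add := hτadd
      smul_one := hτone
      smul_mul := hτmul }
  haveI : FaithfulSMul A F := ⟨fun {α β} h => by
    refine (inv_mul_eq_one.1 (Subtype.ext (hfaith _ (α⁻¹ * β).2 fun z hz => ?_) : α⁻¹ * β = 1))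
    have h1 := h (e' (Additive.ofMul ⟨z, hz⟩))
    change τ α _ = τ β _ at h1
    simp only [τ, e'.symm_apply_apply] at h1
    have h2 : (α : G) * z * (α : G)⁻¹ = (β : G) * z * (β : G)⁻¹ :=
      congrArg (fun w : Additive Z => ((Additive.toMul w : Z) : G)) (e'.injective h1)
    show (α : G)⁻¹ * β * z * ((α : G)⁻¹ * β)⁻¹ = z
    calc (α : G)⁻¹ * β * z * ((α : G)⁻¹ * β)⁻¹ = (α : G)⁻¹ * ((β : G) * z * (β : G)⁻¹) * α := by group
      _ = z := by rw [← h2]; group⟩
  letI : Fintype A := Fintype.ofFinite A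
  have hfix : Nat.card (FixedPoints.subfield A F) = Nat.card ↥(Z ⊓ Subgroup.centralizer (A : Set G)) := by
    refine Nat.card_eq_of_bijective
      (fun x => ⟨(Additive.toMul (e'.symm x.1) : Z), (Additive.toMul (e'.symm x.1)).2,
        Subgroup.mem_centralizer_iff.2 fun α hα => mul_inv_eq_iff_eq_mul.1
          (congrArg (fun w : Additive Z => ((Additive.toMul w : Z) : G))
            (e'.injective (((x.2 ⟨α, hα⟩ : τ ⟨α, hα⟩ x.1 = x.1)).trans (e'.apply_symm_apply x.1).symm)))⟩)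
      ⟨fun x y h => Subtype.ext (e'.symm.injective (hext
        (congrArg (fun w : ↥(Z ⊓ Subgroup.centralizer (A : Set G)) => (w : G)) h :))), fun z => ?_⟩
    obtain ⟨hz, hzA⟩ := Subgroup.mem_inf.1 z.2
    refine ⟨⟨e' (Additive.ofMul ⟨z, hz⟩), fun α => ?_⟩, Subtype.ext ?_⟩
    · show τ α _ = _
      simp only [τ, e'.symm_apply_apply]
      exact congrArg e' (hext (mul_inv_eq_iff_eq_mul.2 (Subgroup.mem_centralizer_iff.1 hzA α α.2)))
    · show ((Additive.toMul (e'.symm (e' (Additive.ofMul ⟨(z : G), hz⟩))) : Z) : G) = z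
      rw [e'.symm_apply_apply]; rfl
  rw [← hfix, show Nat.card A = Module.finrank (FixedPoints.subfield A F) F by
      rw [FixedPoints.finrank_eq_card, Nat.card_eq_fintype_card],
    ← Module.natCard_eq_pow_finrank]
  exact Nat.card_congr e'.toEquiv

/-- A group with squares in an elementary abelian central `Z` containing all its involutions. -/
theorem card_le_cube (M Z : Subgroup G) (hZM : Z ≤ M) (hZ2 : ∀ z ∈ Z, z * z = 1)
    (hcen : ∀ z ∈ Z, ∀ x ∈ M, z * x = x * z) (hsq : ∀ x ∈ M, x * x ∈ Z)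
    (hinv : ∀ x ∈ M, x * x = 1 → x ∈ Z) : Nat.card M ≤ Nat.card Z ^ 3 := by
  classical
  haveI : Fact (Nat.Prime 2) := ⟨Nat.prime_two⟩
  have hcomm : ∀ x ∈ M, ∀ y ∈ M, x * y * x⁻¹ * y⁻¹ ∈ Z := by
    intro x hx y hy
    have e : x * y * x⁻¹ * y⁻¹ = x * y * (x * y) * ((y⁻¹ * (x * x)⁻¹ * y) * (y * y)⁻¹) := by group
    rw [e]
    refine Z.mul_mem (hsq _ (M.mul_mem hx hy)) (Z.mul_mem ?_ (Z.inv_mem (hsq y hy)))
    rw [mul_assoc, hcen _ (Z.inv_mem (hsq x hx)) y hy, inv_mul_cancel_left]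
    exact Z.inv_mem (hsq x hx)
  set N := Z.subgroupOf M with hN
  haveI : N.Normal := ⟨fun a ha g => by
    rw [Subgroup.mem_subgroupOf] at ha ⊢
    show (g : G) * a * (g : G)⁻¹ ∈ Z
    rw [← hcen a ha g g.2, mul_inv_cancel_right]; exact ha⟩
  letI : CommGroup (M ⧸ N) :=
    { (inferInstance : Group (M ⧸ N)) with
      mul_comm := fun a b => by
        obtain ⟨x, rfl⟩ := QuotientGroup.mk_surjective a
        obtain ⟨y, rfl⟩ := QuotientGroup.mk_surjective b
        rw [← QuotientGroup.mk_mul, ← QuotientGroup.mk_mul, QuotientGroup.eq, Subgroup.mem_subgroupOf]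
        show ((x : G) * y)⁻¹ * (y * x) ∈ Z
        have h := hcomm _ (M.inv_mem y.2) _ (M.inv_mem x.2)
        rw [show ((x : G) * y)⁻¹ * (y * x) = (y : G)⁻¹ * (x : G)⁻¹ * (y : G)⁻¹⁻¹ * (x : G)⁻¹⁻¹ by group]
        exact h }
  letI : CommGroup Z :=
    { (inferInstance : Group Z) with
      mul_comm := fun a b => Subtype.ext (hcen a a.2 b (hZM b.2)) }
  letI : Module (ZMod 2) (Additive Z) := AddCommGroup.zmodModule fun x => by
    refine Additive.toMul.injective (Subtype.ext ?_)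
    rw [toMul_nsmul, toMul_zero, OneMemClass.coe_one, SubmonoidClass.coe_pow, pow_two]
    exact hZ2 _ (Additive.toMul x).2
  set n := Module.finrank (ZMod 2) (Additive Z) with hn
  have hq : Nat.card Z = 2 ^ n := by
    rw [← Nat.card_congr (Additive.ofMul (α := Z)).symm, Module.natCard_eq_pow_finrank (K := ZMod 2),
      Nat.card_zmod]
  let ψ : Additive Z ≃ₗ[ZMod 2] (Fin n → ZMod 2) := (Module.finBasis (ZMod 2) (Additive Z)).equivFun
  let co : G → (Fin n → ZMod 2) := fun x => if h : x ∈ Z then ψ (Additive.ofMul ⟨x, h⟩) else 0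
  have co_mul : ∀ v ∈ Z, ∀ w ∈ Z, co (v * w) = co v + co w := by
    intro v hv w hw
    simp only [co, dif_pos hv, dif_pos hw, dif_pos (Z.mul_mem hv hw), ← map_add]
    rfl
  have co_zero : ∀ v ∈ Z, co v = 0 → v = 1 := by
    intro v hv h
    simp only [co, dif_pos hv, LinearEquiv.map_eq_zero_iff] at h
    exact congrArg Subtype.val (Additive.ofMul.injective h : (⟨v, hv⟩ : Z) = 1)
  let qP : G → Fin n → ZMod 2 := fun x => co (x * x)
  let bP : G → G → Fin n → ZMod 2 := fun x y => co (y * x * y⁻¹ * x⁻¹)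
  have hqm : ∀ x ∈ M, ∀ y ∈ M, qP (x * y) = qP x + qP y + bP x y := by
    intro x hx y hy
    have hc := hcomm y hy x hx
    have e : x * y * (x * y) = (x * x) * (y * y) * (y * x * y⁻¹ * x⁻¹) := by
      calc x * y * (x * y) = x * (y * x * y⁻¹ * x⁻¹) * (x * (y * y)) := by group
        _ = (y * x * y⁻¹ * x⁻¹) * (x * x * (y * y)) := by rw [← hcen _ hc x hx]; group
        _ = _ := hcen _ hc _ (M.mul_mem (M.mul_mem hx hx) (M.mul_mem hy hy))
    show co _ = co _ + co _ + co _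
    rw [e, co_mul _ (Z.mul_mem (hsq x hx) (hsq y hy)) _ hc, co_mul _ (hsq x hx) _ (hsq y hy)]
  have hbm : ∀ x ∈ M, ∀ y ∈ M, ∀ z ∈ M, bP (x * y) z = bP x z + bP y z := by
    intro x hx y hy z hz
    have h1 := hcomm z hz x hx
    have h2 := hcomm z hz y hy
    have e : z * (x * y) * z⁻¹ * (x * y)⁻¹ =
        (z * x * z⁻¹ * x⁻¹) * (z * y * z⁻¹ * y⁻¹) := by
      calc z * (x * y) * z⁻¹ * (x * y)⁻¹
          = z * x * z⁻¹ * ((z * y * z⁻¹ * y⁻¹) * x⁻¹) := by group
        _ = _ := by rw [hcen _ h2 x⁻¹ (M.inv_mem hx)]; group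
    show co _ = co _ + co _
    rw [e, co_mul _ h1 _ h2]
  have hq1 : ∀ v : M, v ∈ N → ∀ x : M, qP ((x : G) * v) = qP x := by
    intro v hv x
    have hv' : (v : G) ∈ Z := Subgroup.mem_subgroupOf.1 hv
    have e : (x : G) * v * (x * v) = x * x := by
      calc (x : G) * v * (x * v) = x * ((v : G) * x) * v := by group
        _ = x * x * ((v : G) * v) := by rw [hcen _ hv' x x.2]; group
        _ = x * x := by rw [hZ2 _ hv', mul_one]
    show co _ = co _
    rw [e]
  let q : M ⧸ N → Fin n → ZMod 2 := fun a => qP (a.out : M)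
  have hqmk : ∀ x : M, q (x : M ⧸ N) = qP x := by
    intro x
    obtain ⟨v, hv⟩ := QuotientGroup.mk_out_eq_mul N x
    show qP _ = _
    rw [hv]
    exact hq1 v v.2 x
  let b : M ⧸ N → M ⧸ N → Fin n → ZMod 2 := fun a c => q (a * c) - q a - q c
  have hbmk : ∀ x y : M, b (x : M ⧸ N) y = bP x y := by
    intro x y
    show q ((x : M ⧸ N) * y) - q (x : M ⧸ N) - q (y : M ⧸ N) = _
    rw [← QuotientGroup.mk_mul, hqmk, hqmk, hqmk, Subgroup.coe_mul, hqm _ x.2 _ y.2]
    abel
  have hbound := Suzuki2.card_le_of_aniso (Q := M ⧸ N) (fun a => by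
      obtain ⟨x, rfl⟩ := QuotientGroup.mk_surjective a
      rw [← QuotientGroup.mk_mul, QuotientGroup.eq_one_iff, Subgroup.mem_subgroupOf]
      exact hsq x x.2) q b
    (fun a c => by show _ = _ + (q (a * c) - q a - q c); abel)
    (fun a c d => by
      obtain ⟨x, rfl⟩ := QuotientGroup.mk_surjective a
      obtain ⟨y, rfl⟩ := QuotientGroup.mk_surjective c
      obtain ⟨z, rfl⟩ := QuotientGroup.mk_surjective d
      rw [← QuotientGroup.mk_mul, hbmk, hbmk, hbmk, Subgroup.coe_mul]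
      exact hbm _ x.2 _ y.2 _ z.2)
    (fun a ha => by
      obtain ⟨x, rfl⟩ := QuotientGroup.mk_surjective a
      rw [hqmk] at ha
      rw [QuotientGroup.eq_one_iff, Subgroup.mem_subgroupOf]
      exact hinv x x.2 (co_zero _ (hsq x x.2) ha))
  rw [Subgroup.card_eq_card_quotient_mul_card_subgroup N,
    show Nat.card N = Nat.card Z from Nat.card_congr (Subgroup.subgroupOfEquivOfLe hZM).toEquiv,
    pow_succ]
  refine Nat.mul_le_mul_right _ (hbound.trans (le_of_eq ?_))
  rw [hq, ← pow_mul, mul_comm]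

end conj

/-- If `K` of odd order is semiregular on the elementary abelian 2-group `E` and no non-trivial power of `v`
centralises `K`, then `v` has a fixed point in `E ∖ 1`. -/
theorem exists_fixed {D E : Type*} [Group D] [CommGroup E] [MulDistribMulAction D E]
    (hE : ∀ e : E, e * e = 1) (K : Subgroup D) [Finite K] (hKc : ∀ k ∈ K, ∀ l ∈ K, k * l = l * k)
    (hKodd : Odd (Nat.card K)) (hfpf : ∀ k ∈ K, k ≠ 1 → ∀ e : E, k • e = e → e = 1)
    {v : D} {p : ℕ} (hp : 0 < p) (hvp : v ^ p = 1) (hvK : ∀ k ∈ K, v * k * v⁻¹ ∈ K)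
    (hmove : ∀ i, 0 < i → i < p → ∃ k ∈ K, v ^ i * k * (v ^ i)⁻¹ ≠ k) (hne : ∃ e : E, e ≠ 1) :
    ∃ e : E, e ≠ 1 ∧ v • e = e := by
  classical
  by_contra hno
  push Not at hno
  have hno' : ∀ e : E, v • e = e → e = 1 := fun e he => by_contra fun h => hno e h he
  letI : Fintype K := Fintype.ofFinite K
  have hzero : ∀ (k : D) (y : E), ∏ i ∈ Finset.range p, (k * v ^ i * k⁻¹) • y = 1 := by
    intro k y
    set P := ∏ i ∈ Finset.range p, (v ^ i * k⁻¹) • y with hP
    have h1 : v • P = P := by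
      have hshift : ∀ f : ℕ → E, f p = f 0 → ∏ i ∈ Finset.range p, f (i + 1) = ∏ i ∈ Finset.range p, f i := by
        intro f hf
        have := Finset.prod_range_succ f p
        rw [Finset.prod_range_succ', hf] at this
        exact mul_right_cancel this
      rw [hP, Finset.smul_prod']
      conv_lhs => arg 2; ext i; rw [← mul_smul, ← mul_assoc, ← pow_succ']
      exact hshift (fun i => (v ^ i * k⁻¹) • y) (by rw [hvp, pow_zero])
    have h2 : P = 1 := hno' P h1
    calc ∏ i ∈ Finset.range p, (k * v ^ i * k⁻¹) • y = k • P := by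
          rw [hP, Finset.smul_prod']
          exact Finset.prod_congr rfl fun i _ => by rw [← mul_smul, mul_assoc]
      _ = 1 := by rw [h2, smul_one]
  have hvKi : ∀ i, ∀ k ∈ K, v ^ i * k * (v ^ i)⁻¹ ∈ K := by
    intro i
    induction i with
    | zero => exact fun k hk => by simpa using hk
    | succ i ih =>
      intro k hk
      rw [pow_succ', show v * v ^ i * k * (v * v ^ i)⁻¹ = v * (v ^ i * k * (v ^ i)⁻¹) * v⁻¹ by group]
      exact hvK _ (ih k hk)
  obtain ⟨y, hy⟩ := hne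
  have hall : ∏ k : K, ∏ i ∈ Finset.range p, ((k : D) * v ^ i * (k : D)⁻¹) • y = 1 :=
    Finset.prod_eq_one fun k _ => hzero k y
  rw [Finset.prod_comm, Finset.prod_eq_single 0] at hall
  · obtain ⟨m, hm⟩ := hKodd
    apply hy
    simp only [pow_zero, mul_one, mul_inv_cancel, one_smul, Finset.prod_const, Finset.card_univ,
      ← Nat.card_eq_fintype_card, hm] at hall
    rw [pow_succ, pow_mul, pow_two, hE, one_pow, one_mul] at hall
    exact hall
  · intro i hi hi0
    obtain ⟨k₀, hk₀, hk₀'⟩ := hmove i (Nat.pos_of_ne_zero hi0) (Finset.mem_range.1 hi)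
    let φ : K → K := fun k => ⟨k * (v ^ i * (k : D)⁻¹ * (v ^ i)⁻¹), K.mul_mem k.2 (hvKi i _ (K.inv_mem k.2))⟩
    have hφ : ∀ k : K, ((k : D) * v ^ i * (k : D)⁻¹) • y = (φ k : D) • (v ^ i • y) := fun k => by
      rw [← mul_smul]
      congr 1
      show _ = k * (v ^ i * (k : D)⁻¹ * (v ^ i)⁻¹) * v ^ i
      group
    have hφm : ∀ k l : K, φ (k * l) = φ k * φ l := fun k l => Subtype.ext (by
      show (k * l : D) * (v ^ i * (k * l : D)⁻¹ * (v ^ i)⁻¹) =
        (k : D) * (v ^ i * (k : D)⁻¹ * (v ^ i)⁻¹) * (l * (v ^ i * (l : D)⁻¹ * (v ^ i)⁻¹))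
      have hc : (v ^ i * (k : D)⁻¹ * (v ^ i)⁻¹) * l = l * (v ^ i * (k : D)⁻¹ * (v ^ i)⁻¹) :=
        hKc _ (hvKi i _ (K.inv_mem k.2)) _ l.2
      rw [mul_inv_rev]
      calc (k : D) * l * (v ^ i * ((l : D)⁻¹ * (k : D)⁻¹) * (v ^ i)⁻¹)
          = k * l * ((v ^ i * (l : D)⁻¹ * (v ^ i)⁻¹) * (v ^ i * (k : D)⁻¹ * (v ^ i)⁻¹)) := by group
        _ = k * l * ((v ^ i * (k : D)⁻¹ * (v ^ i)⁻¹) * (v ^ i * (l : D)⁻¹ * (v ^ i)⁻¹)) := by
            rw [hKc _ (hvKi i _ (K.inv_mem l.2)) _ (hvKi i _ (K.inv_mem k.2))]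
        _ = k * (l * (v ^ i * (k : D)⁻¹ * (v ^ i)⁻¹)) * (v ^ i * (l : D)⁻¹ * (v ^ i)⁻¹) := by group
        _ = _ := by rw [← hc]; group)
    rw [Finset.prod_congr rfl fun k _ => hφ k]
    have hfix : (φ ⟨k₀, hk₀⟩ : D) • (∏ k : K, (φ k : D) • (v ^ i • y)) =
        ∏ k : K, (φ k : D) • (v ^ i • y) := by
      rw [Finset.smul_prod']
      refine Eq.trans (Finset.prod_congr rfl fun k _ => ?_)
        (Equiv.prod_comp (Equiv.mulLeft (⟨k₀, hk₀⟩ : K)) fun k => (φ k : D) • (v ^ i • y))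
      show _ = (φ (⟨k₀, hk₀⟩ * k) : D) • (v ^ i • y)
      rw [hφm, Subgroup.coe_mul, ← mul_smul]
    refine hfpf _ (φ ⟨k₀, hk₀⟩).2 (fun h => hk₀' ?_) _ hfix
    have h' : k₀ * (v ^ i * k₀⁻¹ * (v ^ i)⁻¹) = 1 := h
    calc v ^ i * k₀ * (v ^ i)⁻¹ = (v ^ i * k₀⁻¹ * (v ^ i)⁻¹)⁻¹ := by group
      _ = k₀ := (eq_inv_of_mul_eq_one_left h').symm
  · intro h
    exact absurd (Finset.mem_range.2 hp) h

end Cfsg.Agent.RankOne.NoTriv
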