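import Cfsg.Agent.Lib.RankOneW.NoTrivBasic
import Cfsg.Agent.Lib.RankOneW.NoTrivTools

/-!
# `W = 1`: the centraliser of an element of `V` of prime order dividing `q ^ 3 + 1`

If `v` in `V` has prime order `p` and `p ∣ q ^ 3 + 1`, then `q = q₀ ^ p` for the number `q₀` of fixed points
of `v` among the elements of square one of `G_a`, and `|C_Q(v)| = q₀ ^ 3`.
-/

set_option autoImplicit false
set_option linter.unusedSectionVars false
set_option linter.style.haveILetI false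

namespace Cfsg.Agent.RankOne

open MulAction

universe u v

variable {G : Type u} {Ω : Type v} [Group G] [MulAction G Ω] {a : Ω} {t : G} {Q : Subgroup G}
variable [Finite G] (hS : Cfsg.IsRankOneSetup G Ω a t Q)
  (h2 : ∃ x y : G, x ≠ 1 ∧ y ≠ 1 ∧ x ≠ y ∧ x * x = 1 ∧ y * y = 1 ∧ x * y = y * x)
  (hC : IsCube a t Q) (hW : wSub a t = ⊥)

/-- The data of an element of prime order of `V` with `p ∣ q ^ 3 + 1`. -/
structure VElt (a : Ω) (t : G) (v : G) (p : ℕ) : Prop where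
  prime : p.Prime
  mem : v ∈ vSub a t
  order : orderOf v = p
  dvd : p ∣ qSize a t ^ 3 + 1

theorem fixset_eq {H : Subgroup G} {v : G} :
    {x : G | x ∈ H ∧ ∀ g ∈ Subgroup.zpowers v, g * x * g⁻¹ = x} =
      ((Subgroup.centralizer ({v} : Set G) ⊓ H : Subgroup G) : Set G) := by
  ext x
  refine ⟨fun h => Subgroup.mem_inf.2 ⟨Subgroup.mem_centralizer_singleton_iff.2 ?_, h.1⟩, fun h =>
    ⟨(Subgroup.mem_inf.1 h).2, fun g hg => ?_⟩⟩
  · exact (mul_inv_eq_iff_eq_mul.1 (h.2 v (Subgroup.mem_zpowers v))).symm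
  · obtain ⟨i, rfl⟩ := hg
    have hc : Commute x v := Subgroup.mem_centralizer_singleton_iff.1 (Subgroup.mem_inf.1 h).1
    rw [← (hc.zpow_right i).eq, mul_inv_cancel_right]

include hS h2

theorem invK_fix_eq_one {k x : G} (hk : k ∈ invK a t) (hk1 : k ≠ 1) (hx : x ∈ Q)
    (h : k * x * k⁻¹ = x) : x = 1 := by
  have hx' : x ∈ Q ⊓ Subgroup.centralizer {k} := Subgroup.mem_inf.2
    ⟨hx, Subgroup.mem_centralizer_singleton_iff.2 (mul_inv_eq_iff_eq_mul.1 h).symm⟩
  rwa [inverted_fpf hS ((mem_invK hS h2).1 hk) hk1, Subgroup.mem_bot] at hx'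

theorem invK_fix_mod {k x : G} (hk : k ∈ invK a t) (hk1 : k ≠ 1) (hx : x ∈ Q)
    (h : x⁻¹ * (k * x * k⁻¹) ∈ invSub hS h2) : x ∈ invSub hS h2 := by
  set Z := invSub hS h2
  have hkD := invK_le hS hk
  let φ : Z → Z := fun z =>
    ⟨k * z * k⁻¹ * (z : G)⁻¹, Z.mul_mem (conj_mem_invSub hS h2 hkD z.2) (Z.inv_mem z.2)⟩
  have hφ : Function.Injective φ := fun b c e => by
    have e' : k * b * k⁻¹ * (b : G)⁻¹ = k * c * k⁻¹ * (c : G)⁻¹ := congrArg Subtype.val e
    have h1 := invK_fix_eq_one hS h2 hk hk1 (invSub_le_Q hS h2 (Z.mul_mem (Z.inv_mem c.2) b.2)) (by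
      have h3 : k * (b : G) * k⁻¹ = k * c * k⁻¹ * (c : G)⁻¹ * b := by rw [← e', inv_mul_cancel_right]
      calc k * ((c : G)⁻¹ * b) * k⁻¹ = (k * c * k⁻¹)⁻¹ * (k * b * k⁻¹) := by group
        _ = (c : G)⁻¹ * b := by rw [h3]; group)
    exact Subtype.ext (inv_mul_eq_one.1 h1).symm
  obtain ⟨z, hz⟩ := Finite.surjective_of_injective hφ ⟨_, Z.inv_mem h⟩
  have hz' : k * z * k⁻¹ * (z : G)⁻¹ = (x⁻¹ * (k * x * k⁻¹))⁻¹ := congrArg Subtype.val hz
  have hc : ∀ w ∈ Z, ∀ y ∈ Q, w * y = y * w := fun w hw y hy => invSub_comm hS h2 hw hy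
  have hy1 : x * z = 1 := invK_fix_eq_one hS h2 hk hk1 (mul_mem hx (invSub_le_Q hS h2 z.2)) (by
    calc k * (x * z) * k⁻¹ = x * (x⁻¹ * (k * x * k⁻¹)) * (k * z * k⁻¹) := by group
      _ = x * (x⁻¹ * (k * x * k⁻¹)) * ((k * z * k⁻¹ * (z : G)⁻¹) * z) := by group
      _ = x * z := by rw [hz']; group)
  rw [eq_inv_of_mul_eq_one_left hy1]
  exact Z.inv_mem z.2

theorem odd_card_invK : Odd (Nat.card (invK a t)) :=
  hS.odd_card.of_dvd_nat (Subgroup.card_dvd_of_le (invK_le hS))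

include hC

theorem isPGroup_le {H : Subgroup G} (h : H ≤ Q) : ∃ j, Nat.card H = 2 ^ j := by
  have := Fact.mk Nat.prime_two
  exact IsPGroup.iff_card.1 (hC.isPGroup.to_le h)

theorem not_dvd_card_invSub {p : ℕ} (hp : p.Prime) (hp2 : p ≠ 2) : ¬ p ∣ Nat.card (invSub hS h2) := by
  obtain ⟨j, hj⟩ := isPGroup_le hS h2 hC (H := invSub hS h2) fun z hz => invSub_le_Q hS h2 hz
  rw [hj]
  exact fun h => hp2 ((Nat.prime_dvd_prime_iff_eq hp Nat.prime_two).1 (hp.dvd_of_dvd_pow h))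

theorem card_cube_centralizer (v : G) :
    Nat.card ↥(Subgroup.centralizer ({v} : Set G) ⊓ Q) ≤
      Nat.card ↥(Subgroup.centralizer ({v} : Set G) ⊓ invSub hS h2) ^ 3 := by
  refine NoTriv.card_le_cube _ _ (inf_le_inf_left _ fun z hz => invSub_le_Q hS h2 hz)
    (fun z hz => invSub_sq hS h2 (Subgroup.mem_inf.1 hz).2)
    (fun z hz x hx => invSub_comm hS h2 (Subgroup.mem_inf.1 hz).2 (Subgroup.mem_inf.1 hx).2)
    (fun x hx => Subgroup.mem_inf.2 ⟨?_, cube_sq_mem hS h2 hC (Subgroup.mem_inf.1 hx).2⟩)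
    (fun x hx h => Subgroup.mem_inf.2 ⟨(Subgroup.mem_inf.1 hx).1,
      mem_invSub_of_sq hS h2 (Subgroup.mem_inf.1 hx).2 h⟩)
  exact mul_mem (Subgroup.mem_inf.1 hx).1 (Subgroup.mem_inf.1 hx).1

include hW

theorem exists_fixed_mod {v : G} {p : ℕ} (hv : VElt a t v p) :
    ∃ x ∈ Q, x ∉ invSub hS h2 ∧ x⁻¹ * (v * x * v⁻¹) ∈ invSub hS h2 := by
  classical
  set Z := invSub hS h2 with hZdef
  have hZQ : ∀ z ∈ Z, z ∈ Q := fun z hz => invSub_le_Q hS h2 hz
  haveI : (Z.subgroupOf Q).Normal := ⟨fun z hz g => by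
    rw [Subgroup.mem_subgroupOf] at hz ⊢
    show (g : G) * z * (g : G)⁻¹ ∈ Z
    rw [← invSub_comm hS h2 hz g.2, mul_inv_cancel_right]
    exact hz⟩
  letI : CommGroup (Q ⧸ Z.subgroupOf Q) :=
    { (inferInstance : Group (Q ⧸ Z.subgroupOf Q)) with
      mul_comm := fun b c => by
        obtain ⟨x, rfl⟩ := QuotientGroup.mk_surjective b
        obtain ⟨y, rfl⟩ := QuotientGroup.mk_surjective c
        rw [← QuotientGroup.mk_mul, ← QuotientGroup.mk_mul, QuotientGroup.eq, Subgroup.mem_subgroupOf]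
        show ((x : G) * y)⁻¹ * (y * x) ∈ Z
        rw [show ((x : G) * y)⁻¹ * (y * x) = (y : G)⁻¹ * (x : G)⁻¹ * y * x by group]
        exact cube_comm_mem hS h2 hC y.2 x.2 }
  have hconj : ∀ d : twoStab a t, ∀ x ∈ Q, (d : G) * x * (d : G)⁻¹ ∈ Q := fun d x hx =>
    hS.conj_mem d (Subgroup.mem_inf.1 d.2).1 x hx
  let act : twoStab a t → (Q ⧸ Z.subgroupOf Q →* Q ⧸ Z.subgroupOf Q) := fun d =>
    QuotientGroup.map _ _ (MonoidHom.mk' (fun x : Q => (⟨(d : G) * x * (d : G)⁻¹, hconj d x x.2⟩ : Q))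
        fun x y => Subtype.ext (show (d : G) * (x * y) * (d : G)⁻¹ = _ * _ by group))
      fun x hx => by
        rw [Subgroup.mem_subgroupOf] at hx
        show (d : G) * x * (d : G)⁻¹ ∈ Z
        exact conj_mem_invSub hS h2 d.2 hx
  letI : MulDistribMulAction (twoStab a t) (Q ⧸ Z.subgroupOf Q) :=
    { smul := fun d e => act d e
      one_smul := fun e => by
        obtain ⟨x, rfl⟩ := QuotientGroup.mk_surjective e
        exact congrArg QuotientGroup.mk (Subtype.ext (show (1 : G) * x * (1 : G)⁻¹ = x by group))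
      mul_smul := fun d d' e => by
        obtain ⟨x, rfl⟩ := QuotientGroup.mk_surjective e
        exact congrArg QuotientGroup.mk (Subtype.ext
          (show (d * d' : G) * x * (d * d' : G)⁻¹ = d * (d' * x * (d' : G)⁻¹) * (d : G)⁻¹ by group))
      smul_one := fun d => map_one (act d)
      smul_mul := fun d e f => map_mul (act d) e f }
  have hvD := vSub_twoStab hS hv.mem
  have hfix : ∀ (d : twoStab a t) (x : Q), d • (x : Q ⧸ Z.subgroupOf Q) = x →
      (x : G)⁻¹ * ((d : G) * x * (d : G)⁻¹) ∈ Z := fun d x h => by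
    have h' := QuotientGroup.eq.1 h.symm
    rw [Subgroup.mem_subgroupOf] at h'
    exact h'
  obtain ⟨e, he1, he⟩ := NoTriv.exists_fixed (E := Q ⧸ Z.subgroupOf Q) (fun e => by
      obtain ⟨x, rfl⟩ := QuotientGroup.mk_surjective e
      rw [← QuotientGroup.mk_mul, QuotientGroup.eq_one_iff, Subgroup.mem_subgroupOf]
      exact cube_sq_mem hS h2 hC x.2) ((invK a t).subgroupOf (twoStab a t))
    (fun k hk l hl => Subtype.ext (invK_comm hS h2 (Subgroup.mem_subgroupOf.1 hk) (Subgroup.mem_subgroupOf.1 hl)))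
    (by rw [Nat.card_congr (Subgroup.subgroupOfEquivOfLe (invK_le hS)).toEquiv]; exact odd_card_invK hS h2)
    (fun k hk hk1 e h => by
      obtain ⟨x, rfl⟩ := QuotientGroup.mk_surjective e
      rw [QuotientGroup.eq_one_iff, Subgroup.mem_subgroupOf]
      exact invK_fix_mod hS h2 (Subgroup.mem_subgroupOf.1 hk) (fun h1 => hk1 (Subtype.ext h1)) x.2
        (hfix k x h))
    (v := ⟨v, hvD⟩) (p := p) hv.prime.pos
    (Subtype.ext (by rw [SubmonoidClass.coe_pow, ← hv.order]; exact pow_orderOf_eq_one v))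
    (fun k hk => Subgroup.mem_subgroupOf.2 (conj_mem_invK hS h2 hvD (Subgroup.mem_subgroupOf.1 hk)))
    (fun i hi0 hip => by
      by_contra hno
      push Not at hno
      have hmem : v ^ i ∈ wSub a t := by
        have h1 : v ^ i ∈ twoStab a t ⊓ Subgroup.centralizer {t} ⊓
            Subgroup.centralizer (Cfsg.invertedBy (twoStab a t) t) := by
          refine Subgroup.mem_inf.2 ⟨pow_mem hv.mem i, Subgroup.mem_centralizer_iff.2 fun k hk => ?_⟩
          have h := congrArg Subtype.val (hno ⟨k, hk.1⟩ (Subgroup.mem_subgroupOf.2 (Subgroup.subset_closure hk)))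
          exact (mul_inv_eq_iff_eq_mul.1 h).symm
        rwa [centralizer_inverted_eq hS] at h1
      rw [hW, Subgroup.mem_bot, ← orderOf_dvd_iff_pow_eq_one, hv.order] at hmem
      exact absurd (Nat.le_of_dvd hi0 hmem) (not_le.2 hip))
    (by
      obtain ⟨x, hx, y, hy, hne⟩ := hC.nonabelian
      refine ⟨((⟨x, hx⟩ : Q) : Q ⧸ Z.subgroupOf Q), fun h => hne ?_⟩
      rw [QuotientGroup.eq_one_iff, Subgroup.mem_subgroupOf] at h
      exact invSub_comm hS h2 h hy)
  obtain ⟨x, rfl⟩ := QuotientGroup.mk_surjective e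
  exact ⟨x, x.2, fun h => he1 ((QuotientGroup.eq_one_iff x).2 (Subgroup.mem_subgroupOf.2 h)),
    hfix ⟨v, hvD⟩ x he⟩

theorem three_le_prime {v : G} {p : ℕ} (hv : VElt a t v p) : 3 ≤ p := by
  have hodd := odd_orderOf hS.odd_card (vSub_twoStab hS hv.mem)
  rw [hv.order] at hodd
  obtain ⟨m, hm⟩ := hodd
  have := hv.prime.two_le
  omega

theorem exists_fixed_outside {v : G} {p : ℕ} (hv : VElt a t v p) :
    ∃ y ∈ Q, y ∉ invSub hS h2 ∧ v * y = y * v := by
  classical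
  haveI := Fact.mk hv.prime
  obtain ⟨x, hx, hxZ, hvx⟩ := exists_fixed_mod hS h2 hC hW hv
  set Z := invSub hS h2
  let S : Set G := {y | x⁻¹ * y ∈ Z}
  have hvD := vSub_twoStab hS hv.mem
  have hSinv : ∀ g ∈ Subgroup.zpowers v, ∀ y ∈ S, g * y * g⁻¹ ∈ S := by
    intro g hg
    obtain ⟨i, rfl⟩ := mem_powers_iff_mem_zpowers.2 hg
    show ∀ y ∈ S, v ^ i * y * (v ^ i)⁻¹ ∈ S
    induction i with
    | zero => intro y hy; simpa using hy
    | succ n ih =>
      intro y hy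
      rw [show v ^ (n + 1) * y * (v ^ (n + 1))⁻¹ = v * (v ^ n * y * (v ^ n)⁻¹) * v⁻¹ by
        rw [pow_succ']; group]
      set y' := v ^ n * y * (v ^ n)⁻¹
      show x⁻¹ * (v * y' * v⁻¹) ∈ Z
      rw [show x⁻¹ * (v * y' * v⁻¹) = (x⁻¹ * (v * x * v⁻¹)) * (v * (x⁻¹ * y') * v⁻¹) by group]
      exact Z.mul_mem hvx (conj_mem_invSub hS h2 hvD (ih (Subgroup.mem_zpowers_iff.2 ⟨n, zpow_natCast v n⟩) y hy))
  have hA : IsPGroup p (Subgroup.zpowers v) :=
    IsPGroup.of_card (n := 1) (by rw [Nat.card_zpowers, hv.order, pow_one])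
  have h := NoTriv.card_fixed_modEq hA hSinv
  have hcard : Nat.card S = Nat.card Z := Nat.card_congr
    { toFun := fun y => ⟨x⁻¹ * y, y.2⟩
      invFun := fun z => ⟨x * z, show x⁻¹ * (x * z) ∈ Z by rw [inv_mul_cancel_left]; exact z.2⟩
      left_inv := fun y => Subtype.ext (mul_inv_cancel_left x y)
      right_inv := fun z => Subtype.ext (inv_mul_cancel_left x z) }
  by_contra hno
  push Not at hno
  have hempty : Nat.card {y : G | y ∈ S ∧ ∀ g ∈ Subgroup.zpowers v, g * y * g⁻¹ = y} = 0 := by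
    haveI : IsEmpty {y : G | y ∈ S ∧ ∀ g ∈ Subgroup.zpowers v, g * y * g⁻¹ = y} := ⟨fun y => by
      obtain ⟨hy, hfix⟩ := y.2
      have hyQ : (y : G) ∈ Q := by
        have := mul_mem hx (invSub_le_Q hS h2 hy)
        rwa [mul_inv_cancel_left] at this
      refine hno y hyQ (fun hyZ => hxZ ?_) (mul_inv_eq_iff_eq_mul.1 (hfix v (Subgroup.mem_zpowers v)))
      have h1 := Z.mul_mem hyZ (Z.inv_mem hy)
      rwa [mul_inv_rev, inv_inv, mul_inv_cancel_left] at h1⟩
    exact Nat.card_of_isEmpty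
  rw [hcard, hempty] at h
  exact not_dvd_card_invSub hS h2 hC hv.prime (by have := three_le_prime hS h2 hC hW hv; omega)
    (Nat.modEq_zero_iff_dvd.1 h)

/-- The inverted elements centralised by `v` correspond to the involutions centralised by `v`. -/
theorem card_invK_centralizer {v : G} {p : ℕ} (hv : VElt a t v p) :
    Nat.card ↥(Subgroup.centralizer ({v} : Set G) ⊓ invK a t) + 1 =
      Nat.card ↥(Subgroup.centralizer ({v} : Set G) ⊓ invSub hS h2) := by
  classical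
  obtain ⟨s, hs, hVs, -⟩ := exists_vSub_invol hS h2
  obtain ⟨hsi, hsa⟩ := (mem_involutionsIn hS).1 hs
  set CK := Subgroup.centralizer ({v} : Set G) ⊓ invK a t
  set cZ := Subgroup.centralizer ({v} : Set G) ⊓ invSub hS h2
  have hvs : v * s = s * v := mul_inv_eq_iff_eq_mul.1 (hVs v hv.mem)
  have hvD := vSub_twoStab hS hv.mem
  have hone : (1 : G) ∈ (cZ : Set G) := one_mem _
  have hbij : Nat.card CK = Nat.card ((cZ : Set G) \ {1} : Set G) := by
    refine Nat.card_eq_of_bijective (fun k : CK => ⟨(k : G)⁻¹ * s * k, Subgroup.mem_inf.2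
      ⟨mul_mem (mul_mem (inv_mem (Subgroup.mem_inf.1 k.2).1)
        (Subgroup.mem_centralizer_singleton_iff.2 hvs.symm)) (Subgroup.mem_inf.1 k.2).1, by
        have h := conj_mem_invSub hS h2 (inv_mem (invK_le hS (Subgroup.mem_inf.1 k.2).2)) (Or.inr hs)
        rwa [inv_inv] at h⟩, fun h => hsi.1 ?_⟩) ⟨fun k l e => Subtype.ext ?_, fun z => ?_⟩
    · have h' : (k : G)⁻¹ * s * k = 1 := Set.mem_singleton_iff.1 h
      calc s = (k : G) * ((k : G)⁻¹ * s * k) * (k : G)⁻¹ := by group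
        _ = 1 := by rw [h']; group
    · exact inverted_conj_inj hS hsi hsa ((mem_invK hS h2).1 (Subgroup.mem_inf.1 k.2).2)
        ((mem_invK hS h2).1 (Subgroup.mem_inf.1 l.2).2) (congrArg Subtype.val e)
    · obtain ⟨hzm, hz1⟩ := z.2
      obtain ⟨hzc, hzZ⟩ := Subgroup.mem_inf.1 hzm
      obtain ⟨k, hk, hkz⟩ := inverted_transitive hS hs (hzZ.resolve_left (fun h => hz1 h))
      have hk' : k ∈ invK a t := Subgroup.subset_closure hk
      have hvk : v * k * v⁻¹ = k := by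
        refine inverted_conj_inj hS hsi hsa ((mem_invK hS h2).1 (conj_mem_invK hS h2 hvD hk')) hk ?_
        have hzv : v * (z : G) * v⁻¹ = z := by
          rw [← Subgroup.mem_centralizer_singleton_iff.1 hzc, mul_inv_cancel_right]
        have hvs' : v⁻¹ * s * v = s := by rw [mul_assoc, ← hvs, inv_mul_cancel_left]
        calc (v * k * v⁻¹)⁻¹ * s * (v * k * v⁻¹) = v * (k⁻¹ * (v⁻¹ * s * v) * k) * v⁻¹ := by group
          _ = k⁻¹ * s * k := by rw [hvs', hkz, hzv]
      exact ⟨⟨k, Subgroup.mem_inf.2 ⟨Subgroup.mem_centralizer_singleton_iff.2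
        (mul_inv_eq_iff_eq_mul.1 hvk).symm, hk'⟩⟩, Subtype.ext hkz⟩
  rw [hbij, Nat.card_coe_set_eq, Set.ncard_sdiff_singleton_add_one hone (Set.toFinite _), ← Nat.card_coe_set_eq]
  rfl

theorem sub_one_dvd {v : G} {p : ℕ} (hv : VElt a t v p) :
    Nat.card ↥(Subgroup.centralizer ({v} : Set G) ⊓ invSub hS h2) - 1 ∣
      Nat.card ↥(Subgroup.centralizer ({v} : Set G) ⊓ Q) - 1 := by
  classical
  have h := card_invK_centralizer hS h2 hC hW hv
  set CQ := Subgroup.centralizer ({v} : Set G) ⊓ Q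
  have hdvd := NoTriv.card_dvd_of_free (A := Subgroup.centralizer ({v} : Set G) ⊓ invK a t)
    (S := (CQ : Set G) \ {1}) (fun g hg x hx => by
      obtain ⟨hgc, hgK⟩ := Subgroup.mem_inf.1 hg
      obtain ⟨hxc, hxQ⟩ := Subgroup.mem_inf.1 hx.1
      refine ⟨Subgroup.mem_inf.2 ⟨mul_mem (mul_mem hgc hxc) (inv_mem hgc),
        hS.conj_mem g (Subgroup.mem_inf.1 (invK_le hS hgK)).1 x hxQ⟩, fun h1 => hx.2 ?_⟩
      exact conj_eq_one_iff.1 (Set.mem_singleton_iff.1 h1))
    (fun g hg x hx hfix => by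
      by_contra hne
      exact hx.2 (invK_fix_eq_one hS h2 (Subgroup.mem_inf.1 hg).2 hne (Subgroup.mem_inf.1 hx.1).2 hfix))
  have hCQ : Nat.card ((CQ : Set G) \ {1} : Set G) + 1 = Nat.card CQ := by
    rw [Nat.card_coe_set_eq, Set.ncard_sdiff_singleton_add_one (one_mem CQ) (Set.toFinite _),
      ← Nat.card_coe_set_eq]
    rfl
  rw [← h, ← hCQ, Nat.add_sub_cancel, Nat.add_sub_cancel]
  exact hdvd

/-- **The orders.** -/
theorem fixed_data [FaithfulSMul G Ω] {v : G} {p : ℕ} (hv : VElt a t v p) :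
    2 ≤ Nat.card ↥(Subgroup.centralizer ({v} : Set G) ⊓ invSub hS h2) ∧
    qSize a t = Nat.card ↥(Subgroup.centralizer ({v} : Set G) ⊓ invSub hS h2) ^ p ∧
    p ∣ Nat.card ↥(Subgroup.centralizer ({v} : Set G) ⊓ invSub hS h2) ^ 3 + 1 ∧
    Nat.card ↥(Subgroup.centralizer ({v} : Set G) ⊓ Q) =
      Nat.card ↥(Subgroup.centralizer ({v} : Set G) ⊓ invSub hS h2) ^ 3 ∧
    ∀ d ∈ twoStab a t, (∀ z ∈ Subgroup.centralizer ({v} : Set G) ⊓ invSub hS h2, d * z = z * d) →
      d ∈ Subgroup.zpowers v := by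
  classical
  haveI := Fact.mk hv.prime
  obtain ⟨s, hs, hVs, hsV⟩ := exists_vSub_invol hS h2
  obtain ⟨hsi, hsa⟩ := (mem_involutionsIn hS).1 hs
  set cZ := Subgroup.centralizer ({v} : Set G) ⊓ invSub hS h2 with hcZ
  set CQ := Subgroup.centralizer ({v} : Set G) ⊓ Q with hCQ
  set q0 := Nat.card cZ with hq0
  have hscZ : s ∈ cZ := Subgroup.mem_inf.2
    ⟨Subgroup.mem_centralizer_singleton_iff.2 (mul_inv_eq_iff_eq_mul.1 (hVs v hv.mem)).symm, Or.inr hs⟩
  have hq0two : 2 ≤ q0 := by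
    have : Nontrivial cZ := ⟨⟨⟨s, hscZ⟩, 1, fun h => hsi.1 (congrArg Subtype.val h)⟩⟩
    exact Finite.one_lt_card
  -- semilinear automorphisms
  have gal : ∀ A : Subgroup G, A ≤ vSub a t →
      qSize a t = Nat.card ↥(invSub hS h2 ⊓ Subgroup.centralizer (A : Set G)) ^ Nat.card A := by
    intro A hA
    rw [qSize_eq hS h2]
    refine NoTriv.card_eq_fixed_pow (invSub hS h2) (invK a t) A (fun z hz => invSub_sq hS h2 hz)
      (fun k hk l hl => invK_comm hS h2 hk hl)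
      (fun k hk z hz => conj_mem_invSub hS h2 (invK_le hS hk) hz) ?_ ?_
      (fun g hg z hz => conj_mem_invSub hS h2 (vSub_twoStab hS (hA hg)) hz)
      (fun g hg k hk => conj_mem_invK hS h2 (vSub_twoStab hS (hA hg)) hk)
      (Or.inr hs : s ∈ invSub hS h2) hsi.1 (fun g hg => hVs g (hA hg))
      (fun g hg h => eq_one_of_cent_invol hS h2 hW (vSub_twoStab hS (hA hg)) h)
    · intro x hx y hy hx1 hy1
      obtain ⟨k, hk, hkxy⟩ := inverted_transitive hS (hx.resolve_left hx1) (hy.resolve_left hy1)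
      exact ⟨k⁻¹, inv_mem (Subgroup.subset_closure hk), by rw [inv_inv]; exact hkxy⟩
    · intro k hk x hx hx1 h
      by_contra hne
      exact hx1 (invK_fix_eq_one hS h2 hk hne (invSub_le_Q hS h2 hx) h)
  have hvc : ∀ x, x ∈ invSub hS h2 ⊓ Subgroup.centralizer (Subgroup.zpowers v : Set G) ↔ x ∈ cZ := by
    intro x
    rw [hcZ, Subgroup.mem_inf, Subgroup.mem_inf, and_comm, Subgroup.zpowers_eq_closure,
      Subgroup.centralizer_closure]
  have hq : qSize a t = q0 ^ p := by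
    have h := gal (Subgroup.zpowers v) ((Subgroup.zpowers_le).2 hv.mem)
    rwa [show invSub hS h2 ⊓ Subgroup.centralizer (Subgroup.zpowers v : Set G) = cZ from Subgroup.ext hvc,
      Nat.card_zpowers, hv.order] at h
  refine ⟨hq0two, hq, ?_⟩
  set V0 := vSub a t ⊓ Subgroup.centralizer (cZ : Set G) with hV0
  have hvV0 : Subgroup.zpowers v ≤ V0 := Subgroup.zpowers_le.2 (Subgroup.mem_inf.2
    ⟨hv.mem, Subgroup.mem_centralizer_iff.2 fun z hz =>
      Subgroup.mem_centralizer_singleton_iff.1 (Subgroup.mem_inf.1 hz).1⟩)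
  have hV0fix : invSub hS h2 ⊓ Subgroup.centralizer (V0 : Set G) = cZ := by
    refine le_antisymm (fun x hx => ?_) fun x hx => Subgroup.mem_inf.2 ⟨(Subgroup.mem_inf.1 hx).2,
      Subgroup.mem_centralizer_iff.2 fun g hg =>
        (Subgroup.mem_centralizer_iff.1 (Subgroup.mem_inf.1 hg).2 x hx).symm⟩
    obtain ⟨hxZ, hxc⟩ := Subgroup.mem_inf.1 hx
    exact Subgroup.mem_inf.2 ⟨Subgroup.mem_centralizer_singleton_iff.2
      (Subgroup.mem_centralizer_iff.1 hxc v (hvV0 (Subgroup.mem_zpowers v))).symm, hxZ⟩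
  have hV0card : Nat.card V0 = p := by
    have h := gal V0 inf_le_left
    rw [hV0fix, hq] at h
    exact (Nat.pow_right_injective hq0two h).symm
  have hV0eq : Subgroup.zpowers v = V0 := Subgroup.eq_of_le_of_card_ge hvV0
    (by rw [hV0card, Nat.card_zpowers, hv.order])
  -- congruences
  have hA : IsPGroup p (Subgroup.zpowers v) :=
    IsPGroup.of_card (n := 1) (by rw [Nat.card_zpowers, hv.order, pow_one])
  have hpow : ∀ (H : Subgroup G), (∀ g ∈ twoStab a t, ∀ x ∈ H, g * x * g⁻¹ ∈ H) →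
      Nat.card H ≡ Nat.card ↥(Subgroup.centralizer ({v} : Set G) ⊓ H) [MOD p] := by
    intro H hH
    have h := NoTriv.card_fixed_modEq hA (S := (H : Set G))
      (fun g hg x hx => hH g (Subgroup.zpowers_le.2 (vSub_twoStab hS hv.mem) hg) x hx)
    simp only [SetLike.mem_coe, fixset_eq] at h
    exact h
  have h1 : qSize a t ≡ q0 [MOD p] := by
    rw [qSize_eq hS h2]
    exact hpow _ fun g hg x hx => conj_mem_invSub hS h2 hg hx
  have h3 : qSize a t ^ 3 ≡ Nat.card CQ [MOD p] := by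
    rw [← hC.card_eq]
    exact hpow _ fun g hg x hx => hS.conj_mem g (Subgroup.mem_inf.1 hg).1 x hx
  have hdvd : p ∣ q0 ^ 3 + 1 :=
    Nat.modEq_zero_iff_dvd.1 (((h1.pow 3).symm.add_right 1).trans (Nat.modEq_zero_iff_dvd.2 hv.dvd))
  refine ⟨hdvd, ?_, fun d hd hdc => ?_⟩
  · obtain ⟨j, hj⟩ := isPGroup_le hS h2 hC (H := CQ) inf_le_right
    obtain ⟨m, hm⟩ := isPGroup_le hS h2 hC (H := cZ)
      (fun z hz => invSub_le_Q hS h2 (Subgroup.mem_inf.1 hz).2)
    have hm1 : 1 ≤ m := by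
      rcases Nat.eq_zero_or_pos m with rfl | h
      · rw [← hq0] at hm; simp at hm; omega
      · exact h
    have hle : Nat.card CQ ≤ q0 ^ 3 := card_cube_centralizer hS h2 hC v
    have hlt : q0 < Nat.card CQ := by
      obtain ⟨y, hy, hyZ, hvy⟩ := exists_fixed_outside hS h2 hC hW hv
      have hle' : cZ ≤ CQ := inf_le_inf_left _ fun z hz => invSub_le_Q hS h2 hz
      refine lt_of_le_of_ne (Subgroup.card_le_of_le hle') fun h => hyZ ?_
      have hyc : y ∈ CQ := Subgroup.mem_inf.2 ⟨Subgroup.mem_centralizer_singleton_iff.2 hvy.symm, hy⟩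
      rw [← Subgroup.eq_of_le_of_card_ge hle' h.ge] at hyc
      exact (Subgroup.mem_inf.1 hyc).2
    have hdiv : m ∣ j := by
      have h := sub_one_dvd hS h2 hC hW hv
      rw [← hcZ, ← hCQ, hj, hm] at h
      have hg := Nat.pow_sub_one_gcd_pow_sub_one 2 m j
      rw [Nat.gcd_eq_left h] at hg
      have hpos := Nat.one_le_two_pow (n := m)
      have hpos' := Nat.one_le_two_pow (n := Nat.gcd m j)
      have e : (2 : ℕ) ^ m = 2 ^ Nat.gcd m j := by omega
      exact Nat.gcd_eq_left_iff_dvd.1 (Nat.pow_right_injective (le_refl 2) e).symm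
    obtain ⟨k, rfl⟩ := hdiv
    rw [← hq0] at hm
    have hCQk : Nat.card CQ = q0 ^ k := by rw [hj, hm, pow_mul]
    rw [hCQk] at hlt hle h3 ⊢
    have hk3 : k ≤ 3 := (Nat.pow_le_pow_iff_right (by omega)).1 hle
    have hk1 : 1 < k := by
      by_contra h
      have := Nat.pow_le_pow_right (show 0 < q0 by omega) (show k ≤ 1 by omega)
      rw [pow_one] at this
      omega
    rcases (show k = 2 ∨ k = 3 by omega) with rfl | rfl
    · exfalso
      have e3 : ((q0 : ZMod p)) ^ 3 + 1 = 0 := by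
        have := (ZMod.natCast_eq_zero_iff (q0 ^ 3 + 1) p).2 hdvd
        push_cast at this
        exact this
      have e2 : ((q0 : ZMod p)) ^ 2 = (q0 : ZMod p) ^ 3 := by
        have := (ZMod.natCast_eq_natCast_iff _ _ p).2 (h3.symm.trans (h1.pow 3))
        push_cast at this
        exact this
      have hne : (q0 : ZMod p) ≠ 0 := fun h => by rw [h] at e3; simp at e3
      have hone : (q0 : ZMod p) = 1 := by
        have h' : (q0 : ZMod p) ^ 2 * 1 = (q0 : ZMod p) ^ 2 * q0 := by rw [mul_one, ← pow_succ]; exact e2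
        exact (mul_left_cancel₀ (pow_ne_zero 2 hne) h').symm
      rw [hone, one_pow] at e3
      have h2' : ((2 : ℕ) : ZMod p) = 0 := by push_cast; rw [← one_add_one_eq_two]; exact e3
      rw [ZMod.natCast_eq_zero_iff] at h2'
      have := Nat.le_of_dvd (by norm_num) h2'
      have := three_le_prime hS h2 hC hW hv
      omega
    · rfl
  · rw [hV0eq]
    refine Subgroup.mem_inf.2 ⟨hsV d hd ?_, Subgroup.mem_centralizer_iff.2 fun z hz => (hdc z hz).symm⟩
    rw [hdc s hscZ, mul_inv_cancel_right]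

end Cfsg.Agent.RankOne
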