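import Cfsg.Agent.Lib.RankOneW.Small
import Cfsg.Agent.Lib.Recog.SL2Orders

/-!
# An element of order `q + 1` in the small group
-/

set_option autoImplicit false
set_option linter.unusedSectionVars false
set_option linter.style.haveILetI false

namespace Cfsg.Agent.RankOne

open MulAction

variable {G Ω : Type*} [Group G] [MulAction G Ω] {a : Ω} {t : G} {Q : Subgroup G}
variable [Finite G] (hS : Cfsg.IsRankOneSetup G Ω a t Q)
  (h2 : ∃ x y : G, x ≠ 1 ∧ y ≠ 1 ∧ x ≠ y ∧ x * x = 1 ∧ y * y = 1 ∧ x * y = y * x)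
  (hr : RInvol hS h2)
include hS h2 hr

/-- The small group contains an element of order `q + 1`. -/
theorem exists_orderOf_succ : ∃ g ∈ smallGroup a t, orderOf g = qSize a t + 1 := by
  classical
  have := finite_points hS
  set L := smallGroup a t with hL
  let Δ := orbitSet hS h2
  letI : MulAction L Δ :=
    { smul := fun x c => ⟨(x : G) • c.1, smul_orbitSet hS h2 hr x.2 c.2⟩
      one_smul := fun c => Subtype.ext (one_smul G c.1)
      mul_smul := fun x y c => Subtype.ext (mul_smul (x : G) (y : G) c.1) }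
  have hsmul : ∀ (x : L) (c : Δ), ((x • c : Δ) : Ω) = (x : G) • (c : Ω) := fun _ _ => rfl
  let a' : Δ := ⟨a, Or.inl rfl⟩
  let t' : L := ⟨t, t_mem_small hS h2⟩
  let Q' : Subgroup L := (invSub hS h2).subgroupOf L
  have hta : ((t' • a' : Δ) : Ω) = t • a := rfl
  have hmem_a : ∀ {x : L}, x ∈ stabilizer L a' ↔ (x : G) • a = a := fun {x} =>
    ⟨fun h => congrArg Subtype.val h, fun h => Subtype.ext h⟩
  have hmem_ta : ∀ {x : L}, x ∈ stabilizer L (t' • a') ↔ (x : G) • (t • a) = t • a := fun {x} =>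
    ⟨fun h => congrArg Subtype.val h, fun h => Subtype.ext h⟩
  have hS' : Cfsg.IsRankOneSetup L Δ a' t' Q' := by
    refine ⟨?_, Subtype.ext hS.mul_self, fun h => hS.ne_one (congrArg Subtype.val h),
      fun h => ta_ne hS (hmem_a.1 h), fun x hx => hmem_a.2 (z_smul_a hS h2 hx),
      fun h hh x hx => ?_, ?_, le_antisymm (sup_le (fun x hx => hmem_a.2 (z_smul_a hS h2 hx)) inf_le_left)
        fun x hx => ?_, ?_, ?_⟩
    · rw [MulAction.is_two_pretransitive_iff]
      intro b c b' c' hbc hbc'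
      obtain ⟨g, hg, g1, g2⟩ := small_move hS h2 hr b.2 c.2 fun h => hbc (Subtype.ext h)
      obtain ⟨g', hg', g1', g2'⟩ := small_move hS h2 hr b'.2 c'.2 fun h => hbc' (Subtype.ext h)
      refine ⟨⟨g' * g⁻¹, mul_mem hg' (inv_mem hg)⟩, Subtype.ext ?_, Subtype.ext ?_⟩
      · show (g' * g⁻¹) • (b : Ω) = b'
        rw [← g1, mul_smul, inv_smul_smul, g1']
      · show (g' * g⁻¹) • (c : Ω) = c'
        rw [← g2, mul_smul, inv_smul_smul, g2']
    · obtain ⟨z, hz, k, hk, e⟩ := small_move_a hS h2 hr h.2 (hmem_a.1 hh)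
      show (h : G) * (x : G) * (h : G)⁻¹ ∈ invSub hS h2
      rw [e]
      have h1 := invK_conj_invSub hS h2 hk (z := (x : G)) hx
      rw [show z * k * (x : G) * (z * k)⁻¹ = z * (k * (x : G) * k⁻¹) * z⁻¹ by group]
      exact mul_mem (mul_mem hz h1) (inv_mem hz)
    · rw [eq_bot_iff]
      intro x hx
      obtain ⟨hx1, hx2⟩ := Subgroup.mem_inf.1 hx
      by_contra hne
      exact ta_ne hS (eq_a_of_fixed hS (invSub_le_Q hS h2 hx1)
        (fun h => hne (Subgroup.mem_bot.2 (Subtype.ext h))) (hmem_ta.1 hx2))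
    · obtain ⟨z, hz, k, hk, e⟩ := small_move_a hS h2 hr x.2 (hmem_a.1 hx)
      rw [show x = (⟨z, invSub_le_small hS h2 hz⟩ : L) * ⟨k, invK_le_small hS h2 hk⟩ from Subtype.ext e]
      exact mul_mem (Subgroup.mem_sup_left hz) (Subgroup.mem_sup_right (Subgroup.mem_inf.2
        ⟨hmem_a.2 (mem_twoStab hS (invK_le hS hk)).1, hmem_ta.2 (mem_twoStab hS (invK_le hS hk)).2⟩))
    · rw [even_iff_two_dvd,
        Nat.card_congr (Subgroup.subgroupOfEquivOfLe (invSub_le_small hS h2)).toEquiv, ← qSize_eq hS h2]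
      obtain ⟨n, hn, hq⟩ := qSize_pow hS h2
      rw [hq]
      exact dvd_pow_self 2 (by omega)
    · refine hS.odd_card.of_dvd_nat (Subgroup.card_dvd_of_injective
        ({ toFun := fun x => ⟨((x : L) : G), Subgroup.mem_inf.2
              ⟨hmem_a.1 (Subgroup.mem_inf.1 x.2).1, hmem_ta.1 (Subgroup.mem_inf.1 x.2).2⟩⟩
           map_one' := rfl
           map_mul' := fun _ _ => rfl } : ↥(stabilizer L a' ⊓ stabilizer L (t' • a')) →* twoStab a t)
        fun x y h => Subtype.ext (Subtype.ext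
          (congrArg (fun z : twoStab a t => (z : G)) h)))
  have h2' : ∃ x y : L, x ≠ 1 ∧ y ≠ 1 ∧ x ≠ y ∧ x * x = 1 ∧ y * y = 1 ∧ x * y = y * x := by
    obtain ⟨s, s', hs, hs', hne, hc⟩ := two_invol_fixing hS h2
    exact ⟨⟨s, invSub_le_small hS h2 (Or.inr hs)⟩, ⟨s', invSub_le_small hS h2 (Or.inr hs')⟩,
      fun h => hs.2.1 (congrArg Subtype.val h), fun h => hs'.2.1 (congrArg Subtype.val h),
      fun h => hne (congrArg Subtype.val h), Subtype.ext hs.2.2, Subtype.ext hs'.2.2, Subtype.ext hc⟩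
  haveI hfaith : FaithfulSMul L Δ := ⟨fun {x y} h => by
    obtain ⟨s, hs, -⟩ := id hr
    have hfix : ∀ p ∈ Δ, ((y : G)⁻¹ * x) • p = p := fun p hp => by
      rw [mul_smul, show (x : G) • p = (y : G) • p from congrArg Subtype.val (h (⟨p, hp⟩ : Δ)), inv_smul_smul]
    have hta' : t • a ∈ Δ := Or.inr ⟨1, one_mem _, one_smul _ _⟩
    have hk := small_twoStab hS h2 hr (mul_mem (inv_mem y.2) x.2)
      (Subgroup.mem_inf.2 ⟨hfix a (Or.inl rfl), hfix _ hta'⟩)
    by_contra hne
    rcases inverted_fixed hS ((mem_invK hS h2).1 hk)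
      (fun e => hne (Subtype.ext (inv_mul_eq_one.1 e).symm)) (e := s • (t • a))
      (hfix _ (Or.inr ⟨s, Or.inr hs, rfl⟩)) with e | e
    · exact ta_ne hS (MulAction.injective s (e.trans (hs.1 : s • a = a).symm))
    · exact ta_ne hS (eq_a_of_fixed hS (invSub_le_Q hS h2 (Or.inr hs)) hs.2.1 e)⟩
  haveI : Fintype Δ := Fintype.ofFinite _
  have hQQ : Q' = invSub hS' h2' := by
    refine le_antisymm (fun x hx => ?_) (fun x hx => invSub_le_Q hS' h2' hx)
    exact mem_invSub_of_sq hS' h2' hx (Subtype.ext (invSub_sq hS h2 hx))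
  have hcard : Nat.card Q' = Nat.card (invSub hS' h2') := by rw [← hQQ]
  have hQq : Nat.card Q' = qSize a t := by
    rw [qSize_eq hS h2]
    exact Nat.card_congr (Subgroup.subgroupOfEquivOfLe (invSub_le_small hS h2)).toEquiv
  have hall := hall_small hS' h2' (Or.inl hcard)
  set M := thin a' t' Q' with hM
  have hZ : Cfsg.IsZassenhausGroup M Δ := thin_zassenhaus hS' h2' hall
  haveI : IsSimpleGroup M := ZassNormal.simple_of_odd hZ (by
    rw [← Nat.card_eq_fintype_card]; exact odd_card_points hS')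
  letI : Fintype M := Fintype.ofFinite M
  set H : Subgroup M := Q'.subgroupOf M with hH
  have hHQ : Nat.card H = Nat.card Q' := Nat.card_congr (Subgroup.subgroupOfEquivOfLe Q_le_thin).toEquiv
  have D : ZassKer.Ker a' (t' • a') H := by
    refine ⟨hZ, (ta_ne hS').symm, fun x hx => smul_a hS' (show (x : L) ∈ Q' from hx), ?_,
      fun u hu hu1 c hc =>
      eq_a_of_fixed hS' (show (u : L) ∈ Q' from hu) (fun h => hu1 (Subtype.ext h)) hc, fun g hg u hu =>
      hS'.conj_mem (g : L) (show (g : L) • a' = a' from hg) _ hu⟩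
    rw [hHQ, ← Nat.card_eq_fintype_card, card_points hS']
  have htwo : Nat.card (Zass.two (G := M) a' (t' • a')) = Nat.card (invK a' t') := by
    refine Nat.card_congr
      { toFun := fun x => ⟨((x : M) : L), thin_two hS' h2' hall (x : M).2 x.2⟩
        invFun := fun x => ⟨⟨x, invK_le_thin x.2⟩, invK_le hS' x.2⟩
        left_inv := fun x => rfl
        right_inv := fun x => rfl }
  have hK := card_invK hS' h2'
  have hne : ∀ u ∈ H, ∀ v ∈ H, u * v = v * u := by
    intro u hu v hv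
    have hu' : (u : L) ∈ invSub hS' h2' := hQQ ▸ hu
    exact Subtype.ext (invSub_comm hS' h2' hu' (show (v : L) ∈ Q' from hv))
  have A := D.ab hne
  have heq : Nat.card (Zass.two (G := M) a' (t' • a')) = Nat.card H - 1 := by
    rw [htwo, hHQ, hcard]; omega
  obtain ⟨h3, hs3⟩ := A.sharply heq
  obtain ⟨p, f, hp, hf, hpf⟩ := (isPrimePow_nat_iff _).mp D.isPrimePow
  haveI := Fact.mk hp
  have hp2 : p = 2 := by
    have h2d : 2 ∣ Nat.card H := hHQ ▸ hS'.even_card.two_dvd
    rw [← hpf] at h2d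
    exact ((Nat.prime_dvd_prime_iff_eq Nat.prime_two hp).1 (Nat.prime_two.dvd_of_dvd_pow h2d)).symm
  subst hp2
  obtain ⟨e1⟩ := SharpEven.equiv_pgl hf (by rw [Nat.card_eq_fintype_card, ← D.card, hpf])
    (SharpEven.sharp3_of_pretransitive h3 hs3)
  haveI : Fintype (GaloisField 2 f) := Fintype.ofFinite _
  have hF : Fintype.card (GaloisField 2 f) = 2 ^ f := by
    rw [← Nat.card_eq_fintype_card, GaloisField.card 2 f (by omega)]
  obtain ⟨e2⟩ := SharpEven.psl_equiv_pgl (F := GaloisField 2 f) (f := f) hF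
  obtain ⟨g, hg⟩ := Cfsg.Agent.SL2Orders.exists_orderOf_nonsplit (F := GaloisField 2 f) 2
  refine ⟨((((e1.trans e2.symm).symm g : M) : L) : G), ((e1.trans e2.symm).symm g : M).1.2, ?_⟩
  rw [Subgroup.orderOf_coe, Subgroup.orderOf_coe, MulEquiv.orderOf_eq, hg, hF, hpf, hHQ, hQq]
  obtain ⟨n, hn, hq⟩ := qSize_pow hS h2
  rw [hq]
  show (2 ^ n + 1) / (2 ^ n + 1).gcd 2 = 2 ^ n + 1
  rw [Nat.Coprime.gcd_eq_one (Nat.coprime_two_right.2 (by
    rw [Nat.odd_add_one, Nat.not_odd_iff_even, Nat.even_pow]; exact ⟨even_two, by omega⟩)), Nat.div_one]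

end Cfsg.Agent.RankOne
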