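import Cfsg.Agent.Lib.Char.ExtensionChar
import Cfsg.Agent.Lib.Char.Induction
import Cfsg.Agent.Lib.Char.Degree
import Mathlib.Analysis.SpecialFunctions.Complex.CircleAddChar
import Mathlib.NumberTheory.LegendreSymbol.AddCharacter
import Mathlib.RingTheory.RootsOfUnity.PrimitiveRoots

/-!
# Characters of the cyclic group of order nine and auxiliary facts

The characters of `ZMod 9` and the determinant of a representation on an element of order dividing
nine in terms of the multiplicities of the eigenvalues.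
-/

set_option autoImplicit false
set_option linter.unusedSectionVars false
set_option linter.style.haveILetI false

namespace Cfsg.Agent.RankOne.PocketChar

open Cfsg.Agent.Char Module
open scoped Classical ComplexConjugate

universe u

/-- The standard character of `ZMod 9`. -/
noncomputable def ep : AddChar (ZMod 9) ℂ := ZMod.stdAddChar

theorem conj_ep (i : ZMod 9) : conj (ep i) = ep (-i) := by
  rw [AddChar.map_neg_eq_inv]
  exact (Complex.inv_eq_conj (by rw [ep, ZMod.stdAddChar_apply]; exact Circle.norm_coe _)).symm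

theorem ep_inj {i j : ZMod 9} (h : ep i = ep j) : i = j := ZMod.injective_stdAddChar h

theorem ep_sum (i : ZMod 9) : ∑ j : ZMod 9, ep (j * i) = if i = 0 then 9 else 0 := by
  have h := AddChar.sum_mulShift i (ψ := ep) (ZMod.isPrimitive_stdAddChar 9)
  rw [ZMod.card] at h
  simpa using h

theorem ep_cube_sum (i : ZMod 9) :
    ep 0 + ep (-(3 * i)) + ep (-(6 * i)) = if 3 * i = 0 then 3 else 0 := by
  have h6 : -(6 * i) = -(3 * i) + -(3 * i) := by ring
  rw [h6, AddChar.map_add_eq_mul, AddChar.map_zero_eq_one]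
  split_ifs with h
  · rw [h, neg_zero, AddChar.map_zero_eq_one]; norm_num
  · have h3 : ep (-(3 * i)) ^ 3 = 1 := by
      rw [← AddChar.map_nsmul_eq_pow, nsmul_eq_mul, ← AddChar.map_zero_eq_one ep]
      refine congrArg ep ?_
      rw [show ((3 : ℕ) : ZMod 9) * -(3 * i) = (9 : ZMod 9) * -i by push_cast; ring,
        show (9 : ZMod 9) = 0 from rfl, zero_mul]
    have h1 : ep (-(3 * i)) ≠ 1 := fun e =>
      h (neg_eq_zero.1 (ep_inj (e.trans (AddChar.map_zero_eq_one ep).symm)))
    refine mul_left_cancel₀ (sub_ne_zero.2 h1) ?_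
    linear_combination h3

theorem exists_ep {c : ℂ} (hc : c ^ 9 = 1) : ∃ j : ZMod 9, c = ep j := by
  have hprim : IsPrimitiveRoot (ep 1) 9 := by
    refine IsPrimitiveRoot.iff (by norm_num) |>.2 ⟨?_, fun l hl hl' h => ?_⟩
    · rw [← AddChar.map_nsmul_eq_pow, ← AddChar.map_zero_eq_one ep]
      rfl
    · rw [← AddChar.map_nsmul_eq_pow, ← AddChar.map_zero_eq_one ep] at h
      have h0 := ep_inj h
      rw [nsmul_eq_mul, mul_one, ZMod.natCast_eq_zero_iff] at h0
      exact absurd (Nat.le_of_dvd hl h0) (not_le.2 hl')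
  obtain ⟨l, -, hl⟩ := hprim.eq_pow_of_pow_eq_one hc
  exact ⟨l • 1, by rw [← hl, AddChar.map_nsmul_eq_pow]⟩

/-- The multiplicities of the eigenvalues give the character and the determinant. -/
theorem exists_det {n : ℕ} (ρ : Representation ℂ (Multiplicative (ZMod 9)) (Fin n → ℂ)) :
    ∃ m : ZMod 9 → ℕ, (∀ i, ρ.character (Multiplicative.ofAdd i) = ∑ j, (m j : ℂ) * ep (j * i)) ∧
      LinearMap.det (ρ (Multiplicative.ofAdd 1)) = ep (∑ j, m j • j) := by
  refine rep_induction (G := Multiplicative (ZMod 9)) (P := fun U _ _ _ τ =>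
    ∃ m : ZMod 9 → ℕ, (∀ i, τ.character (Multiplicative.ofAdd i) = ∑ j, (m j : ℂ) * ep (j * i)) ∧
      LinearMap.det (τ (Multiplicative.ofAdd 1)) = ep (∑ j, m j • j)) ?_ ?_ ?_ _ ρ
  · intro U _ _ _ _ τ
    refine ⟨0, fun i => ?_, ?_⟩
    · simp [Representation.character, Subsingleton.elim (τ (Multiplicative.ofAdd i)) 0]
    · rw [LinearMap.det_eq_one_of_subsingleton]; simp
  · intro U _ _ _ τ _
    have h1 : finrank ℂ U = 1 := Representation.IsIrreducible.finrank_eq_one_of_isMulCommutative τ
    obtain ⟨c, hc⟩ := schur_scalar τ (τ (Multiplicative.ofAdd 1)) (fun x u => by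
      rw [← Module.End.mul_apply, ← map_mul, ← Module.End.mul_apply, ← map_mul, mul_comm])
    have hdet : LinearMap.det (τ (Multiplicative.ofAdd 1)) = c := by
      rw [hc, LinearMap.det_smul, h1, pow_one, LinearMap.det_id, mul_one]
    have hc9 : c ^ 9 = 1 := by
      rw [← hdet, ← map_pow, ← map_pow,
        show (Multiplicative.ofAdd (1 : ZMod 9)) ^ 9 = 1 from rfl, map_one, map_one]
    obtain ⟨j, rfl⟩ := exists_ep hc9
    refine ⟨Pi.single j 1, fun i => ?_, ?_⟩
    · obtain ⟨l, rfl⟩ := ZMod.natCast_zmod_surjective i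
      rw [show Multiplicative.ofAdd (l : ZMod 9) = Multiplicative.ofAdd 1 ^ l by
        rw [← ofAdd_nsmul, nsmul_eq_mul, mul_one]]
      rw [Representation.character, map_pow, hc, smul_pow, ← Module.End.one_eq_id, one_pow,
        Module.End.one_eq_id, map_smul, LinearMap.trace_id, h1, ← AddChar.map_nsmul_eq_pow,
        nsmul_eq_mul, Fintype.sum_eq_single j fun x hx => by
          rw [Pi.single_eq_of_ne hx, Nat.cast_zero, zero_mul]]
      simp [mul_comm]
    · rw [hdet, Fintype.sum_eq_single j fun x hx => by rw [Pi.single_eq_of_ne hx, zero_smul],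
        Pi.single_eq_same, one_smul]
  · intro U _ _ _ τ a b hab ⟨m, hm1, hm2⟩ ⟨m', hm1', hm2'⟩
    refine ⟨m + m', fun i => ?_, ?_⟩
    · rw [character_split hab, Pi.add_apply, hm1, hm1', ← Finset.sum_add_distrib]
      simp [add_mul]
    · rw [CharExtend.det_eq_of_equiv (prodEquiv hab)]
      show LinearMap.det ((a.toRepresentation (Multiplicative.ofAdd 1)).prodMap
        (b.toRepresentation (Multiplicative.ofAdd 1))) = _
      rw [LinearMap.det_prodMap, hm2, hm2', ← AddChar.map_add_eq_mul, ← Finset.sum_add_distrib]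
      simp [add_smul]

/-- A subgroup of index two gives a character with values `1` and `-1`. -/
theorem exists_sign {M : Type u} [Group M] (N : Subgroup M) (h : N.index = 2) :
    Cfsg.IsCharacter M (fun x => if x ∈ N then (1 : ℂ) else -1) := by
  let f : M →* ℂˣ := MonoidHom.mk' (fun x => if x ∈ N then 1 else -1) fun x y => by
    have := Subgroup.mul_mem_iff_of_index_two h (a := x) (b := y)
    by_cases hx : x ∈ N <;> by_cases hy : y ∈ N <;> simp [hx, hy, this]
  have e : (fun x : M => if x ∈ N then (1 : ℂ) else -1) = fun x => (f x : ℂ) := by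
    funext x
    show _ = ((if x ∈ N then (1 : ℂˣ) else -1 : ℂˣ) : ℂ)
    split_ifs <;> simp
  rw [e]
  exact IsIrrCharacter.isCharacter (isIrrCharacter_linear f)

/-- An irreducible constituent may be subtracted from a character. -/
theorem sub_constituent {M : Type u} [Group M] [Fintype M] {χ θ : M → ℂ}
    (hχ : Cfsg.IsCharacter M χ) (hθ : Cfsg.IsIrrCharacter M θ) (h : Cfsg.classInner χ θ ≠ 0) :
    Cfsg.IsCharacter M (χ - θ) := by
  refine isCharacter_of_classInner (fun g x => by
    simp only [Pi.sub_apply, IsCharacter.isClassFunction hχ g x,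
      IsCharacter.isClassFunction (IsIrrCharacter.isCharacter hθ) g x]) fun φ => ?_
  obtain ⟨n, hn⟩ := IsCharacter.exists_classInner_nat hχ (IsIrrCharacter.isCharacter φ.2)
  rw [classInner_sub_left, hn]
  by_cases he : θ = φ
  · rw [← he, classInner_self_irr hθ]
    have hn0 : n ≠ 0 := fun h0 => h (by rw [he, hn, h0, Nat.cast_zero])
    exact ⟨n - 1, by rw [Nat.cast_sub (Nat.one_le_iff_ne_zero.2 hn0), Nat.cast_one]⟩
  · exact ⟨n, by rw [classInner_irr_of_ne hθ φ.2 he, sub_zero]⟩

end Cfsg.Agent.RankOne.PocketChar
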