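import Cfsg.Agent.Lib.RankOneW.Galois

/-!
# The case `q = 8`, `|W| = 3`, `|V| = 9`: group-theoretic facts
-/

set_option autoImplicit false
set_option linter.unusedSectionVars false
set_option linter.style.haveILetI false

namespace Cfsg.Agent.RankOne

open MulAction

universe u v

/-- The elements of the two-point stabiliser centralising `t`. -/
abbrev pocketV {G : Type u} {Ω : Type v} [Group G] [MulAction G Ω] (a : Ω) (t : G) : Subgroup G :=
  twoStab a t ⊓ Subgroup.centralizer {t}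

/-- The configuration `q = 8`, `|W| = 3`, `V` cyclic of order nine. -/
structure Pocket {G : Type u} {Ω : Type v} [Group G] [MulAction G Ω] (a : Ω) (t : G)
    (Q : Subgroup G) : Prop where
  setup : Cfsg.IsRankOneSetup G Ω a t Q
  two : ∃ x y : G, x ≠ 1 ∧ y ≠ 1 ∧ x ≠ y ∧ x * x = 1 ∧ y * y = 1 ∧ x * y = y * x
  cube : IsCube a t Q
  size : qSize a t = 8
  w_card : Nat.card (wSub a t) = 3
  v_cyc : IsCyclic (twoStab a t ⊓ Subgroup.centralizer {t} : Subgroup G)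
  v_card : Nat.card (twoStab a t ⊓ Subgroup.centralizer {t} : Subgroup G) = 9

theorem pocket_arith {j : ℕ} (h1 : 0 < 9 * j) (h2 : 9 * j ≤ 63) (h3 : 9 * j * 8 + 8 ∣ 512) :
    9 * j = 63 := by
  have : j ≤ 7 := by omega
  interval_cases j <;> omega

namespace Pocket

variable {G : Type u} {Ω : Type v} [Group G] [MulAction G Ω] {a : Ω} {t : G} {Q : Subgroup G}

local notation "V" => pocketV a t
local notation "K" => invK a t
local notation "D" => twoStab a t

variable [Finite G] (P : Pocket a t Q)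
include P

/-- The involutions of the point stabiliser, with `1`. -/
abbrev Z (P : Pocket a t Q) : Subgroup G := invSub P.setup P.two

theorem card_Z : Nat.card P.Z = 8 := (qSize_eq P.setup P.two).symm.trans P.size

theorem card_Q : Nat.card Q = 512 := by rw [P.cube.card_eq, P.size]; norm_num

theorem card_K : Nat.card K = 7 := by
  have h : Nat.card (Cfsg.invertedBy D t) + 1 = 8 := P.size
  rw [Nat.card_congr (Equiv.subtypeEquivRight (p := (· ∈ K))
    (q := (· ∈ Cfsg.invertedBy D t)) fun k => mem_invK P.setup P.two)]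
  change Nat.card {x // x ∈ Cfsg.invertedBy D t} + 1 = 8 at h
  omega

theorem card_D : Nat.card D = 63 := by
  rw [card_decomp P.setup.mul_self D P.setup.odd_card fun x hx => conj_twoStab P.setup hx, P.v_card]
  have h : Nat.card (Cfsg.invertedBy D t) + 1 = 8 := P.size
  rw [show Nat.card (Cfsg.invertedBy D t) = 7 from by omega]

theorem card_G : Nat.card G = 512 * 63 * 513 := by
  rw [card_group P.setup, P.card_Q, P.card_D]

theorem Z_le {z : G} (hz : z ∈ P.Z) : z ∈ Q := invSub_le_Q P.setup P.two hz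

theorem Z_sq {z : G} (hz : z ∈ P.Z) : z * z = 1 := invSub_sq P.setup P.two hz

theorem Z_comm {z y : G} (hz : z ∈ P.Z) (hy : y ∈ Q) : z * y = y * z :=
  invSub_comm P.setup P.two hz hy

theorem Z_conj {d z : G} (hd : d ∈ D) (hz : z ∈ P.Z) : d * z * d⁻¹ ∈ P.Z :=
  conj_mem_invSub P.setup P.two hd hz

theorem Q_conj {d x : G} (hd : d ∈ D) (hx : x ∈ Q) : d * x * d⁻¹ ∈ Q :=
  P.setup.conj_mem d (Subgroup.mem_inf.1 hd).1 x hx

theorem K_le {k : G} (hk : k ∈ K) : k ∈ D := invK_le P.setup hk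

theorem v_le {v : G} (hv : v ∈ V) : v ∈ D := (Subgroup.mem_inf.1 hv).1

theorem v_comm {v v' : G} (hv : v ∈ V) (hv' : v' ∈ V) : v * v' = v' * v := by
  haveI := P.v_cyc
  exact congrArg Subtype.val ((IsCyclic.isMulCommutative (α := V)).is_comm.comm ⟨v, hv⟩ ⟨v', hv'⟩)

theorem v_pow_nine {v : G} (hv : v ∈ V) : v ^ 9 = 1 := by
  have := congrArg Subtype.val (pow_card_eq_one' (G := V) (x := ⟨v, hv⟩))
  rwa [P.v_card] at this

theorem k_pow_seven {k : G} (hk : k ∈ K) : k ^ 7 = 1 := by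
  have := congrArg Subtype.val (pow_card_eq_one' (G := K) (x := ⟨k, hk⟩))
  rwa [P.card_K] at this

theorem k_eq_one_of_cube {k : G} (hk : k ∈ K) (h : k ^ 3 = 1) : k = 1 := by
  have h7 := P.k_pow_seven hk
  calc k = k ^ 7 * (k ^ 3)⁻¹ * (k ^ 3)⁻¹ := by group
    _ = 1 := by rw [h, h7]; simp

theorem w_mem_v {w : G} (hw : w ∈ wSub a t) : w ∈ V := wSub_le_v P.setup P.two hw

theorem w_pow_three {w : G} (hw : w ∈ wSub a t) : w ^ 3 = 1 := by
  have := congrArg Subtype.val (pow_card_eq_one' (G := wSub a t) (x := ⟨w, hw⟩))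
  rwa [P.w_card] at this

theorem w_of_cube {v : G} (hv : v ∈ V) (h : v ^ 3 = 1) : v ∈ wSub a t := by
  classical
  haveI := P.v_cyc
  haveI : Fintype V := Fintype.ofFinite _
  haveI : Fintype (wSub a t) := Fintype.ofFinite _
  by_contra hn
  let f : wSub a t → V := fun w => ⟨w, P.w_mem_v w.2⟩
  have hsub : insert (⟨v, hv⟩ : V) (Finset.univ.image f) ⊆
      Finset.univ.filter fun x : V => x ^ 3 = 1 := by
    intro x hx
    rw [Finset.mem_filter]
    refine ⟨Finset.mem_univ _, ?_⟩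
    rcases Finset.mem_insert.1 hx with rfl | hx
    · exact Subtype.ext h
    · obtain ⟨w, -, rfl⟩ := Finset.mem_image.1 hx
      exact Subtype.ext (P.w_pow_three w.2)
  have h4 := (Finset.card_le_card hsub).trans (IsCyclic.card_pow_eq_one_le (α := V) (n := 3) (by norm_num))
  rw [Finset.card_insert_of_notMem, Finset.card_image_of_injective, Finset.card_univ,
    ← Nat.card_eq_fintype_card, P.w_card] at h4
  · omega
  · intro x y hxy
    exact Subtype.ext (congrArg (fun z : V => (z : G)) hxy)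
  · intro hm
    obtain ⟨w, -, hw⟩ := Finset.mem_image.1 hm
    have hwv : (w : G) = v := congrArg Subtype.val hw
    exact hn (hwv ▸ w.2)

theorem cube_mem_w {v : G} (hv : v ∈ V) : v ^ 3 ∈ wSub a t :=
  P.w_of_cube (pow_mem hv 3) (by rw [← pow_mul]; exact P.v_pow_nine hv)

/-- `D = K V`. -/
theorem exists_kv {d : G} (hd : d ∈ D) : ∃ k ∈ K, ∃ v ∈ V, d = k * v := by
  obtain ⟨y, z, hy, hyf, hz, rfl⟩ :=
    exists_decomp P.setup.mul_self P.setup.odd_card (fun x hx => conj_twoStab P.setup hx) hd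
  exact ⟨y * z * y⁻¹, conj_mem_invK P.setup P.two hy (Subgroup.subset_closure hz), y,
    Subgroup.mem_inf.2 ⟨hy, mem_centralizer_iff_conj.2 hyf⟩, by group⟩

theorem kv_unique {k k' v v' : G} (hk : k ∈ K) (hk' : k' ∈ K) (hv : v ∈ V) (hv' : v' ∈ V)
    (h : k * v = k' * v') : k = k' ∧ v = v' := by
  have e : k'⁻¹ * k = v' * v⁻¹ := by
    calc k'⁻¹ * k = k'⁻¹ * (k * v) * v⁻¹ := by group
      _ = _ := by rw [h]; group
  have hkK : k'⁻¹ * k ∈ Cfsg.invertedBy D t := (mem_invK P.setup P.two).1 (mul_mem (inv_mem hk') hk)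
  have hkC : t * (k'⁻¹ * k) * t⁻¹ = k'⁻¹ * k := by
    rw [e]
    exact mem_centralizer_iff_conj.1 (Subgroup.mem_inf.1 (mul_mem hv' (inv_mem hv))).2
  have h2 : (k'⁻¹ * k) ^ 2 = 1 := by
    have e2 := hkK.2.symm.trans hkC
    rw [pow_two]
    nth_rewrite 1 [← e2]
    exact inv_mul_cancel _
  have h1 : k'⁻¹ * k = 1 := by
    have h7 := P.k_pow_seven (mul_mem (inv_mem hk') hk)
    calc k'⁻¹ * k = (k'⁻¹ * k) ^ 7 * ((k'⁻¹ * k) ^ 2)⁻¹ * ((k'⁻¹ * k) ^ 2)⁻¹ * ((k'⁻¹ * k) ^ 2)⁻¹ := by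
          group
      _ = 1 := by rw [h2, h7]; simp
  have hkk : k = k' := (inv_mul_eq_one.1 h1).symm
  exact ⟨hkk, mul_left_cancel (hkk ▸ h)⟩

theorem pow_kv {k v : G} (hk : k ∈ K) (hv : v ∈ V) (n : ℕ) :
    ∃ k' ∈ K, (k * v) ^ n = k' * v ^ n := by
  induction n with
  | zero => exact ⟨1, one_mem _, by simp⟩
  | succ n ih =>
    obtain ⟨k', hk', e⟩ := ih
    refine ⟨k' * (v ^ n * k * (v ^ n)⁻¹),
      mul_mem hk' (conj_mem_invK P.setup P.two (pow_mem (P.v_le hv) n) hk), ?_⟩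
    rw [pow_succ, e, pow_succ]
    group

theorem w_comm_k {w k : G} (hw : w ∈ wSub a t) (hk : k ∈ K) : w * k = k * w :=
  wSub_comm_inverted P.setup P.two hw ((mem_invK P.setup P.two).1 hk)

theorem w_comm_z {w z : G} (hw : w ∈ wSub a t) (hz : z ∈ P.Z) : w * z = z * w :=
  ((mem_wSub P.setup P.two).1 hw).2 z hz

theorem mem_w_of_cube {d : G} (hd : d ∈ D) (h : d ^ 3 = 1) : d ∈ wSub a t := by
  obtain ⟨k, hk, v, hv, rfl⟩ := P.exists_kv hd
  obtain ⟨k', hk', e⟩ := P.pow_kv hk hv 3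
  rw [h] at e
  have h1 := P.kv_unique (one_mem _) hk' (one_mem _) (pow_mem hv 3) (by rw [one_mul]; exact e)
  have hw := P.w_of_cube hv h1.2.symm
  have hc : Commute k v := (P.w_comm_k hw hk).symm
  rw [hc.mul_pow, ← h1.2, mul_one] at h
  rw [P.k_eq_one_of_cube hk h, one_mul]
  exact hw

theorem K_fpf {k x : G} (hk : k ∈ K) (hk1 : k ≠ 1) (hx : x ∈ Q) (h : k * x = x * k) : x = 1 := by
  have hb := inverted_fpf P.setup ((mem_invK P.setup P.two).1 hk) hk1
  have hm : x ∈ Q ⊓ Subgroup.centralizer {k} :=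
    Subgroup.mem_inf.2 ⟨hx, Subgroup.mem_centralizer_singleton_iff.2 h.symm⟩
  rw [hb] at hm
  exact Subgroup.mem_bot.1 hm

variable [FaithfulSMul G Ω]

/-- A non-trivial element of `D` centralises only involutions of `Q`. -/
theorem cent_le {d x : G} (hd : d ∈ D) (hd1 : d ≠ 1) (hx : x ∈ Q) (h : d * x = x * d) :
    x ∈ P.Z := by
  have hc : Commute d x := h
  have hW : ∀ e ∈ D, e ≠ 1 → e ^ 3 = 1 → Commute e x → x ∈ P.Z := fun e he he1 he3 hex =>
    cent_wSub P.setup P.two P.cube (P.mem_w_of_cube he he3) he1 hx hex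
  obtain ⟨k, hk, v, hv, rfl⟩ := P.exists_kv hd
  obtain ⟨k', hk', e⟩ := P.pow_kv hk hv 9
  rw [P.v_pow_nine hv, mul_one] at e
  by_cases h9 : (k * v) ^ 9 = 1
  · by_cases h3 : (k * v) ^ 3 = 1
    · exact hW _ hd hd1 h3 hc
    · exact hW _ (pow_mem hd 3) h3 (by rw [← pow_mul]; exact h9) (hc.pow_left 3)
  · rw [P.K_fpf hk' (e ▸ h9) hx (e ▸ (hc.pow_left 9).eq)]
    exact one_mem _

/-- A coset of the involutions normalised by an element of `D` contains a fixed element. -/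
theorem fixed_coset {e x : G} (he : e ∈ D) (hc : x⁻¹ * (e * x * e⁻¹) ∈ P.Z) :
    ∃ z ∈ P.Z, e * (x * z) = x * z * e := by
  set c := x⁻¹ * (e * x * e⁻¹) with hcdef
  let f : ℕ → G := fun i => x⁻¹ * (e ^ i * x * (e ^ i)⁻¹)
  have hf : ∀ i, f i ∈ P.Z ∧ f (i + 1) = c * (e * f i * e⁻¹) := by
    intro i
    have e1 : f (i + 1) = c * (e * f i * e⁻¹) := by
      show x⁻¹ * (e ^ (i + 1) * x * (e ^ (i + 1))⁻¹) = _
      rw [hcdef, pow_succ']; simp only [f]; group
    refine ⟨?_, e1⟩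
    clear e1
    induction i with
    | zero => simp [f]
    | succ i ih =>
      have e1 : f (i + 1) = c * (e * f i * e⁻¹) := by
        show x⁻¹ * (e ^ (i + 1) * x * (e ^ (i + 1))⁻¹) = _
        rw [hcdef, pow_succ']; simp only [f]; group
      rw [e1]
      exact mul_mem hc (P.Z_conj he ih)
  have key : ∀ i, ∃ s ∈ P.Z, e * s * e⁻¹ = c ^ i * s * f i := by
    intro i
    induction i with
    | zero => exact ⟨1, one_mem _, by simp [f]⟩
    | succ i ih =>
      obtain ⟨s, hs, hse⟩ := ih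
      refine ⟨s * f i, mul_mem hs (hf i).1, ?_⟩
      have hcc : c * c = 1 := P.Z_sq hc
      have h1 : e * f i * e⁻¹ = c * f (i + 1) := by
        rw [(hf i).2, ← mul_assoc c, hcc, one_mul]
      have hcomm : s * f i * c = c * (s * f i) :=
        (P.Z_comm hc (P.Z_le (mul_mem hs (hf i).1))).symm
      calc e * (s * f i) * e⁻¹ = (e * s * e⁻¹) * (e * f i * e⁻¹) := by group
        _ = c ^ i * (s * f i * c) * f (i + 1) := by rw [hse, h1]; group
        _ = c ^ (i + 1) * (s * f i) * f (i + 1) := by rw [hcomm, pow_succ]; group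
  obtain ⟨s, hs, hse⟩ := key (orderOf e)
  have hodd : Odd (orderOf e) := odd_orderOf P.setup.odd_card he
  obtain ⟨m, hm⟩ := hodd
  have hcm : c ^ orderOf e = c := by
    rw [hm, pow_succ, pow_mul, pow_two, P.Z_sq hc, one_pow, one_mul]
  have hfm : f (orderOf e) = 1 := by simp [f, pow_orderOf_eq_one]
  rw [hfm, mul_one, hcm] at hse
  refine ⟨s, hs, ?_⟩
  calc e * (x * s) = (e * x * e⁻¹) * (e * s * e⁻¹) * e := by group
    _ = x * (c * c) * s * e := by rw [hse, hcdef]; group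
    _ = x * s * e := by rw [P.Z_sq hc, mul_one]

theorem free {e x : G} (he : e ∈ D) (he1 : e ≠ 1) (hx : x ∈ Q)
    (hc : x⁻¹ * (e * x * e⁻¹) ∈ P.Z) : x ∈ P.Z := by
  obtain ⟨z, hz, hez⟩ := P.fixed_coset he hc
  have h := P.cent_le he he1 (mul_mem hx (P.Z_le hz)) hez
  simpa using mul_mem h (inv_mem hz)

/-- `D` is regular on the non-trivial cosets of the involutions in `Q`. -/
theorem orbit {x : G} (hx : x ∈ Q) (hxZ : x ∉ P.Z) :
    (∀ d ∈ D, ∀ d' ∈ D, ∀ z ∈ P.Z, ∀ z' ∈ P.Z,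
      d⁻¹ * x * d * z = d'⁻¹ * x * d' * z' → d = d' ∧ z = z') ∧
    ∀ y ∈ Q, y ∉ P.Z → ∃ d ∈ D, ∃ z ∈ P.Z, y = d⁻¹ * x * d * z := by
  classical
  have hinj : ∀ d ∈ D, ∀ d' ∈ D, ∀ z ∈ P.Z, ∀ z' ∈ P.Z,
      d⁻¹ * x * d * z = d'⁻¹ * x * d' * z' → d = d' ∧ z = z' := by
    intro d hd d' hd' z hz z' hz' h
    have he : d' * d⁻¹ ∈ D := mul_mem hd' (inv_mem hd)
    by_cases h1 : d' * d⁻¹ = 1
    · have hdd : d' = d := mul_inv_eq_one.1 h1
      subst hdd
      exact ⟨rfl, mul_left_cancel h⟩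
    · refine absurd (P.free he h1 hx ?_) hxZ
      have e : x⁻¹ * (d' * d⁻¹ * x * (d' * d⁻¹)⁻¹) = d' * (z' * z⁻¹) * d'⁻¹ := by
        calc x⁻¹ * (d' * d⁻¹ * x * (d' * d⁻¹)⁻¹)
            = x⁻¹ * d' * (d⁻¹ * x * d * z) * z⁻¹ * d'⁻¹ := by group
          _ = _ := by rw [h]; group
      rw [e]
      exact P.Z_conj hd' (mul_mem hz' (inv_mem hz))
  refine ⟨hinj, fun y hy hyZ => ?_⟩
  let f : D × P.Z → {y : Q // (y : G) ∉ P.Z} := fun p =>
    ⟨⟨(p.1 : G)⁻¹ * x * p.1 * p.2, mul_mem (by simpa using P.Q_conj (inv_mem p.1.2) hx)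
      (P.Z_le p.2.2)⟩, fun h => hxZ (by
        have h' : (p.1 : G)⁻¹ * x * p.1 ∈ P.Z := by simpa using mul_mem h (inv_mem p.2.2)
        simpa [mul_assoc] using P.Z_conj p.1.2 h')⟩
  have hfi : Function.Injective f := fun p q h => by
    obtain ⟨h1, h2⟩ := hinj _ p.1.2 _ q.1.2 _ p.2.2 _ q.2.2
      (congrArg (fun w : {y : Q // (y : G) ∉ P.Z} => ((w : Q) : G)) h)
    exact Prod.ext (Subtype.ext h1) (Subtype.ext h2)
  haveI : Fintype Q := Fintype.ofFinite _
  have hc : Nat.card (D × P.Z) = Nat.card {y : Q // (y : G) ∉ P.Z} := by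
    rw [Nat.card_prod, P.card_D, P.card_Z, Nat.card_eq_fintype_card, Fintype.card_subtype_compl,
      ← Nat.card_eq_fintype_card, ← Nat.card_eq_fintype_card, P.card_Q,
      Nat.card_congr (Subgroup.subgroupOfEquivOfLe
        (show P.Z ≤ Q from fun z hz => P.Z_le hz)).toEquiv |> fun h =>
        (show Nat.card {y : Q // (y : G) ∈ P.Z} = 8 from h.trans P.card_Z)]
  obtain ⟨p, hp⟩ := ((Nat.bijective_iff_injective_and_card f).2 ⟨hfi, hc⟩).2 ⟨⟨y, hy⟩, hyZ⟩
  exact ⟨p.1, p.1.2, p.2, p.2.2,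
    (congrArg (fun w : {y : Q // (y : G) ∉ P.Z} => ((w : Q) : G)) hp).symm⟩

/-- An involution of `G_a` centralised by `V`. -/
def IsBase (P : Pocket a t Q) (s : G) : Prop := s ∈ P.Z ∧ s ≠ 1 ∧ ∀ v ∈ V, v * s = s * v

theorem exists_base : ∃ s, P.IsBase s := by
  obtain ⟨⟨s, r⟩, ⟨hs, hr, heq⟩, -⟩ := structure_equation P.setup
  refine ⟨s, Or.inr hs, hs.2.1, fun v hv => ?_⟩
  have hv' : v ∈ twoStab a t ⊓ Subgroup.centralizer {s} :=
    centralizer_t_eq P.setup hs hr heq ▸ hv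
  exact Subgroup.mem_centralizer_singleton_iff.1 (Subgroup.mem_inf.1 hv').2

variable {s : G} (hs : P.IsBase s)
include hs

theorem fixed_eq {v z : G} (hv : v ∈ V) (hvW : v ∉ wSub a t) (hz : z ∈ P.Z)
    (h : v * z = z * v) : z = 1 ∨ z = s := by
  obtain ⟨o, ho3, -, hdvd, -, hcard, -⟩ :=
    (exists_galois P.setup P.two (n := 3) (by rw [P.size]; norm_num)).2 v hv hvW
  have ho : o = 3 := le_antisymm (Nat.le_of_dvd (by norm_num) hdvd) ho3
  subst ho
  rw [P.size] at hcard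
  have h2 : Nat.card (fixInv P.setup P.two v) = 2 :=
    Nat.pow_left_injective (show 3 ≠ 0 by norm_num) (hcard.trans (by norm_num))
  rw [Nat.card_coe_set_eq] at h2
  have hsub : ({1, s} : Set G) ⊆ fixInv P.setup P.two v := by
    rintro y (rfl | rfl)
    · exact ⟨one_mem _, by simp⟩
    · exact ⟨hs.1, hs.2.2 v hv⟩
  have he := Set.eq_of_subset_of_ncard_le hsub (by rw [h2, Set.ncard_pair hs.2.1.symm])
    (Set.toFinite _)
  have hz' : z ∈ ({1, s} : Set G) := he ▸ (⟨hz, h⟩ : z ∈ fixInv P.setup P.two v)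
  simpa using hz'

theorem v_fpf {v k : G} (hv : v ∈ V) (hvW : v ∉ wSub a t) (hk : k ∈ K) (h : v * k = k * v) :
    k = 1 := by
  obtain ⟨hi, ha⟩ := (mem_involutionsIn P.setup).1 (hs.1.resolve_left hs.2.1)
  have hz : k⁻¹ * s * k ∈ P.Z := by simpa using P.Z_conj (inv_mem (P.K_le hk)) hs.1
  have hc : Commute v (k⁻¹ * s * k) :=
    (((show Commute v k from h).inv_right).mul_right (hs.2.2 v hv)).mul_right h
  rcases P.fixed_eq hs hv hvW hz hc with h1 | h1
  · refine absurd ?_ hs.2.1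
    calc s = k * (k⁻¹ * s * k) * k⁻¹ := by group
      _ = 1 := by rw [h1]; group
  · exact inverted_conj_inj P.setup hi ha ((mem_invK P.setup P.two).1 hk)
      ((mem_invK P.setup P.two).1 (one_mem _)) (by rw [h1]; group)

/-- All elements of `K v` are conjugate under `K`. -/
theorem exists_conj {v k : G} (hv : v ∈ V) (hvW : v ∉ wSub a t) (hk : k ∈ K) :
    ∃ l ∈ K, l * v * l⁻¹ = k * v := by
  let f : K → K := fun l => ⟨(l : G) * (v * (l : G)⁻¹ * v⁻¹),
    mul_mem l.2 (conj_mem_invK P.setup P.two (P.v_le hv) (inv_mem l.2))⟩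
  have hfi : Function.Injective f := by
    intro l l' h
    have h' : (l : G) * (v * (l : G)⁻¹ * v⁻¹) = (l' : G) * (v * (l' : G)⁻¹ * v⁻¹) :=
      congrArg (fun y : K => (y : G)) h
    have e : v * ((l' : G)⁻¹ * l) = (l' : G)⁻¹ * l * v := by
      calc v * ((l' : G)⁻¹ * l) = (l' : G)⁻¹ * ((l' : G) * (v * (l' : G)⁻¹ * v⁻¹)) * v * l := by group
        _ = (l' : G)⁻¹ * l * v := by rw [← h']; group
    exact Subtype.ext (inv_mul_eq_one.1 (P.v_fpf hs hv hvW (mul_mem (inv_mem l'.2) l.2) e)).symm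
  obtain ⟨l, hl⟩ := (Finite.injective_iff_surjective.1 hfi) ⟨k, hk⟩
  refine ⟨l, l.2, ?_⟩
  have hl' : (l : G) * (v * (l : G)⁻¹ * v⁻¹) = k := congrArg (fun y : K => (y : G)) hl
  rw [← hl']; group

/-- A subgroup of index two in the involutions, avoiding `s`, into which no commutator map from
outside the involutions falls. -/
theorem exists_hyperplane : ∃ I : Subgroup G, I ≤ P.Z ∧ Nat.card I = 4 ∧ s ∉ I ∧
    ∀ x ∈ Q, x ∉ P.Z → ∃ y ∈ Q, x⁻¹ * y⁻¹ * x * y ∉ I := by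
  classical
  haveI := P.v_cyc
  obtain ⟨⟨g, hg⟩, hgen⟩ := IsCyclic.exists_generator (α := V)
  have hgW : g ∉ wSub a t := by
    intro hgW
    have h1 : V ≤ wSub a t := fun v hv => by
      obtain ⟨i, hi⟩ := Subgroup.mem_zpowers_iff.1 (hgen ⟨v, hv⟩)
      have hvi : g ^ i = v := congrArg Subtype.val hi
      exact hvi ▸ zpow_mem hgW i
    have := Subgroup.card_le_of_le h1
    rw [P.v_card, P.w_card] at this
    omega
  let φ : P.Z →* P.Z :=
    { toFun := fun z => ⟨(z : G) * (g * z * g⁻¹), mul_mem z.2 (P.Z_conj (P.v_le hg) z.2)⟩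
      map_one' := Subtype.ext (by simp)
      map_mul' := fun z z' => Subtype.ext (by
        show (z : G) * z' * (g * (z * z') * g⁻¹) =
          (z : G) * (g * z * g⁻¹) * ((z' : G) * (g * z' * g⁻¹))
        have e := P.Z_comm z'.2 (P.Z_le (P.Z_conj (P.v_le hg) z.2))
        calc (z : G) * z' * (g * (z * z') * g⁻¹)
            = (z : G) * ((z' : G) * (g * z * g⁻¹)) * (g * z' * g⁻¹) := by group
          _ = _ := by rw [e]; group) }
  have hker : Nat.card φ.ker = 2 := by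
    have e : (φ.ker : Set P.Z) = {1, ⟨s, hs.1⟩} := by
      ext z
      rw [SetLike.mem_coe, MonoidHom.mem_ker]
      refine ⟨fun h => ?_, fun h => ?_⟩
      · have h' : (z : G) * (g * z * g⁻¹) = 1 := congrArg Subtype.val h
        have hcz : g * (z : G) = z * g := by
          have := eq_inv_of_mul_eq_one_right h'
          rw [inv_eq_of_mul_eq_one_right (P.Z_sq z.2)] at this
          exact mul_inv_eq_iff_eq_mul.1 this
        rcases P.fixed_eq hs hg hgW z.2 hcz with h1 | h1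
        · exact Or.inl (Subtype.ext h1)
        · exact Or.inr (Subtype.ext h1)
      · rcases h with rfl | rfl
        · exact map_one φ
        · refine Subtype.ext ?_
          show s * (g * s * g⁻¹) = 1
          rw [hs.2.2 g hg, mul_inv_cancel_right, P.Z_sq hs.1]
    rw [← SetLike.coe_sort_coe, e, Nat.card_coe_set_eq, Set.ncard_pair]
    exact fun h => hs.2.1 (congrArg Subtype.val h).symm
  set I := φ.range.map P.Z.subtype with hI
  have hIle : I ≤ P.Z := by rintro _ ⟨z, -, rfl⟩; exact z.2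
  have hmem : ∀ x, x ∈ I ↔ ∃ z ∈ P.Z, z * (g * z * g⁻¹) = x := by
    intro x
    constructor
    · rintro ⟨_, ⟨z, rfl⟩, rfl⟩
      exact ⟨z, z.2, rfl⟩
    · rintro ⟨z, hz, rfl⟩
      exact ⟨_, ⟨⟨z, hz⟩, rfl⟩, rfl⟩
  have hIcard : Nat.card I = 4 := by
    rw [hI, Subgroup.card_map_of_injective P.Z.subtype_injective, ← Subgroup.index_ker]
    have h := φ.ker.card_mul_index
    rw [hker, P.card_Z] at h
    omega
  have hsI : s ∉ I := by
    rw [hmem]
    rintro ⟨z, hz, he⟩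
    have hzs : g * z * g⁻¹ = z * s := by rw [← he, ← mul_assoc, P.Z_sq hz, one_mul]
    have h2 : g * (g * z * g⁻¹) * g⁻¹ = z := by
      rw [hzs]
      calc g * (z * s) * g⁻¹ = (g * z * g⁻¹) * (g * s * g⁻¹) := by group
        _ = z * (s * s) := by rw [hzs, hs.2.2 g hg, mul_inv_cancel_right, mul_assoc]
        _ = z := by rw [P.Z_sq hs.1, mul_one]
    have h3 : g ^ 3 * z * (g ^ 3)⁻¹ = z * s := by
      calc g ^ 3 * z * (g ^ 3)⁻¹ = g * (g * (g * z * g⁻¹) * g⁻¹) * g⁻¹ := by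
            rw [pow_succ, pow_two]; group
        _ = z * s := by rw [h2, hzs]
    rw [P.w_comm_z (P.cube_mem_w hg) hz, mul_inv_cancel_right] at h3
    exact hs.2.1 (left_eq_mul.1 h3)
  have hIV : ∀ v ∈ V, ∀ x ∈ I, v * x * v⁻¹ ∈ I := by
    intro v hv x hx
    obtain ⟨z, hz, rfl⟩ := (hmem x).1 hx
    refine (hmem _).2 ⟨v * z * v⁻¹, P.Z_conj (P.v_le hv) hz, ?_⟩
    have e := P.v_comm hg hv
    calc v * z * v⁻¹ * (g * (v * z * v⁻¹) * g⁻¹) = v * z * v⁻¹ * ((g * v) * z * (g * v)⁻¹) := by group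
      _ = _ := by rw [e]; group
  refine ⟨I, hIle, hIcard, hsI, fun x₀ hx₀ hx₀Z => ?_⟩
  by_contra hbad
  push Not at hbad
  have hcm : ∀ x ∈ Q, ∀ y ∈ Q, x⁻¹ * y⁻¹ * x * y ∈ P.Z := fun x hx y hy =>
    cube_comm_mem P.setup P.two P.cube hx hy
  let R : Subgroup G :=
    { carrier := {x | x ∈ Q ∧ ∀ y ∈ Q, x⁻¹ * y⁻¹ * x * y ∈ I}
      one_mem' := ⟨one_mem _, fun y _ => by simp⟩
      mul_mem' := fun {x x'} hx hx' => ⟨mul_mem hx.1 hx'.1, fun y hy => by
        have e1 := P.Z_comm (hcm x hx.1 y hy) hx'.1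
        have e : (x * x')⁻¹ * y⁻¹ * (x * x') * y =
            (x⁻¹ * y⁻¹ * x * y) * (x'⁻¹ * y⁻¹ * x' * y) := by
          calc (x * x')⁻¹ * y⁻¹ * (x * x') * y
              = x'⁻¹ * ((x⁻¹ * y⁻¹ * x * y) * (y⁻¹ * x' * y)) := by group
            _ = x'⁻¹ * ((y⁻¹ * x' * y) * (x⁻¹ * y⁻¹ * x * y)) := by
                rw [P.Z_comm (hcm x hx.1 y hy) (mul_mem (mul_mem (inv_mem hy) hx'.1) hy)]
            _ = (x'⁻¹ * y⁻¹ * x' * y) * (x⁻¹ * y⁻¹ * x * y) := by group
            _ = _ := (P.Z_comm (hcm x hx.1 y hy) (P.Z_le (hcm x' hx'.1 y hy))).symm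
        rw [e]
        exact mul_mem (hx.2 y hy) (hx'.2 y hy)⟩
      inv_mem' := fun {x} hx => ⟨inv_mem hx.1, fun y hy => by
        have hc := hx.2 y hy
        have e : x⁻¹⁻¹ * y⁻¹ * x⁻¹ * y = x * (x⁻¹ * y⁻¹ * x * y)⁻¹ * x⁻¹ := by group
        rw [e, ← P.Z_comm (hIle (inv_mem hc)) hx.1, mul_inv_cancel_right]
        exact inv_mem hc⟩ }
  have hRQ : R ≤ Q := fun x hx => hx.1
  have hZR : P.Z ≤ R := fun z hz => ⟨P.Z_le hz, fun y hy => by
    rw [mul_assoc z⁻¹, ← P.Z_comm hz (inv_mem hy)]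
    simp⟩
  have hRV : ∀ v ∈ V, ∀ x ∈ R, v⁻¹ * x * v ∈ R := by
    intro v hv x hx
    refine ⟨by simpa using P.Q_conj (inv_mem (P.v_le hv)) hx.1, fun y hy => ?_⟩
    have h := hIV _ (inv_mem hv) _ (hx.2 (v * y * v⁻¹) (P.Q_conj (P.v_le hv) hy))
    convert h using 1
    group
  obtain ⟨hinj, hsurj⟩ := P.orbit hx₀ hx₀Z
  let Vs : Subgroup D := (V).subgroupOf D
  let A : Set D := {d | (d : G)⁻¹ * x₀ * d ∈ R}
  have hApre : QuotientGroup.mk ⁻¹' ((QuotientGroup.mk : D → D ⧸ Vs) '' A) = A := by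
    refine Set.Subset.antisymm ?_ (Set.subset_preimage_image _ _)
    rintro d ⟨d', hd', hdd⟩
    have hm : ((d'⁻¹ * d : D) : G) ∈ V := (QuotientGroup.eq (s := Vs)).1 hdd
    show (d : G)⁻¹ * x₀ * d ∈ R
    have := hRV _ hm _ hd'
    convert this using 1
    push_cast
    group
  have hA9 : 9 ∣ Nat.card A := by
    rw [← hApre, Nat.card_congr (QuotientGroup.preimageMkEquivSubgroupProdSet _ _), Nat.card_prod,
      show Nat.card Vs = 9 from (Nat.card_congr (Subgroup.subgroupOfEquivOfLe inf_le_left).toEquiv).trans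
        P.v_card]
    exact dvd_mul_right _ _
  have hA1 : (1 : D) ∈ A := by
    show ((1 : D) : G)⁻¹ * x₀ * ((1 : D) : G) ∈ R
    simp only [OneMemClass.coe_one, inv_one, one_mul, mul_one]
    exact ⟨hx₀, hbad⟩
  have hRcard : Nat.card R = Nat.card (A × P.Z) + 8 := by
    let f : A × P.Z → G := fun p => ((p.1 : D) : G)⁻¹ * x₀ * (p.1 : D) * p.2
    have hfi : Function.Injective f := fun p q h => by
      obtain ⟨h1, h2⟩ := hinj _ (p.1 : D).2 _ (q.1 : D).2 _ p.2.2 _ q.2.2 h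
      exact Prod.ext (Subtype.ext (Subtype.ext h1)) (Subtype.ext h2)
    have hdisj : Disjoint (Set.range f) (P.Z : Set G) := by
      rw [Set.disjoint_left]
      rintro _ ⟨p, rfl⟩ hp
      apply hx₀Z
      have h' : ((p.1 : D) : G)⁻¹ * x₀ * (p.1 : D) ∈ P.Z := by simpa [f] using mul_mem hp (inv_mem p.2.2)
      simpa [mul_assoc] using P.Z_conj (p.1 : D).2 h'
    have hR : (R : Set G) = Set.range f ∪ (P.Z : Set G) := by
      ext y
      refine ⟨fun hy => ?_, ?_⟩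
      · by_cases hyZ : y ∈ P.Z
        · exact Or.inr hyZ
        obtain ⟨d, hd, z, hz, rfl⟩ := hsurj y hy.1 hyZ
        refine Or.inl ⟨(⟨⟨d, hd⟩, ?_⟩, ⟨z, hz⟩), rfl⟩
        show d⁻¹ * x₀ * d ∈ R
        simpa using mul_mem hy (inv_mem (hZR hz))
      · rintro (⟨p, rfl⟩ | hy)
        · exact mul_mem p.1.2 (hZR p.2.2)
        · exact hZR hy
    rw [← SetLike.coe_sort_coe, hR, Nat.card_coe_set_eq, Set.ncard_union_eq hdisj (Set.toFinite _)
      (Set.toFinite _), Set.ncard_range_of_injective hfi, ← Nat.card_coe_set_eq, SetLike.coe_sort_coe,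
      P.card_Z]
  have hAle : Nat.card A ≤ 63 := by
    rw [← P.card_D]
    exact Nat.card_le_card_of_injective _ Subtype.val_injective
  have hApos : 0 < Nat.card A := Nat.card_pos_iff.2 ⟨⟨⟨1, hA1⟩⟩, inferInstance⟩
  have hdvd : Nat.card R ∣ 512 := P.card_Q ▸ Subgroup.card_dvd_of_le hRQ
  rw [hRcard, Nat.card_prod, P.card_Z] at hdvd
  obtain ⟨j, hj⟩ := hA9
  have hj7 : Nat.card A = 63 := by
    rw [hj] at hdvd hAle hApos
    rw [hj]
    exact pocket_arith hApos hAle hdvd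
  have hall : ∀ x ∈ Q, ∀ y ∈ Q, x⁻¹ * y⁻¹ * x * y ∈ I := by
    intro x hx
    have hRR : R = Q := Subgroup.eq_of_le_of_card_ge hRQ (by
      rw [hRcard, Nat.card_prod, hj7, P.card_Z, P.card_Q])
    exact (hRR.symm ▸ hx : x ∈ R).2
  obtain ⟨x, hx, y, hy, hne⟩ := P.cube.nonabelian
  have hc1 : x⁻¹ * y⁻¹ * x * y ≠ 1 := fun h => hne (by
    calc x * y = y * x * (x⁻¹ * y⁻¹ * x * y) := by group
      _ = y * x := by rw [h, mul_one])
  obtain ⟨k, hk, hks⟩ := inverted_transitive P.setup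
    ((hcm x hx y hy).resolve_left hc1) (hs.1.resolve_left hs.2.1)
  have hka : k⁻¹ ∈ D := inv_mem hk.1
  apply hsI
  have h := hall _ (by simpa using P.Q_conj hka hx : k⁻¹ * x * k ∈ Q) _
    (by simpa using P.Q_conj hka hy : k⁻¹ * y * k ∈ Q)
  convert h using 1
  rw [← hks]
  group

end Pocket

end Cfsg.Agent.RankOne
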