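import Cfsg.Agent.Lib.RankOneW.PocketSums
import Cfsg.Agent.Lib.RankOneW.PocketChar

/-!
# The case `q = 8`, `|W| = 3`, `|V| = 9`: characters of the point stabiliser

The linear characters of `G_a` trivial on `Q K`, the restriction of an induced one, congruences for
degrees, and the irreducible characters without fixed vectors of the involutions.
-/

set_option autoImplicit false
set_option linter.unusedSectionVars false
set_option linter.style.haveILetI false

namespace Cfsg.Agent.RankOne.Pocket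

open MulAction Cfsg.Agent.Char PocketChar
open scoped Classical ComplexConjugate

universe u v

variable {G : Type u} {Ω : Type v} [Group G] [MulAction G Ω] {a : Ω} {t : G} {Q : Subgroup G}

local notation "V" => pocketV a t
local notation "K" => invK a t
local notation "D" => twoStab a t
local notation "H" => stabilizer G a

section
variable [Finite G] (P : Pocket a t Q)
include P

/-- A coordinate on `V`. -/
noncomputable def iso : Multiplicative (ZMod 9) ≃* V :=
  haveI : IsCyclic (pocketV a t) := P.v_cyc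
  mulEquivOfCyclicCardEq (G := Multiplicative (ZMod 9)) (G' := pocketV a t)
    (by rw [Nat.card_congr Multiplicative.toAdd, Nat.card_zmod]; exact P.v_card.symm)

/-- The element of `V` with coordinate `i`. -/
noncomputable def el (i : ZMod 9) : G := (P.iso (Multiplicative.ofAdd i) : V)

theorem el_mem (i : ZMod 9) : P.el i ∈ V := (P.iso (Multiplicative.ofAdd i)).2

theorem el_zero : P.el 0 = 1 := by
  show ((P.iso 1 : V) : G) = 1
  rw [map_one, OneMemClass.coe_one]

theorem el_add (i j : ZMod 9) : P.el (i + j) = P.el i * P.el j :=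
  congrArg Subtype.val (map_mul P.iso (Multiplicative.ofAdd i) (Multiplicative.ofAdd j))

theorem el_inj {i j : ZMod 9} (h : P.el i = P.el j) : i = j :=
  Multiplicative.ofAdd.injective (P.iso.injective (Subtype.ext h))

theorem el_mem_w (i : ZMod 9) : P.el i ∈ wSub a t ↔ 3 * i = 0 := by
  have e : P.el (3 * i) = P.el i ^ 3 := by
    rw [show 3 * i = i + i + i by ring, P.el_add, P.el_add, pow_succ, pow_two]
  refine ⟨fun h => P.el_inj ?_, fun h => P.w_of_cube (P.el_mem i) ?_⟩
  · rw [e, P.w_pow_three h, P.el_zero]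
  · rw [← e, h, P.el_zero]

theorem exists_xkv (h : H) : ∃ v : V, ∃ x ∈ Q, ∃ k ∈ K, (h : G) = x * (k * v) := by
  obtain ⟨x, hx, d, hd, e⟩ := exists_qd P.setup h.2
  obtain ⟨k, hk, v, hv, rfl⟩ := P.exists_kv hd
  exact ⟨⟨v, hv⟩, x, hx, k, hk, e⟩

/-- The coordinate of the `V`-part of an element of the point stabiliser. -/
noncomputable def coordV (h : H) : Multiplicative (ZMod 9) :=
  P.iso.symm (P.exists_xkv h).choose

theorem coordV_eq {h : H} {x k : G} {v : V} (hx : x ∈ Q) (hk : k ∈ K) (e : (h : G) = x * (k * v)) :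
    P.coordV h = P.iso.symm v := by
  obtain ⟨x', hx', k', hk', e'⟩ := (P.exists_xkv h).choose_spec
  have h1 := (qd_unique P.setup hx' hx (mul_mem (P.K_le hk') (P.v_le (P.exists_xkv h).choose.2))
    (mul_mem (P.K_le hk) (P.v_le v.2)) (e'.symm.trans e)).2
  have h2 := (P.kv_unique hk' hk (P.exists_xkv h).choose.2 v.2 h1).2
  rw [coordV, show (P.exists_xkv h).choose = v from Subtype.ext h2]

/-- The projection of the point stabiliser onto `V`. -/
noncomputable def proj : H →* Multiplicative (ZMod 9) :=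
  MonoidHom.mk' P.coordV fun g h => by
    obtain ⟨v, x, hx, k, hk, e⟩ := P.exists_xkv g
    obtain ⟨v', x', hx', k', hk', e'⟩ := P.exists_xkv h
    have hd : k * v ∈ D := mul_mem (P.K_le hk) (P.v_le v.2)
    rw [P.coordV_eq hx hk e, P.coordV_eq hx' hk' e', ← map_mul]
    refine P.coordV_eq (x := x * ((k * v) * x' * (k * v)⁻¹))
      (k := k * ((v : G) * k' * (v : G)⁻¹)) (mul_mem hx (P.Q_conj hd hx'))
      (mul_mem hk (conj_mem_invK P.setup P.two (P.v_le v.2) hk')) ?_
    rw [Subgroup.coe_mul, e, e', Subgroup.coe_mul]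
    group

theorem proj_eq {h : H} {x k : G} {i : ZMod 9} (hx : x ∈ Q) (hk : k ∈ K)
    (e : (h : G) = x * (k * P.el i)) : Multiplicative.toAdd (P.proj h) = i := by
  rw [show P.proj h = P.coordV h from rfl, P.coordV_eq (v := P.iso (Multiplicative.ofAdd i)) hx hk e,
    MulEquiv.symm_apply_apply, toAdd_ofAdd]

/-- The linear characters of the point stabiliser trivial on `Q K`. -/
noncomputable def mu (j : ZMod 9) : H →* ℂˣ :=
  ((AddChar.mulShift ep j).toMonoidHom.comp P.proj).toHomUnits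

theorem mu_apply (j : ZMod 9) (h : H) :
    ((P.mu j h : ℂˣ) : ℂ) = ep (j * Multiplicative.toAdd (P.proj h)) := rfl

/-- The character `λ`, of order three, as a function on `G` supported by the point stabiliser. -/
noncomputable def lam : G → ℂ := Cfsg.extendByZero H fun h => ((P.mu 3 h : ℂˣ) : ℂ)

theorem lam_mul_conj {h : G} (hh : h ∈ H) : P.lam h * conj (P.lam h) = 1 := by
  rw [lam, extendByZero_mem _ _ hh, P.mu_apply, conj_ep, ← AddChar.map_add_eq_mul, add_neg_cancel,
    AddChar.map_zero_eq_one]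

theorem lam_el {k : G} (hk : k ∈ K) (i : ZMod 9) : P.lam (k * P.el i) = ep (3 * i) := by
  rw [lam, extendByZero_mem _ _ (mul_mem (Subgroup.mem_inf.1 (P.K_le hk)).1
    (Subgroup.mem_inf.1 (P.v_le (P.el_mem i))).1), P.mu_apply,
    P.proj_eq (x := 1) (i := i) (one_mem _) hk (one_mul _).symm]

theorem lam_Q {x : G} (hx : x ∈ Q) : P.lam x = 1 := by
  rw [lam, extendByZero_mem _ _ (P.setup.le hx), P.mu_apply,
    P.proj_eq (x := x) (k := 1) (i := 0) hx (one_mem _) (by rw [P.el_zero, mul_one, mul_one]),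
    mul_zero, AddChar.map_zero_eq_one]

theorem lam_conj {y : G} (hy : y ∈ H) (x : G) : P.lam (y * x * y⁻¹) = P.lam x := by
  by_cases hx : x ∈ H
  · rw [lam, extendByZero_mem _ _ (mul_mem (mul_mem hy hx) (inv_mem hy)), extendByZero_mem _ _ hx]
    exact IsCharacter.isClassFunction
      (IsIrrCharacter.isCharacter (isIrrCharacter_linear (P.mu 3))) ⟨x, hx⟩ ⟨y, hy⟩
  · have hx' : y * x * y⁻¹ ∉ H := fun h => hx (by
      simpa [mul_assoc] using mul_mem (mul_mem (inv_mem hy) h) hy)
    rw [lam, extendByZero_not_mem _ _ hx', extendByZero_not_mem _ _ hx]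

theorem lam_swap {d : G} (hd : d ∈ D) : P.lam (t * d * t) = P.lam d := by
  obtain ⟨k, hk, v, hv, rfl⟩ := P.exists_kv hd
  obtain ⟨i, rfl⟩ : ∃ i, P.el i = v :=
    ⟨Multiplicative.toAdd (P.iso.symm ⟨v, hv⟩), by
      rw [el, ofAdd_toAdd, MulEquiv.apply_symm_apply]⟩
  have e : t * (k * P.el i) * t = k⁻¹ * P.el i := by
    calc t * (k * P.el i) * t = t * k * (t * t) * P.el i * t := by rw [P.setup.mul_self]; group
      _ = (t * k * t) * (t * P.el i * t⁻¹) := by rw [inv_t P.setup]; group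
      _ = k⁻¹ * P.el i := by
        rw [tkt_eq P.setup P.two hk, mem_centralizer_iff_conj.1 (Subgroup.mem_inf.1 hv).2]
  rw [e, P.lam_el (inv_mem hk), P.lam_el hk]

end

variable [Fintype G] (P : Pocket a t Q)
include P

theorem card_H : Nat.card H = 512 * 63 := by rw [card_stabilizer P.setup, P.card_Q, P.card_D]

theorem stable_ext {θ : H → ℂ} (hθ : Cfsg.IsClassFunction H θ) :
    IsStable a (Cfsg.extendByZero H θ) := fun g hg x hx => by
  rw [extendByZero_mem _ _ (mul_mem (mul_mem hg hx) (inv_mem hg)), extendByZero_mem _ _ hx]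
  exact hθ ⟨x, hx⟩ ⟨g, hg⟩

/-- The inner product with the induced character `Ind λ`. -/
theorem sum_ind {f : G → ℂ} (hf : IsStable a f) :
    ∑ h : H, f h * conj (Cfsg.indFun H (fun y : H => P.lam y) (h : G)) =
      ∑ h : H, f h * conj (P.lam h) + 512 * ∑ d : D, f d * conj (P.lam d) := by
  have hL : ∀ y, Cfsg.extendByZero H (fun y : H => P.lam y) y = P.lam y := by
    intro y
    by_cases hy : y ∈ H
    · rw [extendByZero_mem _ _ hy]
    · rw [extendByZero_not_mem _ _ hy, lam, extendByZero_not_mem _ _ hy]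
  set A := ∑ h : H, f h * conj (P.lam h) with hA
  set B := ∑ d : D, f d * conj (P.lam d) with hB
  have hinner : ∀ g : G, ∑ h : H, f h * conj (P.lam (g⁻¹ * h * g)) = if g ∈ H then A else B := by
    intro g
    split_ifs with hg
    · refine Finset.sum_congr rfl fun h _ => ?_
      have := P.lam_conj (inv_mem hg) (h : G)
      rw [inv_inv] at this
      rw [this]
    obtain ⟨⟨p, q⟩, ⟨hp, hq, rfl⟩, -⟩ := qd_of_canonical P.setup hg
    have h1 : ∑ h : H, f h * conj (P.lam ((p * t * q)⁻¹ * h * (p * t * q))) =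
        ∑ h : H, f h * conj (P.lam (t * h * t)) := by
      refine Fintype.sum_equiv (MulAut.conj (⟨p, hp⟩⁻¹ : H)).toEquiv _ _ fun h => ?_
      simp only [MulEquiv.toEquiv_eq_coe, MulEquiv.coe_toEquiv, MulAut.conj_apply, inv_inv,
        Subgroup.coe_mul, Subgroup.coe_inv]
      have e1 : f (p⁻¹ * (h : G) * p) = f h := by
        have := hf p⁻¹ (inv_mem hp) h h.2
        rwa [inv_inv] at this
      rw [e1]
      congr 2
      have e2 := P.lam_conj (inv_mem (P.setup.le hq)) (t * (p⁻¹ * (h : G) * p) * t)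
      rw [← e2, mul_inv_rev, mul_inv_rev, inv_t P.setup]
      congr 1
      group
    rw [h1, hB]
    symm
    refine Finset.sum_of_injOn (fun d : D => (⟨d, (Subgroup.mem_inf.1 d.2).1⟩ : H))
      (fun d _ d' _ e => Subtype.ext (congrArg (fun h : H => (h : G)) e))
      (fun _ _ => Finset.mem_univ _) (fun h _ hh => ?_) fun d _ => by rw [P.lam_swap d.2]
    have hth : t * (h : G) * t ∉ H := by
      intro hm
      refine hh ⟨⟨h, Subgroup.mem_inf.2 ⟨h.2, ?_⟩⟩, Finset.mem_univ _, rfl⟩
      have e := congrArg (fun p => t • p) (mem_stabilizer_iff.1 hm)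
      simp only [← mul_smul, ← mul_assoc, P.setup.mul_self, one_mul] at e
      rw [mem_stabilizer_iff, ← mul_smul]
      exact e
    rw [lam, extendByZero_not_mem _ _ hth, map_zero, mul_zero]
  have hind : ∀ g : G, Cfsg.indFun H (fun y : H => P.lam y) g =
      (Nat.card H : ℂ)⁻¹ * ∑ x : G, P.lam (x⁻¹ * g * x) := fun g => by
    simp only [Cfsg.indFun, hL]
  simp only [hind, map_mul, map_inv₀, map_natCast, map_sum, Finset.mul_sum]
  rw [Finset.sum_comm]
  simp only [mul_left_comm (f _) ((Nat.card H : ℂ)⁻¹), ← Finset.mul_sum]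
  rw [Finset.sum_congr rfl fun g _ => hinner g]
  rw [Finset.sum_ite, Finset.sum_const, Finset.sum_const]
  have hin : (Finset.univ.filter fun g : G => g ∈ H).card = 512 * 63 := by
    rw [← P.card_H, ← Fintype.card_subtype, ← Nat.card_eq_fintype_card]
  have hout : (Finset.univ.filter fun g : G => g ∉ H).card = 512 * (512 * 63) := by
    have h := Finset.card_filter_add_card_filter_not (s := (Finset.univ : Finset G)) (fun g => g ∈ H)
    rw [hin, Finset.card_univ, ← Nat.card_eq_fintype_card, P.card_G] at h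
    omega
  rw [hin, hout, P.card_H]
  push_cast
  ring

theorem exists_inner {θ : H → ℂ} (hθ : Cfsg.IsCharacter H θ) (M : Subgroup G) (hM : M ≤ H)
    {f : M → ℂ} (hf : Cfsg.IsCharacter M f) :
    ∃ n : ℕ, ∑ m : M, Cfsg.extendByZero H θ m * conj (f m) = (Nat.card M : ℂ) * n := by
  obtain ⟨n, hn⟩ := IsCharacter.exists_classInner_nat
    (IsCharacter.comp hθ (Subgroup.inclusion hM)) hf
  refine ⟨n, ?_⟩
  rw [← hn, Cfsg.classInner, ← mul_assoc,
    mul_inv_cancel₀ (Nat.cast_ne_zero.2 Nat.card_pos.ne'), one_mul]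
  refine Finset.sum_congr rfl fun m _ => ?_
  rw [extendByZero_mem _ _ (hM m.2)]
  rfl

theorem sum_inclusion (M : Subgroup G) (hM : M ≤ H) (f : G → ℂ) :
    ∑ h : H, (if (h : G) ∈ M then f h else 0) = ∑ m : M, f m := by
  symm
  refine Finset.sum_of_injOn (fun m : M => (⟨m, hM m.2⟩ : H))
    (fun m _ m' _ e => Subtype.ext (congrArg (fun h : H => (h : G)) e))
    (fun _ _ => Finset.mem_univ _) (fun h _ hh => ?_) fun m _ => by rw [if_pos m.2]
  rw [if_neg fun hm => hh ⟨⟨h, hm⟩, Finset.mem_univ _, rfl⟩]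

variable [FaithfulSMul G Ω]

/-- The sum over `Q` by cosets of the involutions. -/
theorem sum_Q {x : G} (hx : x ∈ Q) (hxZ : x ∉ P.Z) (g : G → ℂ) :
    ∑ y : Q, g y = ∑ z : P.Z, g z + ∑ d : D, ∑ z : P.Z, g ((d : G)⁻¹ * x * d * z) := by
  obtain ⟨hinj, hsurj⟩ := P.orbit hx hxZ
  refine (Fintype.sum_subtype_add_sum_subtype (fun y : Q => (y : G) ∈ P.Z) (fun y : Q => g y)).symm.trans ?_
  refine congrArg₂ (fun u w : ℂ => u + w) ?_ ?_
  · refine Fintype.sum_bijective (fun y : {y : Q // (y : G) ∈ P.Z} => (⟨(y : Q), y.2⟩ : P.Z))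
      ⟨fun y y' h => ?_, fun z => ⟨⟨⟨z, P.Z_le z.2⟩, z.2⟩, rfl⟩⟩ _ _ fun _ => rfl
    exact Subtype.ext (Subtype.ext (congrArg (fun z : P.Z => (z : G)) h))
  · rw [← Fintype.sum_prod_type' (f := fun (d : D) (z : P.Z) => g ((d : G)⁻¹ * x * d * z))]
    refine (Fintype.sum_bijective (fun p : D × P.Z =>
      (⟨⟨(p.1 : G)⁻¹ * x * p.1 * p.2, mul_mem (by simpa using P.Q_conj (inv_mem p.1.2) hx)
        (P.Z_le p.2.2)⟩, fun h => hxZ (by
          have h' : (p.1 : G)⁻¹ * x * p.1 ∈ P.Z := by simpa using mul_mem h (inv_mem p.2.2)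
          simpa [mul_assoc] using P.Z_conj p.1.2 h')⟩ : {y : Q // ¬(y : G) ∈ P.Z}))
      ⟨fun p q h => ?_, fun y => ?_⟩ _ _ fun _ => rfl).symm
    · obtain ⟨h1, h2⟩ := hinj _ p.1.2 _ q.1.2 _ p.2.2 _ q.2.2
        (congrArg (fun w : {y : Q // ¬(y : G) ∈ P.Z} => ((w : Q) : G)) h)
      exact Prod.ext (Subtype.ext h1) (Subtype.ext h2)
    · obtain ⟨d, hd, z, hz, e⟩ := hsurj _ y.1.2 y.2
      exact ⟨(⟨d, hd⟩, ⟨z, hz⟩), Subtype.ext (Subtype.ext e.symm)⟩

variable {s : G} (hs : P.IsBase s)
include hs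

/-- The sums of a character over the involutions and over `Q`. -/
theorem degree_facts {θ : H → ℂ} (hθ : Cfsg.IsCharacter H θ) :
    ∃ c e r m : ℕ, Cfsg.extendByZero H θ 1 = ((c + 7 * e : ℕ) : ℂ) ∧ c = r + 63 * m ∧
      ∑ z : P.Z, Cfsg.extendByZero H θ z = 8 * (c : ℂ) ∧
      ∑ x : Q, Cfsg.extendByZero H θ x = 512 * (r : ℂ) := by
  set F := Cfsg.extendByZero H θ with hFdef
  have hst : IsStable a F := P.stable_ext (IsCharacter.isClassFunction hθ)
  have hZH : P.Z ≤ H := fun z hz => P.setup.le (P.Z_le hz)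
  obtain ⟨c, hc⟩ := P.exists_inner hθ P.Z hZH (f := fun _ => (1 : ℂ)) isCharacter_one
  obtain ⟨r, hr⟩ := P.exists_inner hθ Q P.setup.le (f := fun _ => (1 : ℂ)) isCharacter_one
  simp only [map_one, mul_one, ← hFdef, P.card_Z, P.card_Q] at hc hr
  push_cast at hc hr
  -- the other multiplicity on the involutions
  obtain ⟨I, hIle, hIcard, hsI, -⟩ := P.exists_hyperplane hs
  have hidx : (I.subgroupOf P.Z).index = 2 := by
    have h := (I.subgroupOf P.Z).card_mul_index
    rw [P.card_Z, Nat.card_congr (Subgroup.subgroupOfEquivOfLe hIle).toEquiv, hIcard] at h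
    omega
  obtain ⟨e, he⟩ := P.exists_inner hθ P.Z hZH (exists_sign _ hidx)
  simp only [← hFdef, P.card_Z] at he
  push_cast at he
  have hconst : ∀ z : P.Z, z ≠ 1 → F z = F s := by
    intro z hz
    obtain ⟨k, hk, hks⟩ := inverted_transitive P.setup (hs.1.resolve_left hs.2.1)
      (z.2.resolve_left fun h => hz (Subtype.ext h))
    have h := hst k⁻¹ (inv_mem (Subgroup.mem_inf.1 hk.1).1) s (hZH hs.1)
    rwa [inv_inv, hks] at h
  have hc' : F 1 + 7 * F s = 8 * (c : ℂ) := by
    rw [← hc, P.sum_Z_const (f := F) fun z hz hz1 => hconst ⟨z, hz⟩ fun h => hz1 (congrArg Subtype.val h)]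
  have he' : F 1 - F s = 8 * (e : ℂ) := by
    rw [← he]
    have hsum : ∑ z : P.Z, conj (if z ∈ I.subgroupOf P.Z then (1 : ℂ) else -1) = 0 := by
      have hcard : (Finset.univ.filter fun z : P.Z => z ∈ I.subgroupOf P.Z).card = 4 := by
        rw [← Fintype.card_subtype, ← Nat.card_eq_fintype_card,
          show Nat.card {z : P.Z // z ∈ I.subgroupOf P.Z} = Nat.card I from
            Nat.card_congr (Subgroup.subgroupOfEquivOfLe hIle).toEquiv, hIcard]
      have hcard' : (Finset.univ.filter fun z : P.Z => z ∉ I.subgroupOf P.Z).card = 4 := by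
        have h := Finset.card_filter_add_card_filter_not (s := (Finset.univ : Finset P.Z))
          (fun z => z ∈ I.subgroupOf P.Z)
        rw [hcard, Finset.card_univ, ← Nat.card_eq_fintype_card, P.card_Z] at h
        omega
      simp only [apply_ite conj, map_one, map_neg]
      rw [Finset.sum_ite, Finset.sum_const, Finset.sum_const, hcard, hcard']
      norm_num
    have hsplit : ∀ z : P.Z, F z * conj (if z ∈ I.subgroupOf P.Z then (1 : ℂ) else -1) =
        F s * conj (if z ∈ I.subgroupOf P.Z then (1 : ℂ) else -1) +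
          (if z = 1 then F 1 - F s else 0) := by
      intro z
      by_cases hz : z = 1
      · subst hz
        rw [if_pos rfl, if_pos (one_mem _), map_one, OneMemClass.coe_one]
        ring
      · rw [if_neg hz, hconst z hz, add_zero]
    rw [Finset.sum_congr rfl fun z _ => hsplit z, Finset.sum_add_distrib, ← Finset.mul_sum, hsum,
      mul_zero, zero_add, Finset.sum_ite_eq', if_pos (Finset.mem_univ _)]
  -- the multiplicities on `Q`
  obtain ⟨x, hx, hxZ⟩ : ∃ x ∈ Q, x ∉ P.Z := by
    by_contra h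
    push Not at h
    have := Subgroup.card_le_of_le (show Q ≤ P.Z from h)
    rw [P.card_Q, P.card_Z] at this
    omega
  have := Fact.mk Nat.prime_two
  have hZQ : P.Z ≤ Q := fun z hz => P.Z_le hz
  obtain ⟨M, hM, hZM⟩ := Sylow.exists_subgroup_card_pow_prime_le 2 (n := 3) (m := 8)
    (show 2 ^ 8 ∣ Nat.card Q by rw [P.card_Q]; norm_num) (P.Z.subgroupOf Q)
    (by rw [Nat.card_congr (Subgroup.subgroupOfEquivOfLe hZQ).toEquiv, P.card_Z]; norm_num)
    (by norm_num)
  have hMidx : M.index = 2 := by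
    have h := M.card_mul_index
    rw [hM, P.card_Q] at h
    omega
  obtain ⟨m, hm⟩ := P.exists_inner hθ Q P.setup.le (exists_sign _ hMidx)
  simp only [← hFdef, P.card_Q] at hm
  push_cast at hm
  let ν : G → ℂ := Cfsg.extendByZero Q fun y => if y ∈ M then 1 else -1
  have hν : ∀ y (hy : y ∈ Q), ∀ z ∈ P.Z, ν (y * z) = ν y := by
    intro y hy z hz
    simp only [ν]
    rw [extendByZero_mem _ _ (mul_mem hy (P.Z_le hz)), extendByZero_mem _ _ hy]
    have hiff : (⟨y, hy⟩ : Q) * ⟨z, P.Z_le hz⟩ ∈ M ↔ (⟨y, hy⟩ : Q) ∈ M :=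
      Subgroup.mul_mem_cancel_right M
        (hZM (show (⟨z, P.Z_le hz⟩ : Q) ∈ P.Z.subgroupOf Q from hz))
    rw [MulMemClass.mk_mul_mk] at hiff
    simp only [hiff]
  have hνconj : ∀ y : Q, conj (if y ∈ M then (1 : ℂ) else -1) = ν y := by
    intro y
    simp only [ν, extendByZero_coe]
    split_ifs <;> simp
  have hνZ : ∀ z : P.Z, ν z = 1 := by
    intro z
    have h := hν 1 (one_mem _) z z.2
    rw [one_mul] at h
    rw [h]
    simp only [ν]
    rw [extendByZero_mem _ _ (one_mem _), if_pos (show (⟨1, one_mem _⟩ : Q) ∈ M from one_mem M)]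
  set A := ∑ z : P.Z, F (x * z) with hA
  have hAd : ∀ d : D, ∑ z : P.Z, F ((d : G)⁻¹ * x * d * z) = A := by
    intro d
    refine Fintype.sum_bijective (fun z : P.Z => (⟨(d : G) * z * (d : G)⁻¹, P.Z_conj d.2 z.2⟩ : P.Z))
      (Finite.injective_iff_bijective.1 fun z z' h => Subtype.ext
        (mul_left_cancel (mul_right_cancel (congrArg Subtype.val h)))) _ _ fun z => ?_
    have h := hst d (Subgroup.mem_inf.1 d.2).1 ((d : G)⁻¹ * x * d * z) (P.setup.le
      (mul_mem (by simpa using P.Q_conj (inv_mem d.2) hx) (P.Z_le z.2)))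
    rw [← h]
    congr 1
    group
  have hνd : ∀ d : D, ∀ z : P.Z, ν ((d : G)⁻¹ * x * d * z) = ν ((d : G)⁻¹ * x * d) := fun d z =>
    hν _ (by simpa using P.Q_conj (inv_mem d.2) hx) _ z.2
  set B := ∑ d : D, ν ((d : G)⁻¹ * x * d) with hB
  have hνsum : ∑ y : Q, ν y = 0 := by
    obtain ⟨z₀, hz₀⟩ : ∃ z : Q, z ∉ M := by
      by_contra h
      push Not at h
      rw [(Subgroup.eq_top_iff' M).2 h, Subgroup.index_top] at hMidx
      omega
    have h := Fintype.sum_equiv (Equiv.mulRight z₀) (fun y : Q => -ν y) (fun y : Q => ν y) fun y => by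
      simp only [ν, Equiv.coe_mulRight, extendByZero_coe]
      have := Subgroup.mul_mem_iff_of_index_two hMidx (a := y) (b := z₀)
      by_cases hy : y ∈ M <;> simp [hy, this, hz₀]
    rw [Finset.sum_neg_distrib] at h
    linear_combination -(1 / 2 : ℂ) * h
  have hB1 : B = -1 := by
    rw [P.sum_Q hx hxZ ν] at hνsum
    simp only [hνZ, hνd, Finset.sum_const, Finset.card_univ, ← Nat.card_eq_fintype_card, P.card_Z,
      nsmul_eq_mul, mul_one] at hνsum
    rw [← Finset.mul_sum, ← hB] at hνsum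
    push_cast at hνsum
    linear_combination (1 / 8 : ℂ) * hνsum
  have hr' : 8 * (c : ℂ) + 63 * A = 512 * (r : ℂ) := by
    rw [← hr, P.sum_Q hx hxZ F, hc, Finset.sum_congr rfl fun d _ => hAd d, Finset.sum_const,
      Finset.card_univ, ← Nat.card_eq_fintype_card, P.card_D, nsmul_eq_mul]
    norm_num
  have hm' : 8 * (c : ℂ) + A * B = 512 * (m : ℂ) := by
    rw [← hm, Finset.sum_congr rfl fun y _ => by rw [hνconj y], P.sum_Q hx hxZ fun y => F y * ν y,
      Finset.sum_congr rfl fun z _ => by rw [hνZ z, mul_one], hc, hB, Finset.mul_sum]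
    congr 1
    refine Finset.sum_congr rfl fun d _ => ?_
    rw [Finset.sum_congr rfl fun z _ => by rw [hνd d z], ← Finset.sum_mul, hAd d]
  refine ⟨c, e, r, m, ?_, ?_, hc, hr⟩
  · push_cast
    linear_combination (1 / 8 : ℂ) * hc' + (7 / 8 : ℂ) * he'
  · have h : (512 * c : ℂ) = 512 * (r + 63 * m) := by
      rw [hB1] at hm'
      linear_combination hr' + 63 * hm'
    exact_mod_cast mul_left_cancel₀ (by norm_num) h

/-- An irreducible character without fixed vectors of the involutions is clean of degree at least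
fifty-six. -/
theorem clean_of_irr {θ : H → ℂ} (hθ : Cfsg.IsIrrCharacter H θ)
    (h0 : ∑ z : P.Z, Cfsg.extendByZero H θ z = 0) :
    P.IsClean (Cfsg.extendByZero H θ) ∧ ∃ e : ℕ, 8 ≤ e ∧ θ 1 = ((7 * e : ℕ) : ℂ) := by
  set F := Cfsg.extendByZero H θ with hFdef
  have hch := IsIrrCharacter.isCharacter hθ
  have hF1 : F 1 = θ 1 := extendByZero_one H θ
  have hclean : P.IsClean F := by
    refine ⟨P.stable_ext (IsCharacter.isClassFunction hch), fun h hh => ?_⟩
    have hle : P.Z ≤ H := fun z hz => P.setup.le (P.Z_le hz)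
    haveI : (P.Z.subgroupOf H).Normal := ⟨fun z hz g => by
      obtain ⟨x, hx, d, hd, e⟩ := exists_qd P.setup g.2
      rw [Subgroup.mem_subgroupOf, Subgroup.coe_mul, Subgroup.coe_mul, Subgroup.coe_inv, e]
      have h1 := P.Z_conj hd (Subgroup.mem_subgroupOf.1 hz)
      rw [show x * d * (z : G) * (x * d)⁻¹ = x * (d * (z : G) * d⁻¹) * x⁻¹ by group,
        ← P.Z_comm h1 hx, mul_inv_cancel_right]
      exact h1⟩
    have hex : ∃ y ∈ P.Z.subgroupOf H, θ y ≠ θ 1 := by
      by_contra hall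
      push Not at hall
      rw [P.sum_Z_const (f := F) (c := θ 1) fun z hz _ => by
        rw [hFdef, extendByZero_mem _ _ (hle hz)]
        exact hall _ (Subgroup.mem_subgroupOf.2 hz), hF1] at h0
      exact IsIrrCharacter.one_ne_zero hθ (by linear_combination (1 / 8 : ℂ) * h0)
    rw [← CharX.sum_coset_eq_zero hθ (P.Z.subgroupOf H) hex ⟨h, hh⟩]
    refine (Fintype.sum_equiv (Subgroup.subgroupOfEquivOfLe hle).toEquiv _ _ fun z => ?_).symm
    exact (extendByZero_mem H θ (mul_mem hh (hle (Subgroup.subgroupOfEquivOfLe hle z).2))).symm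
  refine ⟨hclean, ?_⟩
  obtain ⟨c, e, -, -, hd, -, hc, -⟩ := P.degree_facts hs hch
  rw [h0] at hc
  have hc0 : c = 0 := by
    have : (c : ℂ) = 0 := by linear_combination -(1 / 8 : ℂ) * hc
    exact_mod_cast this
  subst hc0
  rw [zero_add] at hd
  refine ⟨e, ?_, hF1 ▸ hd⟩
  obtain ⟨N, hN⟩ := P.exists_inner hch Q P.setup.le (f := fun y => F y)
    (by
      have h := IsCharacter.comp hch (Subgroup.inclusion P.setup.le)
      convert h using 1
      funext y
      exact extendByZero_mem _ _ (P.setup.le y.2))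
  rw [← hFdef, P.card_Q] at hN
  have h7 := P.norm_Q hclean hs
  rw [hN, show F 1 = ((7 * e : ℕ) : ℂ) from hd, map_natCast] at h7
  have h7' : 7 * (512 * N) = 8 * ((7 * e) * (7 * e)) := by exact_mod_cast h7
  have he0 : e ≠ 0 := by
    rintro rfl
    exact IsIrrCharacter.one_ne_zero hθ (by rw [← hF1, show F 1 = ((7 * 0 : ℕ) : ℂ) from hd]; norm_num)
  by_contra hlt
  push Not at hlt
  interval_cases e <;> omega

end Cfsg.Agent.RankOne.Pocket
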