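import Cfsg.Agent.Lib.RankOneW.PocketData
import Mathlib.Analysis.Complex.Basic

/-!
# The case `q = 8`, `|W| = 3`, `|V| = 9`: functions on the point stabiliser

A *clean* function is invariant under conjugation by `G_a` and sums to zero on the cosets of the
involutions.  It vanishes on `Q` outside the involutions and its norm is determined by the sums
over the cosets of `K` in `D`.
-/

set_option autoImplicit false
set_option linter.unusedSectionVars false
set_option linter.style.haveILetI false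

namespace Cfsg.Agent.RankOne.Pocket

open MulAction
open scoped Classical ComplexConjugate

universe u v

variable {G : Type u} {Ω : Type v} [Group G] [MulAction G Ω] {a : Ω} {t : G} {Q : Subgroup G}

local notation "V" => pocketV a t
local notation "K" => invK a t
local notation "D" => twoStab a t

/-- Invariance under conjugation by the point stabiliser. -/
def IsStable (a : Ω) (F : G → ℂ) : Prop :=
  ∀ g ∈ stabilizer G a, ∀ x ∈ stabilizer G a, F (g * x * g⁻¹) = F x

variable [Fintype G] (P : Pocket a t Q)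
include P

theorem mem_stab {x d : G} (hx : x ∈ Q) (hd : d ∈ D) : x * d ∈ stabilizer G a :=
  mul_mem (P.setup.le hx) (Subgroup.mem_inf.1 hd).1

theorem sum_stabilizer (f : G → ℂ) :
    ∑ h : stabilizer G a, f h = ∑ d : D, ∑ x : Q, f ((x : G) * d) := by
  rw [Finset.sum_comm, ← Fintype.sum_prod_type']
  refine (Fintype.sum_bijective (fun p : Q × D =>
    (⟨(p.1 : G) * p.2, P.mem_stab p.1.2 p.2.2⟩ : stabilizer G a)) ⟨fun p q h => ?_, fun g => ?_⟩ _ _
    fun _ => rfl).symm
  · obtain ⟨h1, h2⟩ := qd_unique P.setup p.1.2 q.1.2 p.2.2 q.2.2 (congrArg Subtype.val h)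
    exact Prod.ext (Subtype.ext h1) (Subtype.ext h2)
  · obtain ⟨x, hx, d, hd, e⟩ := exists_qd P.setup g.2
    exact ⟨(⟨x, hx⟩, ⟨d, hd⟩), Subtype.ext e.symm⟩

theorem sum_D (f : G → ℂ) : ∑ d : D, f d = ∑ v : V, ∑ k : K, f ((k : G) * v) := by
  rw [Finset.sum_comm, ← Fintype.sum_prod_type']
  refine (Fintype.sum_bijective (fun p : K × V =>
    (⟨(p.1 : G) * p.2, mul_mem (P.K_le p.1.2) (P.v_le p.2.2)⟩ : D)) ⟨fun p q h => ?_, fun g => ?_⟩ _ _
    fun _ => rfl).symm
  · obtain ⟨h1, h2⟩ := P.kv_unique p.1.2 q.1.2 p.2.2 q.2.2 (congrArg Subtype.val h)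
    exact Prod.ext (Subtype.ext h1) (Subtype.ext h2)
  · obtain ⟨k, hk, v, hv, e⟩ := P.exists_kv g.2
    exact ⟨(⟨k, hk⟩, ⟨v, hv⟩), Subtype.ext e.symm⟩

theorem sum_Z_const {f : G → ℂ} {c : ℂ} (h : ∀ z ∈ P.Z, z ≠ 1 → f z = c) :
    ∑ z : P.Z, f z = f 1 + 7 * c := by
  rw [← Finset.add_sum_erase _ _ (Finset.mem_univ (1 : P.Z)),
    Finset.sum_congr rfl fun (z : P.Z) hz => h z z.2 fun e => Finset.ne_of_mem_erase hz (Subtype.ext e),
    Finset.sum_const, Finset.card_erase_of_mem (Finset.mem_univ _), Finset.card_univ,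
    ← Nat.card_eq_fintype_card, P.card_Z, nsmul_eq_mul]
  simp

theorem sum_conj {F : G → ℂ} (hF : IsStable a F) {l d : G} (hl : l ∈ D) (hd : d ∈ D) :
    ∑ x : Q, F ((x : G) * (l * d * l⁻¹)) = ∑ x : Q, F ((x : G) * d) := by
  let e : Q → Q := fun x => ⟨l * x * l⁻¹, P.Q_conj hl x.2⟩
  have he : Function.Bijective e := Finite.injective_iff_bijective.1 fun x y h =>
    Subtype.ext (mul_left_cancel (mul_right_cancel (congrArg Subtype.val h)))
  refine (Fintype.sum_bijective e he _ _ fun x => ?_).symm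
  rw [show (e x : G) * (l * d * l⁻¹) = l * ((x : G) * d) * l⁻¹ by simp only [e]; group]
  exact (hF l (Subgroup.mem_inf.1 hl).1 _ (P.mem_stab x.2 hd)).symm

variable [FaithfulSMul G Ω]

/-- The sum over the coset `Q d` is a sum over the centraliser of `d` in `Q`. -/
theorem sum_fibre {F : G → ℂ} (hF : IsStable a F) {d : G} (hd : d ∈ D) (hd1 : d ≠ 1) :
    (Nat.card (Q ⊓ Subgroup.centralizer {d} : Subgroup G) : ℂ) * ∑ x : Q, F ((x : G) * d) =
      512 * ∑ c : (Q ⊓ Subgroup.centralizer {d} : Subgroup G), F ((c : G) * d) := by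
  set C := (Q ⊓ Subgroup.centralizer {d} : Subgroup G) with hC
  have hCQ : ∀ c : C, (c : G) ∈ Q := fun c => (Subgroup.mem_inf.1 c.2).1
  have hCd : ∀ c : C, d * (c : G) = c * d := fun c =>
    (Subgroup.mem_centralizer_singleton_iff.1 (Subgroup.mem_inf.1 c.2).2).symm
  have hCZ : ∀ c : C, (c : G) ∈ P.Z := fun c => P.cent_le hd hd1 (hCQ c) (hCd c)
  let Φ : Q × C → Q := fun p => ⟨(p.1 : G) * p.2 * (d * (p.1 : G)⁻¹ * d⁻¹),
    mul_mem (mul_mem p.1.2 (hCQ p.2)) (P.Q_conj hd (inv_mem p.1.2))⟩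
  have hfib : ∀ p q : Q × C, Φ p = Φ q → (q.1 : G)⁻¹ * p.1 ∈ C ∧ p.2 = q.2 := by
    intro p q h
    have h' : (p.1 : G) * p.2 * (d * (p.1 : G)⁻¹ * d⁻¹) = (q.1 : G) * q.2 * (d * (q.1 : G)⁻¹ * d⁻¹) :=
      congrArg Subtype.val h
    set u := (q.1 : G)⁻¹ * p.1 with hu
    have huQ : u ∈ Q := mul_mem (inv_mem q.1.2) p.1.2
    have e0 : d * u * d⁻¹ = (q.2 : G)⁻¹ * u * p.2 := by
      calc d * u * d⁻¹ = (q.2 : G)⁻¹ * ((q.1 : G)⁻¹ * ((q.1 : G) * q.2 * (d * (q.1 : G)⁻¹ * d⁻¹))) *
            (d * p.1 * d⁻¹) := by rw [hu]; group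
        _ = _ := by rw [← h', hu]; group
    have e1 : d * u * d⁻¹ = u * ((q.2 : G)⁻¹ * p.2) := by
      rw [e0, P.Z_comm (inv_mem (hCZ q.2)) huQ, mul_assoc]
    set e := (q.2 : G)⁻¹ * p.2 with hee
    have heC : e ∈ C := mul_mem (inv_mem q.2.2) p.2.2
    have hde : d * e = e * d := hCd ⟨e, heC⟩
    have hiter : ∀ n : ℕ, d ^ n * u * (d ^ n)⁻¹ = u * e ^ n := by
      intro n
      induction n with
      | zero => simp
      | succ n ih =>
        calc d ^ (n + 1) * u * (d ^ (n + 1))⁻¹ = d * (d ^ n * u * (d ^ n)⁻¹) * d⁻¹ := by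
              rw [pow_succ']; group
          _ = (d * u * d⁻¹) * (d * e ^ n * d⁻¹) := by rw [ih]; group
          _ = u * e * e ^ n := by
              rw [e1, ((show Commute d e from hde).pow_right n).eq, mul_inv_cancel_right]
          _ = u * e ^ (n + 1) := by rw [pow_succ', mul_assoc]
    have hodd : Odd (orderOf d) := odd_orderOf P.setup.odd_card hd
    obtain ⟨m, hm⟩ := hodd
    have h3 := hiter (orderOf d)
    rw [pow_orderOf_eq_one, one_mul, inv_one, mul_one] at h3
    have h4 : e ^ orderOf d = 1 := left_eq_mul.1 h3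
    rw [hm, pow_succ, pow_mul, pow_two, P.Z_sq (hCZ ⟨e, heC⟩), one_pow, one_mul] at h4
    rw [h4, mul_one] at e1
    refine ⟨Subgroup.mem_inf.2 ⟨huQ, Subgroup.mem_centralizer_singleton_iff.2
      (mul_inv_eq_iff_eq_mul.1 e1).symm⟩, Subtype.ext (inv_mul_eq_one.1 h4).symm⟩
  have hle : ∀ x : Q, (Finset.univ.filter fun p => Φ p = x).card ≤ Nat.card C := by
    intro x
    by_cases hx : ∃ q, Φ q = x
    · obtain ⟨q, hq⟩ := hx
      rw [Nat.card_eq_fintype_card, ← Finset.card_univ]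
      refine Finset.card_le_card_of_injOn
        (fun p => if h : Φ p = x then ⟨_, (hfib p q (h.trans hq.symm)).1⟩ else 1)
        (fun _ _ => Finset.mem_univ _) fun p hp p' hp' h => ?_
      have hpx : Φ p = x := (Finset.mem_filter.1 hp).2
      have hpx' : Φ p' = x := (Finset.mem_filter.1 hp').2
      simp only [dif_pos hpx, dif_pos hpx', Subtype.mk.injEq, mul_right_inj] at h
      exact Prod.ext (Subtype.ext h)
        ((hfib p q (hpx.trans hq.symm)).2.trans (hfib p' q (hpx'.trans hq.symm)).2.symm)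
    · push Not at hx
      rw [Finset.filter_false_of_mem fun p _ => hx p]
      exact Nat.zero_le _
  have htot : ∑ x : Q, (Finset.univ.filter fun p => Φ p = x).card = ∑ _x : Q, Nat.card C := by
    rw [← Finset.card_eq_sum_card_fiberwise (fun p _ => Finset.mem_univ (Φ p)), Finset.sum_const,
      Finset.card_univ, Finset.card_univ, Fintype.card_prod, smul_eq_mul, Nat.card_eq_fintype_card]
  have heq := (Finset.sum_eq_sum_iff_of_le fun x _ => hle x).1 htot
  have hsum : ∑ p : Q × C, F ((Φ p : G) * d) = (Nat.card C : ℂ) * ∑ x : Q, F ((x : G) * d) := by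
    rw [← Finset.sum_fiberwise_of_maps_to (g := Φ) (fun p _ => Finset.mem_univ (Φ p)), Finset.mul_sum]
    refine Finset.sum_congr rfl fun x _ => ?_
    rw [Finset.sum_congr rfl fun p hp => by rw [(Finset.mem_filter.1 hp).2], Finset.sum_const,
      heq x (Finset.mem_univ x), nsmul_eq_mul]
  have hval : ∀ p : Q × C, F ((Φ p : G) * d) = F ((p.2 : G) * d) := by
    intro p
    rw [show ((Φ p : G) * d) = (p.1 : G) * ((p.2 : G) * d) * (p.1 : G)⁻¹ by
      simp only [Φ]; group]
    exact hF _ (P.setup.le p.1.2) _ (P.mem_stab (hCQ p.2) hd)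
  rw [← hsum, Finset.sum_congr rfl fun p _ => hval p,
    Fintype.sum_prod_type (f := fun p : Q × C => F ((p.2 : G) * d))]
  simp only [Finset.sum_const, Finset.card_univ]
  rw [
    ← Nat.card_eq_fintype_card, P.card_Q, nsmul_eq_mul]
  norm_num

omit [FaithfulSMul G Ω] in
theorem isStable_mul_conj {F : G → ℂ} (hF : IsStable a F) :
    IsStable a fun x => F x * conj (F x) := fun g hg x hx => by simp only [hF g hg x hx]

/-- A stable function summing to zero over the cosets of the involutions. -/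
structure IsClean (P : Pocket a t Q) (F : G → ℂ) : Prop where
  stable : IsStable a F
  sum_zero : ∀ h ∈ stabilizer G a, ∑ z : P.Z, F (h * z) = 0

variable {F : G → ℂ} (hF : P.IsClean F) {s : G} (hs : P.IsBase s)
include hF

theorem sum_coset {d : G} (hd : d ∈ D) : ∑ x : Q, F ((x : G) * d) = 0 := by
  have h8 : ∑ z : P.Z, ∑ x : Q, F ((x : G) * d * z) = 0 := by
    rw [Finset.sum_comm]
    exact Finset.sum_eq_zero fun x _ => hF.sum_zero _ (P.mem_stab x.2 hd)
  have hz : ∀ z : P.Z, ∑ x : Q, F ((x : G) * d * z) = ∑ x : Q, F ((x : G) * d) := by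
    intro z
    have hm : d * z * d⁻¹ ∈ Q := P.Z_le (P.Z_conj hd z.2)
    refine Fintype.sum_equiv (Equiv.mulRight (⟨d * z * d⁻¹, hm⟩ : Q)) _ _ fun x => congrArg F ?_
    show (x : G) * d * z = (x : G) * (d * z * d⁻¹) * d
    group
  rw [Finset.sum_congr rfl fun z _ => hz z, Finset.sum_const, Finset.card_univ,
    ← Nat.card_eq_fintype_card, P.card_Z, nsmul_eq_mul] at h8
  simpa using h8

include hs

theorem w_const {w z : G} (hw : w ∈ wSub a t) (hz : z ∈ P.Z) (hz1 : z ≠ 1) :
    F (w * z) = F (w * s) := by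
  obtain ⟨k, hk, hks⟩ := inverted_transitive P.setup (hs.1.resolve_left hs.2.1) (hz.resolve_left hz1)
  have hk' : k⁻¹ ∈ invK a t := inv_mem (Subgroup.subset_closure hk)
  have e : k⁻¹ * (w * s) * k⁻¹⁻¹ = w * z := by
    calc k⁻¹ * (w * s) * k⁻¹⁻¹ = (k⁻¹ * w) * (s * k) := by group
      _ = w * (k⁻¹ * s * k) := by rw [← P.w_comm_k hw hk']; group
      _ = w * z := by rw [hks]
  rw [← e]
  exact hF.stable _ (Subgroup.mem_inf.1 (P.K_le hk')).1 _
    (mul_mem (Subgroup.mem_inf.1 (wSub_le P.setup P.two hw)).1 (P.setup.le (P.Z_le hs.1)))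

theorem w_sum {w : G} (hw : w ∈ wSub a t) : F w + 7 * F (w * s) = 0 := by
  have h := hF.sum_zero w (Subgroup.mem_inf.1 (wSub_le P.setup P.two hw)).1
  rw [P.sum_Z_const (f := fun z => F (w * z)) (c := F (w * s))
    fun z hz hz1 => P.w_const hF hs hw hz hz1, mul_one] at h
  exact h

theorem eq_on_Z {z : G} (hz : z ∈ P.Z) (hz1 : z ≠ 1) : F z = F s := by
  simpa using P.w_const hF hs (one_mem _) hz hz1

omit hF in
theorem cent_kw {w k : G} (hw : w ∈ wSub a t) (hk : k ∈ K) (hk1 : k ≠ 1) :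
    (Q ⊓ Subgroup.centralizer {k * w} : Subgroup G) = ⊥ := by
  rw [eq_bot_iff]
  intro x hx
  have hc : Commute (k * w) x :=
    (Subgroup.mem_centralizer_singleton_iff.1 (Subgroup.mem_inf.1 hx).2).symm
  have h3 := hc.pow_left 3
  rw [(show Commute k w from (P.w_comm_k hw hk).symm).mul_pow, P.w_pow_three hw, mul_one] at h3
  exact Subgroup.mem_bot.2 (P.K_fpf (pow_mem hk 3) (fun e => hk1 (P.k_eq_one_of_cube hk e))
    (Subgroup.mem_inf.1 hx).1 h3.eq)

theorem kw_zero {w k : G} (hw : w ∈ wSub a t) (hk : k ∈ K) (hk1 : k ≠ 1) : F (k * w) = 0 := by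
  have hd : k * w ∈ D := mul_mem (P.K_le hk) (wSub_le P.setup P.two hw)
  have hd1 : k * w ≠ 1 := fun e => hk1 (P.kv_unique hk (one_mem _) (P.w_mem_v hw) (one_mem _)
    (e.trans (one_mul 1).symm)).1
  have h := P.sum_fibre hF.stable hd hd1
  rw [P.sum_coset hF hd, mul_zero, P.cent_kw hs hw hk hk1] at h
  simpa [Subgroup.mem_bot.1 (default : (⊥ : Subgroup G)).2] using h

omit hF in
theorem sum_cent_v {v : G} (hv : v ∈ V) (hvW : v ∉ wSub a t) (f : G → ℂ) :
    Nat.card (Q ⊓ Subgroup.centralizer {v} : Subgroup G) = 2 ∧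
      ∑ c : (Q ⊓ Subgroup.centralizer {v} : Subgroup G), f c = f 1 + f s := by
  have hv1 : v ≠ 1 := fun e => hvW (e ▸ one_mem _)
  set C := (Q ⊓ Subgroup.centralizer {v} : Subgroup G)
  have hsC : s ∈ C := Subgroup.mem_inf.2 ⟨P.Z_le hs.1,
    Subgroup.mem_centralizer_singleton_iff.2 (hs.2.2 v hv).symm⟩
  have hne : (1 : C) ≠ ⟨s, hsC⟩ := fun e => hs.2.1 (congrArg Subtype.val e).symm
  have huniv : (Finset.univ : Finset C) = {1, ⟨s, hsC⟩} := by
    ext c
    simp only [Finset.mem_univ, Finset.mem_insert, Finset.mem_singleton, true_iff]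
    have hvc : v * (c : G) = c * v :=
      (Subgroup.mem_centralizer_singleton_iff.1 (Subgroup.mem_inf.1 c.2).2).symm
    rcases P.fixed_eq hs hv hvW (P.cent_le (P.v_le hv) hv1 (Subgroup.mem_inf.1 c.2).1 hvc) hvc with h | h
    exacts [Or.inl (Subtype.ext h), Or.inr (Subtype.ext h)]
  refine ⟨?_, ?_⟩
  · rw [Nat.card_eq_fintype_card, ← Finset.card_univ, huniv, Finset.card_pair hne]
  · rw [huniv, Finset.sum_pair hne]; rfl

theorem v_neg {v : G} (hv : v ∈ V) (hvW : v ∉ wSub a t) : F (s * v) = -F v := by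
  have h := P.sum_fibre hF.stable (P.v_le hv) (fun e => hvW (e ▸ one_mem _))
  obtain ⟨-, h2⟩ := P.sum_cent_v hs hv hvW fun c => F (c * v)
  rw [P.sum_coset hF (P.v_le hv), mul_zero, h2, one_mul] at h
  linear_combination -(1 / 512 : ℂ) * h

/-- A clean function vanishes on `Q` outside the involutions. -/
theorem vanish {x : G} (hx : x ∈ Q) (hxZ : x ∉ P.Z) : F x = 0 := by
  obtain ⟨I, hIle, hIcard, hsI, hI⟩ := P.exists_hyperplane hs
  have hidx : (I.subgroupOf P.Z).index = 2 := by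
    have h := (I.subgroupOf P.Z).card_mul_index
    rw [P.card_Z, Nat.card_congr (Subgroup.subgroupOfEquivOfLe hIle).toEquiv, hIcard] at h
    omega
  let η : G → ℂ := fun z => if z ∈ I then 1 else -1
  have hη : ∀ z m : P.Z, (m : G) ∉ I → η ((z * m : P.Z) : G) = -η z := by
    intro z m hm
    have h : ((z * m : P.Z) : G) ∈ I ↔ ((z : G) ∈ I ↔ (m : G) ∈ I) :=
      Subgroup.mul_mem_iff_of_index_two hidx
    by_cases hz : (z : G) ∈ I
    · have h' : ¬((z * m : P.Z) : G) ∈ I := fun e => hm ((h.1 e).1 hz)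
      simp only [η, if_neg h', if_pos hz]
    · have h' : ((z * m : P.Z) : G) ∈ I := h.2 ⟨fun e => absurd e hz, fun e => absurd e hm⟩
      simp only [η, if_pos h', if_neg hz, neg_neg]
  -- the average of the twists
  have hηsum : ∑ z : P.Z, η z = 0 := by
    have h := Fintype.sum_equiv (Equiv.mulRight (⟨s, hs.1⟩ : P.Z)) (fun z => -η z) (fun z => η z)
      fun z => (hη z ⟨s, hs.1⟩ hsI).symm
    rw [Finset.sum_neg_distrib] at h
    linear_combination -(1 / 2 : ℂ) * h
  have hK : ∀ z : P.Z, ∑ k : K, η ((k : G)⁻¹ * z * k) = if z = 1 then 7 else -1 := by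
    intro z
    by_cases hz : z = 1
    · subst hz
      rw [if_pos rfl, Finset.sum_congr rfl fun (k : K) _ => show η ((k : G)⁻¹ * ((1 : P.Z) : G) * k) = 1 by
        simp [η], Finset.sum_const, Finset.card_univ, ← Nat.card_eq_fintype_card, P.card_K]
      simp
    rw [if_neg hz]
    obtain ⟨hzi, hza⟩ := (mem_involutionsIn P.setup).1
      (z.2.resolve_left fun e => hz (Subtype.ext e))
    have hmaps : ∀ k : K, (k : G)⁻¹ * z * k ∈ P.Z := fun k => by
      simpa using P.Z_conj (inv_mem (P.K_le k.2)) z.2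
    let e : K → {y : P.Z // y ≠ 1} := fun k => ⟨⟨_, hmaps k⟩, fun h => hzi.1 (by
      have h' : (k : G)⁻¹ * z * k = 1 := congrArg Subtype.val h
      calc (z : G) = k * ((k : G)⁻¹ * z * k) * (k : G)⁻¹ := by group
        _ = 1 := by rw [h']; group)⟩
    have hebij : Function.Bijective e := by
      refine (Fintype.bijective_iff_injective_and_card e).2 ⟨fun k l h => Subtype.ext ?_, ?_⟩
      · exact inverted_conj_inj P.setup hzi hza ((mem_invK P.setup P.two).1 k.2)
          ((mem_invK P.setup P.two).1 l.2) (congrArg (fun y : {y : P.Z // y ≠ 1} => ((y : P.Z) : G)) h)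
      · rw [Fintype.card_subtype_compl, Fintype.card_subtype_eq, ← Nat.card_eq_fintype_card,
          ← Nat.card_eq_fintype_card, P.card_K, P.card_Z]
    rw [Fintype.sum_bijective e hebij (fun k => η ((k : G)⁻¹ * z * k))
      (fun y => η ((y : P.Z) : G)) fun _ => rfl]
    have h := Fintype.sum_subtype_add_sum_subtype (fun y : P.Z => y ≠ 1) fun y => η (y : G)
    rw [hηsum] at h
    have h1 : ∑ y : {y : P.Z // ¬y ≠ 1}, η ((y : P.Z) : G) = 1 := by
      rw [Fintype.sum_eq_single (⟨1, by simp⟩ : {y : P.Z // ¬y ≠ 1}) fun y hy =>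
        absurd (Subtype.ext (not_not.1 y.2)) hy]
      simp [η]
    linear_combination h - h1
  have htw : ∀ k : K, ∑ z : P.Z, η ((k : G)⁻¹ * z * k) * F (x * z) = 0 := by
    intro k
    have hk := P.K_le k.2
    have hx' : (k : G)⁻¹ * x * k ∈ Q := by simpa using P.Q_conj (inv_mem hk) hx
    have hx'Z : (k : G)⁻¹ * x * k ∉ P.Z := fun h => hxZ (by
      simpa [mul_assoc] using P.Z_conj hk h)
    obtain ⟨y', hy', hc⟩ := hI _ hx' hx'Z
    set y := (k : G) * y' * (k : G)⁻¹ with hy
    have hyQ : y ∈ Q := P.Q_conj hk hy'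
    set m : P.Z := ⟨x⁻¹ * y⁻¹ * x * y, cube_comm_mem P.setup P.two P.cube hx hyQ⟩ with hm
    have hmI : ((k : G)⁻¹ * m * k) ∉ I := by
      convert hc using 1
      simp only [hm, hy]; group
    have hFm : ∀ z : P.Z, F (x * ((z * m : P.Z) : G)) = F (x * z) := by
      intro z
      have e : x * ((z : G) * m) = y⁻¹ * (x * z) * y⁻¹⁻¹ := by
        rw [P.Z_comm z.2 (P.Z_le m.2), inv_inv]
        calc x * ((m : G) * z) = y⁻¹ * (x * (y * z)) := by simp only [hm]; group
          _ = y⁻¹ * (x * z) * y := by rw [← P.Z_comm z.2 hyQ]; group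
      rw [Subgroup.coe_mul, e]
      exact hF.stable _ (P.setup.le (inv_mem hyQ)) _ (P.setup.le (mul_mem hx (P.Z_le z.2)))
    have hηm : ∀ z : P.Z,
        η ((k : G)⁻¹ * ((z * m : P.Z) : G) * k) = -η ((k : G)⁻¹ * z * k) := by
      intro z
      have hc : ∀ w : P.Z, (k : G)⁻¹ * w * k ∈ P.Z := fun w => by
        simpa using P.Z_conj (inv_mem hk) w.2
      have h := hη ⟨_, hc z⟩ ⟨_, hc m⟩ hmI
      rw [← h]
      refine congrArg η ?_
      show (k : G)⁻¹ * ((z : G) * m) * k = ((k : G)⁻¹ * z * k) * ((k : G)⁻¹ * m * k)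
      group
    have h := Fintype.sum_equiv (Equiv.mulRight m)
      (fun z => -(η ((k : G)⁻¹ * z * k) * F (x * z))) (fun z => η ((k : G)⁻¹ * z * k) * F (x * z))
      fun z => by
        rw [Equiv.coe_mulRight, hFm, hηm, neg_mul]
    rw [Finset.sum_neg_distrib] at h
    linear_combination -(1 / 2 : ℂ) * h
  have h0 : ∑ z : P.Z, (1 + ∑ k : K, η ((k : G)⁻¹ * z * k)) * F (x * z) = 0 := by
    rw [Finset.sum_congr rfl fun z _ => by rw [add_mul, one_mul, Finset.sum_mul],
      Finset.sum_add_distrib, hF.sum_zero x (P.setup.le hx), Finset.sum_comm,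
      Finset.sum_eq_zero fun k _ => htw k, add_zero]
  rw [Finset.sum_congr rfl fun z _ => by rw [hK z],
    Finset.sum_eq_single (1 : P.Z) (fun z _ hz => by rw [if_neg hz]; ring)
      fun h => absurd (Finset.mem_univ _) h, if_pos rfl, OneMemClass.coe_one, mul_one] at h0
  norm_num at h0
  exact h0

/-- The norm on `Q` of a clean function. -/
theorem norm_Q : 7 * ∑ x : Q, F x * conj (F x) = 8 * (F 1 * conj (F 1)) := by
  have h1 : ∑ x : Q, F x * conj (F x) = ∑ z : P.Z, F z * conj (F z) := by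
    symm
    refine Finset.sum_of_injOn (fun z : P.Z => (⟨z, P.Z_le z.2⟩ : Q))
      (fun z _ w _ h => Subtype.ext (congrArg (fun y : Q => (y : G)) h))
      (fun z _ => Finset.mem_univ _) (fun x _ hx => ?_) fun _ _ => rfl
    rw [P.vanish hF hs x.2 fun h => hx ⟨⟨x, h⟩, Finset.mem_univ _, rfl⟩, zero_mul]
  rw [h1, P.sum_Z_const (f := fun z => F z * conj (F z)) (c := F s * conj (F s))
    fun z hz hz1 => by rw [P.eq_on_Z hF hs hz hz1]]
  have h7 := P.w_sum hF hs (one_mem (wSub a t))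
  rw [one_mul] at h7
  have h7' : conj (F 1) + 7 * conj (F s) = 0 := by
    have := congrArg (starRingEnd ℂ) h7
    rwa [map_add, map_mul, map_ofNat, map_zero] at this
  linear_combination (7 * conj (F s)) * h7 - F 1 * h7'

theorem sq_kw {w k : G} (hw : w ∈ wSub a t) (hk : k ∈ K) (hk1 : k ≠ 1) :
    ∑ x : Q, F ((x : G) * (k * w)) * conj (F ((x : G) * (k * w))) = 0 := by
  have hd1 : k * w ≠ 1 := fun e => hk1 (P.kv_unique hk (one_mem _) (P.w_mem_v hw) (one_mem _)
    (e.trans (one_mul 1).symm)).1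
  have h := P.sum_fibre (isStable_mul_conj P hF.stable)
    (mul_mem (P.K_le hk) (wSub_le P.setup P.two hw)) hd1
  rw [P.cent_kw hs hw hk hk1] at h
  simpa [Subgroup.mem_bot.1 (default : (⊥ : Subgroup G)).2, P.kw_zero hF hs hw hk hk1] using h

theorem sq_w {w : G} (hw : w ∈ wSub a t) (hw1 : w ≠ 1) :
    7 * ∑ x : Q, F ((x : G) * w) * conj (F ((x : G) * w)) = 512 * (F w * conj (F w)) := by
  have h := P.sum_fibre (isStable_mul_conj P hF.stable) (wSub_le P.setup P.two hw) hw1
  have hC : (Q ⊓ Subgroup.centralizer {w} : Subgroup G) = P.Z := by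
    ext x
    refine ⟨fun hx => cent_wSub P.setup P.two P.cube hw hw1 (Subgroup.mem_inf.1 hx).1
      (Subgroup.mem_centralizer_singleton_iff.1 (Subgroup.mem_inf.1 hx).2).symm, fun hx => ?_⟩
    exact Subgroup.mem_inf.2 ⟨P.Z_le hx,
      Subgroup.mem_centralizer_singleton_iff.2 (P.w_comm_z hw hx).symm⟩
  rw [hC, P.card_Z, P.sum_Z_const (f := fun z => F (z * w) * conj (F (z * w)))
    (c := F (w * s) * conj (F (w * s))) fun z hz hz1 => by
      rw [← P.w_comm_z hw hz, P.w_const hF hs hw hz hz1], one_mul] at h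
  have h7 := P.w_sum hF hs hw
  have h7' : conj (F w) + 7 * conj (F (w * s)) = 0 := by
    have := congrArg (starRingEnd ℂ) h7
    rwa [map_add, map_mul, map_ofNat, map_zero] at this
  push_cast at h
  linear_combination (7 / 8 : ℂ) * h + (64 * (7 * conj (F (w * s)))) * h7 - (64 * F w) * h7'

theorem sq_v {v k : G} (hv : v ∈ V) (hvW : v ∉ wSub a t) (hk : k ∈ K) :
    ∑ x : Q, F ((x : G) * (k * v)) * conj (F ((x : G) * (k * v))) = 512 * (F v * conj (F v)) ∧
      F (k * v) = F v := by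
  obtain ⟨l, hl, hlv⟩ := P.exists_conj hs hv hvW hk
  rw [← hlv]
  refine ⟨?_, hF.stable _ (Subgroup.mem_inf.1 (P.K_le hl)).1 _ (Subgroup.mem_inf.1 (P.v_le hv)).1⟩
  rw [P.sum_conj (isStable_mul_conj P hF.stable) (P.K_le hl) (P.v_le hv)]
  have h := P.sum_fibre (isStable_mul_conj P hF.stable) (P.v_le hv) (fun e => hvW (e ▸ one_mem _))
  obtain ⟨h2, h3⟩ := P.sum_cent_v hs hv hvW fun c => F (c * v) * conj (F (c * v))
  rw [h2, h3, one_mul, P.v_neg hF hs hv hvW, map_neg] at h
  push_cast at h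
  linear_combination (1 / 2 : ℂ) * h

/-- The sums over the cosets of `K`. -/
theorem sum_K {v : G} (hv : v ∈ V) :
    ∑ k : K, F ((k : G) * v) = if v ∈ wSub a t then F v else 7 * F v := by
  split_ifs with hvW
  · rw [Fintype.sum_eq_single (1 : K) fun k hk => P.kw_zero hF hs hvW k.2 fun e => hk (Subtype.ext e)]
    simp
  · rw [Finset.sum_congr rfl fun k _ => (P.sq_v hF hs hv hvW k.2).2, Finset.sum_const,
      Finset.card_univ, ← Nat.card_eq_fintype_card, P.card_K, nsmul_eq_mul]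
    norm_num

/-- The norm of a clean function. -/
theorem norm_eq : 7 * ∑ h : stabilizer G a, F h * conj (F h) + 504 * (F 1 * conj (F 1)) =
    512 * ∑ v : V, (∑ k : K, F ((k : G) * v)) * conj (∑ k : K, F ((k : G) * v)) := by
  rw [P.sum_stabilizer fun h => F h * conj (F h),
    P.sum_D fun d => ∑ x : Q, F ((x : G) * d) * conj (F ((x : G) * d)), Finset.mul_sum, Finset.mul_sum]
  rw [← Finset.add_sum_erase _ _ (Finset.mem_univ (1 : V))]
  conv_rhs => rw [← Finset.add_sum_erase _ _ (Finset.mem_univ (1 : V))]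
  have h1 : 7 * ∑ k : K, ∑ x : Q, F ((x : G) * ((k : G) * (1 : V))) *
      conj (F ((x : G) * ((k : G) * (1 : V)))) + 504 * (F 1 * conj (F 1)) =
      512 * ((∑ k : K, F ((k : G) * (1 : V))) * conj (∑ k : K, F ((k : G) * (1 : V)))) := by
    rw [P.sum_K hF hs (1 : V).2, if_pos (show ((1 : V) : G) ∈ wSub a t from one_mem _),
      Fintype.sum_eq_single (1 : K) fun k hk =>
        P.sq_kw hF hs (show ((1 : V) : G) ∈ wSub a t from one_mem _) k.2 fun e => hk (Subtype.ext e)]
    simp only [OneMemClass.coe_one, mul_one]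
    linear_combination P.norm_Q hF hs
  have h2 : ∀ v ∈ Finset.univ.erase (1 : V),
      7 * ∑ k : K, ∑ x : Q, F ((x : G) * ((k : G) * v)) * conj (F ((x : G) * ((k : G) * v))) =
        512 * ((∑ k : K, F ((k : G) * v)) * conj (∑ k : K, F ((k : G) * v))) := by
    intro v hv
    have hv1 : (v : G) ≠ 1 := fun e => Finset.ne_of_mem_erase hv (Subtype.ext e)
    rw [P.sum_K hF hs v.2]
    split_ifs with hvW
    · rw [Fintype.sum_eq_single (1 : K) fun k hk =>
        P.sq_kw hF hs hvW k.2 fun e => hk (Subtype.ext e)]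
      simp only [OneMemClass.coe_one, one_mul]
      exact P.sq_w hF hs hvW hv1
    · rw [Finset.sum_congr rfl fun k _ => (P.sq_v hF hs v.2 hvW k.2).1, Finset.sum_const,
        Finset.card_univ, ← Nat.card_eq_fintype_card, P.card_K, nsmul_eq_mul, map_mul]
      push_cast
      rw [map_ofNat]
      ring
  rw [Finset.sum_congr rfl h2]
  linear_combination h1

end Cfsg.Agent.RankOne.Pocket
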