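import Cfsg.Agent.S0157
import Cfsg.Agent.Lib.Char.Induction
import Cfsg.Agent.Lib.Char.Integral
import Cfsg.Agent.Lib.RankOne.Coprime
import Mathlib.GroupTheory.FiniteAbelian.Duality

/-!
# A character of degree two less than the number of points

An element without fixed points whose centraliser of odd order is inverted, modulo a proper normal
subgroup `O`, by an involution, and whose cyclic subgroup is met by every element of the centraliser
outside `O`, gives a virtual character of norm three and thus an irreducible character of degree two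
less than the number of points of a doubly transitive action.
-/

set_option autoImplicit false
set_option linter.unusedSectionVars false

namespace Cfsg.Agent.RankOne

open MulAction
open scoped ComplexConjugate

universe u v

variable {G : Type u} [Group G] [Finite G]

/-- A nontrivial homomorphism of `X` to `ℂˣ`, trivial on `O`, inverted by `i`. -/
theorem exists_inverted_hom {i : G} {X O : Subgroup G} (hodd : Odd (Nat.card X)) (hi : i * i = 1)
    (hiX : ∀ x ∈ X, i * x * i ∈ X) (hOX : O < X) (hOn : ∀ x ∈ X, ∀ y ∈ O, x * y * x⁻¹ ∈ O)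
    (hfix : ∀ x ∈ X, i * x * i = x → x ∈ O) :
    ∃ η : X →* ℂˣ, (∀ x : X, (x : G) ∈ O → η x = 1) ∧ (∃ x, η x ≠ 1) ∧
      ∀ x y : X, (y : G) = i * x * i → η y = (η x)⁻¹ := by
  have hii : i⁻¹ = i := inv_eq_of_mul_eq_one_right hi
  let N : Subgroup X := O.subgroupOf X
  haveI hN : N.Normal := ⟨fun y hy x => hOn x x.2 y hy⟩
  let π : X →* X ⧸ N := QuotientGroup.mk' N
  have hπ : ∀ x : X, π x = 1 ↔ (x : G) ∈ O := fun x => by
    rw [show π x = 1 ↔ x ∈ N from QuotientGroup.eq_one_iff x]; rfl
  let σ : X → X := fun x => ⟨i * x * i, hiX x x.2⟩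
  have hσ : ∀ x, π (σ x) = (π x)⁻¹ := by
    intro x
    obtain ⟨y, z, hy, hyf, hz, e⟩ := exists_decomp (t := i) hi hodd
      (fun w hw => by rw [hii]; exact hiX w hw) x.2
    rw [hii] at hyf
    have hz2 := hz.2
    rw [hii] at hz2
    rw [eq_inv_iff_mul_eq_one, ← map_mul, hπ]
    show i * (x : G) * i * (x : G) ∈ O
    have e1 : i * (x : G) * i * (x : G) = y * (z⁻¹ * y * z) := by
      calc i * (x : G) * i * (x : G) = i * y * (i * i) * z * i * (y * z) := by
            rw [hi, e]; group
        _ = (i * y * i) * (i * z * i) * (y * z) := by group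
        _ = y * (z⁻¹ * y * z) := by rw [hyf, hz2]; group
    rw [e1]
    refine mul_mem (hfix y hy hyf) ?_
    simpa using hOn z⁻¹ (inv_mem hz.1) y (hfix y hy hyf)
  have hcomm : ∀ a b : X ⧸ N, a * b = b * a := by
    intro a b
    induction a using QuotientGroup.induction_on with | H x => ?_
    induction b using QuotientGroup.induction_on with | H y => ?_
    have h1 : σ (x * y) = σ x * σ y := Subtype.ext <| by
      show i * ((x : G) * y) * i = i * x * i * (i * y * i)
      calc i * ((x : G) * y) * i = i * x * (i * i) * y * i := by rw [hi]; group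
        _ = _ := by group
    have h2 := hσ (x * y)
    rw [h1, map_mul, map_mul, hσ, hσ, mul_inv_rev] at h2
    have h3 := congrArg (·⁻¹) h2
    simp only [mul_inv_rev, inv_inv] at h3
    exact h3.symm
  letI : CommGroup (X ⧸ N) := { (inferInstance : Group (X ⧸ N)) with mul_comm := hcomm }
  obtain ⟨x₀, hx₀, hx₀O⟩ := SetLike.exists_of_lt hOX
  haveI : NeZero (Monoid.exponent (X ⧸ N)) := ⟨Monoid.exponent_ne_zero_of_finite⟩
  obtain ⟨φ, hφ⟩ := CommGroup.exists_apply_ne_one_of_hasEnoughRootsOfUnity (X ⧸ N) ℂ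
    (a := π ⟨x₀, hx₀⟩) (fun h => hx₀O ((hπ _).1 h))
  refine ⟨φ.comp π, fun x hx => ?_, ⟨⟨x₀, hx₀⟩, hφ⟩, fun x y hy => ?_⟩
  · rw [MonoidHom.comp_apply, (hπ x).2 hx, map_one]
  · rw [show y = σ x from Subtype.ext hy, MonoidHom.comp_apply, hσ, map_inv]; rfl

/-- Sums of a nontrivial linear character. -/
theorem sum_hom_eq_zero {X : Type*} [Group X] [Fintype X] (η : X →* ℂˣ) (h : ∃ x, η x ≠ 1) :
    ∑ x, (η x : ℂ) = 0 := by
  obtain ⟨y, hy⟩ := h
  have e : (η y : ℂ) * ∑ x, (η x : ℂ) = ∑ x, (η x : ℂ) := by
    rw [Finset.mul_sum]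
    exact Fintype.sum_equiv (Equiv.mulLeft y) _ _ fun x => by simp
  by_contra h0
  exact hy (Units.ext ((mul_eq_right₀ h0).1 e))


/-- A cyclic group has at most one subgroup of each order. -/
theorem cyclic_subgroup_unique {C : Type*} [Group C] [Finite C] [IsCyclic C] {X Y : Subgroup C}
    (h : Nat.card X = Nat.card Y) : X = Y := by
  letI : Fintype C := Fintype.ofFinite C
  classical
  have key : ∀ Z : Subgroup C, (Z : Set C).toFinset =
      Finset.univ.filter fun a : C => a ^ Nat.card Z = 1 := fun Z => by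
    refine Finset.eq_of_subset_of_card_le (fun a ha => ?_) ?_
    · rw [Set.mem_toFinset] at ha
      rw [Finset.mem_filter]
      exact ⟨Finset.mem_univ _, orderOf_dvd_iff_pow_eq_one.1 (Subgroup.orderOf_dvd_natCard Z ha)⟩
    · refine (IsCyclic.card_pow_eq_one_le (Nat.card_pos (α := Z))).trans ?_
      rw [← Set.ncard_eq_toFinset_card', ← Nat.card_coe_set_eq]
      exact le_rfl
  refine SetLike.coe_injective (Set.toFinset_inj.1 ?_)
  rw [key X, key Y, h]

/-- The degree of the permutation character less one divides the order of the group. -/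
theorem card_points_sub_two_dvd {Ω : Type v} [MulAction G Ω] [Finite Ω] [IsPretransitive G Ω]
    (h2t : IsMultiplyPretransitive G Ω 2) (hn : 3 ≤ Nat.card Ω) {c i : G} {X O : Subgroup G}
    (hXc : X = Subgroup.centralizer {c}) (hodd : Odd (Nat.card X)) (hi : i * i = 1)
    (hic : i * c * i = c⁻¹) (hfree : ∀ p : Ω, c • p ≠ p)
    (hfus : ∀ g : G, g * c * g⁻¹ ∈ Subgroup.zpowers c → g * c * g⁻¹ = c ∨ g * c * g⁻¹ = c⁻¹)
    (hOX : O < X) (hOn : ∀ x ∈ X, ∀ y ∈ O, x * y * x⁻¹ ∈ O)
    (hfix : ∀ x ∈ X, i * x * i = x → x ∈ O)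
    (hgen : ∀ x ∈ X, x ∉ O → c ∈ Subgroup.zpowers x) :
    Nat.card Ω - 2 ∣ Nat.card G := by
  classical
  have hii : i⁻¹ = i := inv_eq_of_mul_eq_one_right hi
  have memX : ∀ {x : G}, x ∈ X ↔ x * c = c * x := fun {x} => by
    rw [hXc, Subgroup.mem_centralizer_singleton_iff]
  have hi2 : ∀ w : G, i * (i * w * i) * i = w := fun w => by
    calc i * (i * w * i) * i = (i * i) * w * (i * i) := by group
      _ = w := by rw [hi]; group
  have hiX : ∀ x ∈ X, i * x * i ∈ X := by
    intro x hx
    have h1 : Commute x c⁻¹ := (show Commute x c from memX.1 hx).inv_right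
    refine memX.2 ?_
    have hc : c = i * c⁻¹ * i := by rw [← hic, hi2]
    calc i * x * i * c = i * x * i * (i * c⁻¹ * i) := by rw [← hc]
      _ = i * (x * c⁻¹) * i := by
          rw [show i * x * i * (i * c⁻¹ * i) = i * x * (i * i) * c⁻¹ * i by group, hi]; group
      _ = i * (c⁻¹ * x) * i := by rw [h1.eq]
      _ = i * c⁻¹ * (i * i) * x * i := by rw [hi]; group
      _ = (i * c⁻¹ * i) * (i * x * i) := by group
      _ = c * (i * x * i) := by rw [← hc]
  have hi1 : i ∉ X := fun hiX' => by
    have h1 : orderOf (⟨i, hiX'⟩ : X) ∣ 2 := orderOf_dvd_of_pow_eq_one (Subtype.ext (by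
      show i ^ 2 = 1
      rw [sq, hi]))
    have h2 : Odd (orderOf (⟨i, hiX'⟩ : X)) := hodd.of_dvd_nat (orderOf_dvd_natCard _)
    rcases (Nat.dvd_prime Nat.prime_two).1 h1 with h | h
    · have h3 : i = 1 := congrArg Subtype.val (orderOf_eq_one_iff.1 h)
      obtain ⟨⟨p⟩, -⟩ := Nat.card_pos_iff.1 (show 0 < Nat.card Ω by omega)
      have hcc : c = c⁻¹ := by rw [← hic, h3]; group
      have h4 : orderOf (⟨c, memX.2 rfl⟩ : X) ∣ 2 := orderOf_dvd_of_pow_eq_one (Subtype.ext (by
        show c ^ 2 = 1
        rw [sq]; exact eq_inv_iff_mul_eq_one.1 hcc))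
      have h5 : Odd (orderOf (⟨c, memX.2 rfl⟩ : X)) := hodd.of_dvd_nat (orderOf_dvd_natCard _)
      rcases (Nat.dvd_prime Nat.prime_two).1 h4 with h6 | h6
      · exact hfree p (by rw [show c = 1 from congrArg Subtype.val (orderOf_eq_one_iff.1 h6), one_smul])
      · rw [h6] at h5; exact absurd h5 (by decide)
    · rw [h] at h2; exact absurd h2 (by decide)
  haveI : Fintype G := Fintype.ofFinite G
  obtain ⟨η, hηO, hη1, hηi⟩ := exists_inverted_hom hodd hi hiX hOX hOn hfix
  set e : X → ℂ := fun x => (η x : ℂ) with he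
  have hconj : ∀ x, conj (e x) = ((η x)⁻¹ : ℂˣ) := fun x => by
    have hp : e x ^ Nat.card X = 1 := by
      rw [he, ← Units.val_pow_eq_pow_val, ← map_pow, pow_card_eq_one', map_one, Units.val_one]
    rw [Units.val_inv_eq_inv_val, Complex.inv_eq_conj]
    exact Char.norm_eq_one_of_pow Nat.card_pos.ne' hp
  set θ : X → ℂ := fun x => 1 - e x with hθ
  set f : G → ℂ := Cfsg.indFun X θ with hf
  have hθO : ∀ x : X, (x : G) ∈ O → θ x = 0 := fun x hx => by simp [hθ, he, hηO x hx]
  -- values on the special elements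
  have hsame : ∀ x y : X, (x : G) ∉ O → (y : G) ∉ O → ∀ g : G, g⁻¹ * x * g = y →
      g ∈ X ∨ g * i ∈ X := by
    intro x y hx hy g hg
    obtain ⟨k, hk⟩ := hgen x x.2 hx
    set d := g⁻¹ * c * g with hd
    have hdy : d ∈ Subgroup.zpowers (y : G) := ⟨k, by
      show (y : G) ^ k = d
      have h1 := conj_zpow (i := k) (a := g⁻¹) (b := (x : G))
      rw [inv_inv] at h1
      rw [← hg, h1]
      show g⁻¹ * (x : G) ^ k * g = d
      rw [show (x : G) ^ k = c from hk, hd]⟩
    have hord : orderOf d = orderOf c := by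
      have := (MulAut.conj g⁻¹).orderOf_eq c
      simpa [hd] using this
    have hz : Subgroup.zpowers d = Subgroup.zpowers c := by
      let Z := Subgroup.zpowers (y : G)
      have h1 : Subgroup.zpowers (⟨d, hdy⟩ : Z) = Subgroup.zpowers (⟨c, hgen y y.2 hy⟩ : Z) := by
        refine cyclic_subgroup_unique ?_
        rw [Nat.card_zpowers, Nat.card_zpowers, ← Subgroup.orderOf_coe, ← Subgroup.orderOf_coe]
        exact hord
      have h2 := congrArg (Subgroup.map Z.subtype) h1
      rwa [MonoidHom.map_zpowers, MonoidHom.map_zpowers] at h2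
    have hmem : g⁻¹ * c * g⁻¹⁻¹ ∈ Subgroup.zpowers c := by
      rw [inv_inv, ← hd, ← hz]; exact Subgroup.mem_zpowers d
    rcases hfus g⁻¹ hmem with h | h <;> rw [inv_inv] at h
    · left
      refine memX.2 ?_
      calc g * c = g * (g⁻¹ * c * g) := by rw [h]
        _ = c * g := by group
    · right
      refine memX.2 ?_
      have hc : i * c⁻¹ * i = c := by rw [← hic, hi2]
      calc g * i * c = g * (i * c * i) * i := by
            rw [show g * (i * c * i) * i = g * i * c * (i * i) by group, hi, mul_one]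
        _ = g * (g⁻¹ * c * g) * i := by rw [hic, ← h]
        _ = c * (g * i) := by group
  have hval : ∀ x : X, (x : G) ∉ O → f x = 2 - e x - conj (e x) := by
    intro x hx
    have hxi : i * (x : G) * i ∈ X := hiX x x.2
    have key : ∀ g : G, Cfsg.extendByZero X θ (g⁻¹ * x * g) =
        (if g ∈ X then θ x else 0) + (if g * i ∈ X then θ ⟨_, hxi⟩ else 0) := by
      intro g
      by_cases hg : g ∈ X
      · have hgi : g * i ∉ X := fun h => hi1 ((X.mul_mem_cancel_left hg).1 h)
        rw [if_pos hg, if_neg hgi, add_zero]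
        have hmem : g⁻¹ * (x : G) * g ∈ X := X.mul_mem (X.mul_mem (X.inv_mem hg) x.2) hg
        rw [Char.extendByZero_mem X θ hmem]
        have : (⟨_, hmem⟩ : X) = (⟨g, hg⟩ : X)⁻¹ * x * ⟨g, hg⟩ := Subtype.ext rfl
        simp only [hθ, he, this, map_mul, map_inv]
        rw [mul_comm (η ⟨g, hg⟩)⁻¹, mul_assoc, inv_mul_cancel, mul_one]
      · by_cases hgi : g * i ∈ X
        · rw [if_neg hg, if_pos hgi, zero_add]
          set z : X := ⟨g * i, hgi⟩
          have heq : g⁻¹ * (x : G) * g = i * ((z : G)⁻¹ * x * z) * i := by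
            show _ = i * ((g * i)⁻¹ * x * (g * i)) * i
            rw [mul_inv_rev, hii, show i * (i * g⁻¹ * (x : G) * (g * i)) * i
              = (i * i) * (g⁻¹ * x * g) * (i * i) by group, hi, one_mul, mul_one]
          have hmem : g⁻¹ * (x : G) * g ∈ X := heq ▸ hiX _ (z⁻¹ * x * z).2
          rw [Char.extendByZero_mem X θ hmem]
          simp only [hθ, he]
          rw [hηi (z⁻¹ * x * z) ⟨_, hmem⟩ heq, hηi x ⟨_, hxi⟩ rfl]
          simp only [map_mul, map_inv]
          rw [mul_comm (η z)⁻¹, mul_assoc, inv_mul_cancel, mul_one]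
        · rw [if_neg hg, if_neg hgi, add_zero]
          by_cases hmem : g⁻¹ * (x : G) * g ∈ X
          · rw [Char.extendByZero_mem X θ hmem]
            refine hθO _ (by_contra fun hy => ?_)
            rcases hsame x ⟨_, hmem⟩ hx hy g rfl with h | h
            exacts [hg h, hgi h]
          · exact Char.extendByZero_not_mem X θ hmem
    have hcard : (Finset.univ.filter fun g : G => g ∈ X).card = Nat.card X := by
      rw [← Fintype.card_subtype, ← Nat.card_eq_fintype_card]
    have hcard' : (Finset.univ.filter fun g : G => g * i ∈ X).card = Nat.card X := by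
      rw [← hcard]
      exact Finset.card_equiv (Equiv.mulRight i) (fun g => by simp)
    rw [hf, Char.indFun_apply, Finset.sum_congr rfl fun g _ => key g, Finset.sum_add_distrib,
      Finset.sum_ite, Finset.sum_ite]
    simp only [Finset.sum_const_zero, add_zero, Finset.sum_const, nsmul_eq_mul, hcard, hcard']
    rw [← mul_add, ← mul_assoc, inv_mul_cancel₀ (Nat.cast_ne_zero.2 Nat.card_pos.ne'), one_mul]
    simp only [hθ, he]
    rw [hηi x ⟨_, hxi⟩ rfl]
    have := hconj x
    simp only [he] at this
    rw [this]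
    ring
  have hcard0 : (Nat.card X : ℂ) ≠ 0 := Nat.cast_ne_zero.2 Nat.card_pos.ne'
  have hsum : ∑ x, e x = 0 := sum_hom_eq_zero η hη1
  have hsum' : ∑ x, conj (e x) = 0 := by rw [← map_sum, hsum, map_zero]
  have hsum2 : ∑ x, e x * e x = 0 := by
    have h := sum_hom_eq_zero (η * η) (by
      obtain ⟨y, hy⟩ := hη1
      refine ⟨y, fun h => hy ?_⟩
      have h2 : orderOf (η y) ∣ 2 := orderOf_dvd_of_pow_eq_one (by rw [sq]; exact h)
      have h3 : Odd (orderOf (η y)) :=
        hodd.of_dvd_nat ((orderOf_map_dvd η y).trans (orderOf_dvd_natCard y))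
      rcases (Nat.dvd_prime Nat.prime_two).1 h2 with h4 | h4
      · exact orderOf_eq_one_iff.1 h4
      · rw [h4] at h3; exact absurd h3 (by decide))
    simpa [he] using h
  have hone : ∀ x, e x * conj (e x) = 1 := fun x => by
    rw [hconj, he, ← Units.val_mul, mul_inv_cancel, Units.val_one]
  have hθc : Cfsg.IsGeneralizedCharacter X θ :=
    Char.IsGeneralizedCharacter.sub (Char.IsGeneralizedCharacter.of_isCharacter Char.isCharacter_one)
      (Char.IsGeneralizedCharacter.of_isCharacter
        (Char.IsIrrCharacter.isCharacter (Char.isIrrCharacter_linear η)))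
  have hfg : Cfsg.IsGeneralizedCharacter G f := Char.IsGeneralizedCharacter.indFun X hθc
  have hff : Cfsg.classInner f f = 3 := by
    rw [hf, Char.classInner_indFun_left _ _ (Char.isClassFunction_indFun _ _), Cfsg.classInner]
    have : ∀ x : X, θ x * conj (f (x : G)) = 3 - 3 * e x - conj (e x) + e x * e x := by
      intro x
      by_cases hx : (x : G) ∈ O
      · rw [hθO x hx, zero_mul]
        simp [he, hηO x hx]
      · rw [hval x hx, hθ, map_sub, map_sub, Complex.conj_conj]
        have h2 : conj (2 : ℂ) = 2 := map_ofNat _ 2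
        rw [h2]
        linear_combination hone x
    rw [← hf, Finset.sum_congr rfl fun x _ => this x, Finset.sum_add_distrib, Finset.sum_sub_distrib,
      Finset.sum_sub_distrib, ← Finset.mul_sum, hsum, hsum', hsum2, Finset.sum_const, Finset.card_univ,
      nsmul_eq_mul, ← Nat.card_eq_fintype_card (α := X)]
    field_simp
    ring
  let one : G → ℂ := fun _ => 1
  let P : G → ℂ := fun g => (Nat.card (fixedBy Ω g) : ℂ) - 1
  have hone' : Cfsg.IsIrrCharacter G one := Char.isIrrCharacter_one
  have hP : Cfsg.IsIrrCharacter G P := (S0157.result Ω (by omega)).2 h2t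
  have hPS : ∀ x : X, (x : G) ∉ O → P x = -1 := by
    intro x hx
    obtain ⟨k, hk⟩ := hgen x x.2 hx
    have : fixedBy Ω (x : G) = ∅ := Set.eq_empty_iff_forall_notMem.2 fun p hp => hfree p (by
      rw [← show (x : G) ^ k = c from hk]
      exact mem_stabilizer_iff.1 ((stabilizer G p).zpow_mem (mem_stabilizer_iff.2 hp) k))
    show (Nat.card (fixedBy Ω (x : G)) : ℂ) - 1 = -1
    rw [Nat.card_coe_set_eq, this, Set.ncard_empty, Nat.cast_zero, zero_sub]
  have hne : P ≠ one := fun h => by
    obtain ⟨x, hx⟩ := hη1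
    have hxO : (x : G) ∉ O := fun hh => hx (hηO x hh)
    have := congrFun h (x : G)
    rw [hPS x hxO] at this
    norm_num [one] at this
  have hf1 : Cfsg.classInner f one = 1 := by
    rw [hf, Char.classInner_indFun_left _ _ (Char.IsCharacter.isClassFunction
      (Char.IsIrrCharacter.isCharacter hone')), Cfsg.classInner]
    simp only [one, map_one, mul_one, hθ, Finset.sum_sub_distrib, hsum, Finset.sum_const,
      Finset.card_univ, nsmul_eq_mul, mul_one, sub_zero]
    rw [← Nat.card_eq_fintype_card (α := X), inv_mul_cancel₀ hcard0]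
  have hfP : Cfsg.classInner f P = -1 := by
    rw [hf, Char.classInner_indFun_left _ _ (Char.IsCharacter.isClassFunction
      (Char.IsIrrCharacter.isCharacter hP)), Cfsg.classInner]
    have : ∀ x : X, θ x * conj (P (x : G)) = -(θ x) := by
      intro x
      by_cases hx : (x : G) ∈ O
      · simp [hθO x hx]
      · simp [hPS x hx]
    rw [Finset.sum_congr rfl fun x _ => this x, Finset.sum_neg_distrib]
    simp only [hθ, Finset.sum_sub_distrib, hsum, Finset.sum_const,
      Finset.card_univ, nsmul_eq_mul, mul_one, sub_zero]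
    rw [← Nat.card_eq_fintype_card (α := X), mul_neg, inv_mul_cancel₀ hcard0]
  set A : G → ℂ := f - one + P with hA
  have hAA : Cfsg.classInner A A = 1 := by
    simp only [hA, Char.classInner_add_left, Char.classInner_add_right, Char.classInner_sub_left,
      Char.classInner_sub_right, hff, hf1, hfP, Char.classInner_self_irr hone',
      Char.classInner_self_irr hP, Char.classInner_irr_of_ne hP hone' hne,
      Char.classInner_irr_of_ne hone' hP hne.symm]
    rw [← Char.classInner_conj_symm f one, ← Char.classInner_conj_symm f P, hf1, hfP]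
    simp only [map_neg, map_one]
    ring
  have hA1 : A 1 = ((Nat.card Ω - 2 : ℕ) : ℂ) := by
    have hf0 : f 1 = 0 := by
      rw [hf, Char.indFun_one_apply]
      simp [hθ, he]
    show f 1 - 1 + ((Nat.card (fixedBy Ω (1 : G)) : ℂ) - 1) = _
    rw [hf0, fixedBy_one_eq_univ, Nat.card_coe_set_eq, Set.ncard_univ,
      Nat.cast_sub (by omega : 2 ≤ Nat.card Ω)]
    push_cast
    ring
  have hAg : Cfsg.IsGeneralizedCharacter G A :=
    Char.IsGeneralizedCharacter.add (Char.IsGeneralizedCharacter.sub hfg
      (Char.IsGeneralizedCharacter.of_isCharacter (Char.IsIrrCharacter.isCharacter hone')))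
      (Char.IsGeneralizedCharacter.of_isCharacter (Char.IsIrrCharacter.isCharacter hP))
  rcases Char.IsGeneralizedCharacter.of_norm_one hAg hAA with h | h
  · exact Char.degree_dvd_card h hA1
  · exfalso
    obtain ⟨d, -, hd⟩ := Char.IsIrrCharacter.exists_degree h
    rw [Pi.neg_apply, hA1] at hd
    have h0 : ((d + (Nat.card Ω - 2) : ℕ) : ℂ) = 0 := by
      push_cast; rw [← hd]; ring
    have := Nat.cast_eq_zero.1 h0
    omega

end Cfsg.Agent.RankOne
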