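import Cfsg.Agent.Lib.RankOneW.TorusSys
import Cfsg.Agent.Lib.RankOneW.TorusChar
import Cfsg.Agent.Lib.RankOneW.Basic
import Mathlib.GroupTheory.IndexNormal

/-!
# Orders in the centraliser of an element of a torus

The centraliser of an element of order three of a torus has order dividing three times the order of
the product of the torus with `W`; no torus element of prime order different from three lies in the
intersection with the mate.
-/

set_option autoImplicit false
set_option linter.unusedSectionVars false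

namespace Cfsg.Agent.RankOne

open MulAction

variable {G : Type*} [Group G]

/-- In a finite cyclic subgroup the order decides membership in cyclic subgroups. -/
theorem mem_zpowers_of_cyclic [Finite G] {T : Subgroup G} (hT : IsCyclic T) {x y : G} (hx : x ∈ T)
    (hy : y ∈ T) (h : orderOf x ∣ orderOf y) : x ∈ Subgroup.zpowers y := by
  haveI := hT
  have hy0 : orderOf y ≠ 0 := (orderOf_pos y).ne'
  have hx0 : orderOf x ≠ 0 := (orderOf_pos x).ne'
  obtain ⟨k, hk⟩ := h
  have hk0 : k ≠ 0 := by rintro rfl; rw [mul_zero] at hk; exact hy0 hk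
  have he : Subgroup.zpowers (⟨x, hx⟩ : T) = Subgroup.zpowers (⟨y ^ k, pow_mem hy k⟩ : T) := by
    refine cyclic_subgroup_unique ?_
    rw [Nat.card_zpowers, Nat.card_zpowers, Subgroup.orderOf_mk, Subgroup.orderOf_mk,
      orderOf_pow_of_dvd hk0 ⟨orderOf x, by rw [hk, mul_comm]⟩, hk,
      Nat.mul_div_cancel _ (Nat.pos_of_ne_zero hk0)]
  have hmem : (⟨x, hx⟩ : T) ∈ Subgroup.zpowers (⟨y ^ k, pow_mem hy k⟩ : T) :=
    he ▸ Subgroup.mem_zpowers _
  obtain ⟨j, hj⟩ := hmem
  exact ⟨(k : ℤ) * j, by simpa [zpow_mul] using congrArg Subtype.val hj⟩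

/-- Membership from two coprime powers. -/
theorem mem_of_pow_mem {H : Subgroup G} {x : G} {m n : ℕ} (hc : Nat.Coprime m n) (hm : x ^ m ∈ H)
    (hn : x ^ n ∈ H) : x ∈ H := by
  have h := Nat.gcd_eq_gcd_ab m n
  rw [hc.gcd_eq_one, Nat.cast_one] at h
  rw [← zpow_one x, h, zpow_add, zpow_mul, zpow_mul, zpow_natCast, zpow_natCast]
  exact mul_mem (zpow_mem hm _) (zpow_mem hn _)

/-- An element of odd order cannot invert a nontrivial element of odd order. -/
theorem eq_one_of_inverted [Finite G] {g x : G} (hg : Odd (orderOf g)) (hx : Odd (orderOf x))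
    (h : g * x * g⁻¹ = x⁻¹) : x = 1 := by
  have h1 : Commute (g ^ 2) x := by
    have h3 : g ^ 2 * x * (g ^ 2)⁻¹ = x := by
      calc g ^ 2 * x * (g ^ 2)⁻¹ = g * (g * x * g⁻¹) * g⁻¹ := by rw [pow_two]; group
        _ = (g * x * g⁻¹)⁻¹ := by rw [h]; group; rw [← inv_inj]; simp [h, mul_assoc]
        _ = x := by rw [h, inv_inv]
    exact mul_inv_eq_iff_eq_mul.1 h3
  obtain ⟨m, hm⟩ := exists_pow_eq_self_of_coprime (x := g) (n := 2) (Nat.coprime_two_left.2 hg)
  have h2 : Commute g x := hm ▸ h1.pow_left m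
  rw [h2.eq, mul_inv_cancel_right] at h
  have h3 : orderOf x ∣ 2 := orderOf_dvd_of_pow_eq_one (by rw [sq]; exact eq_inv_iff_mul_eq_one.1 h)
  rcases (Nat.dvd_prime Nat.prime_two).1 h3 with h4 | h4
  · exact orderOf_eq_one_iff.1 h4
  · rw [h4] at hx; exact absurd hx (by decide)

/-- An involution normalising a subgroup of odd order fixes one of its Sylow subgroups. -/
theorem exists_invariant_sylow [Finite G] {X : Subgroup G} (hodd : Odd (Nat.card X)) {i : G}
    (hi : i * i = 1) (hiX : ∀ x ∈ X, i * x * i ∈ X) (l : ℕ) [Fact l.Prime] :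
    ∃ P : Sylow l X, ∀ x ∈ (P : Subgroup X).map X.subtype,
      i * x * i⁻¹ ∈ (P : Subgroup X).map X.subtype := by
  classical
  have hii : i⁻¹ = i := inv_eq_of_mul_eq_one_right hi
  have hX2 : ∀ x : X, i * (i * (x : G) * i) * i = x := fun x => by
    calc i * (i * (x : G) * i) * i = (i * i) * x * (i * i) := by group
      _ = x := by rw [hi]; group
  let σ : MulAut X :=
    { toFun := fun x => ⟨i * x * i, hiX x x.2⟩
      invFun := fun x => ⟨i * x * i, hiX x x.2⟩
      left_inv := fun x => Subtype.ext (hX2 x)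
      right_inv := fun x => Subtype.ext (hX2 x)
      map_mul' := fun x y => Subtype.ext (by
        show i * ((x : G) * y) * i = i * x * i * (i * y * i)
        calc i * ((x : G) * y) * i = i * x * (i * i) * y * i := by rw [hi]; group
          _ = _ := by group) }
  have hσ : σ * σ = 1 := MulEquiv.ext fun x => Subtype.ext (hX2 x)
  haveI : Fintype (Sylow l X) := Fintype.ofFinite _
  obtain ⟨P₀⟩ := (inferInstance : Nonempty (Sylow l X))
  have hodd' : ¬ 2 ∣ Fintype.card (Sylow l X) := by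
    rw [← Nat.card_eq_fintype_card]
    intro h2
    exact (Nat.not_even_iff_odd.2 hodd) (even_iff_two_dvd.2 (h2.trans
      ((Sylow.card_dvd_index P₀).trans (Subgroup.index_dvd_card _))))
  haveI : Fact (Nat.Prime 2) := ⟨Nat.prime_two⟩
  obtain ⟨P, hP⟩ := Equiv.Perm.exists_fixed_point_of_prime hodd' (n := 1)
    (σ := MulAction.toPerm σ) (Equiv.ext fun P => by
      show σ • σ • P = P
      rw [← mul_smul, hσ, one_smul])
  refine ⟨P, ?_⟩
  rintro _ ⟨x, hx, rfl⟩
  refine ⟨σ • x, ?_, by rw [hii]; rfl⟩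
  have h := congrArg (fun R : Sylow l X => (R : Subgroup X)) (show σ • P = P from hP)
  rw [← h]
  exact Subgroup.smul_mem_pointwise_smul x σ _ hx

variable {Ω : Type*} [MulAction G Ω] [Finite G] {a : Ω} {t : G} {Q T R : Subgroup G} {i : G}
variable (hS : Cfsg.IsRankOneSetup G Ω a t Q)
  (h2 : ∃ x y : G, x ≠ 1 ∧ y ≠ 1 ∧ x ≠ y ∧ x * x = 1 ∧ y * y = 1 ∧ x * y = y * x)
  (h : TorusSys a t Q T R i)
include hS h2 h

theorem TorusSys.card_D : Nat.card (twoStab a t) = (qSize a t - 1) * Nat.card (wSub a t) := by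
  rw [card_decomp hS.mul_self (twoStab a t) hS.odd_card (fun x hx => conj_twoStab hS hx), h.v_eq,
    mul_comm]
  congr 1

theorem TorusSys.card_G : Nat.card G =
    qSize a t ^ 3 * ((qSize a t - 1) * Nat.card (wSub a t)) * (qSize a t ^ 3 + 1) := by
  rw [card_group hS, h.card_D hS h2, h.cube.card_eq]

theorem TorusSys.q_succ_odd : Odd (qSize a t + 1) := by
  obtain ⟨n, hn, e⟩ := qSize_pow hS h2
  rw [e]
  exact ((Nat.even_pow).2 ⟨even_two, by omega⟩).add_one

theorem TorusSys.odd_order_t {τ : G} (hτ : τ ∈ T) : Odd (orderOf τ) :=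
  (h.card_t ▸ h.q_succ_odd hS h2).of_dvd_nat (Subgroup.orderOf_dvd_natCard T hτ)

theorem TorusSys.i_conj {τ : G} (hτ : τ ∈ T) : i * τ * i = τ⁻¹ := h.i_inv τ hτ

/-- The centraliser of a nontrivial torus element has odd order. -/
theorem TorusSys.odd_centralizer [FaithfulSMul G Ω] {c : G} (hc : c ∈ T) (hc1 : c ≠ 1) :
    Odd (Nat.card (Subgroup.centralizer ({c} : Set G))) := by
  have hi := h.i_invol
  have hcc : c * c ≠ 1 := fun e => hc1 (by
    rcases (Nat.dvd_prime Nat.prime_two).1 (orderOf_dvd_of_pow_eq_one (x := c) (n := 2)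
      (by rw [sq]; exact e)) with h4 | h4
    · exact orderOf_eq_one_iff.1 h4
    · have := h.odd_order_t hS h2 hc
      rw [h4] at this
      exact absurd this (by decide))
  have he : i * (i * c) = c := by rw [← mul_assoc, hi.2, one_mul]
  have hv1 : i * c ≠ 1 := fun e => by
    have : c = i := by rw [← he, e, mul_one]
    exact hcc (by rw [this, hi.2])
  have hv2 : i * c * (i * c) = 1 := by
    rw [← mul_assoc, h.i_conj hS h2 hc, inv_mul_cancel]
  have := (product_invol hS h2 (u := i) (v := i * c) hi ⟨hv1, hv2⟩ (by rw [he]; exact hcc)).2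
  rwa [he] at this

/-- The character argument at a torus element. -/
theorem TorusSys.char_false [FaithfulSMul G Ω] {c : G} (hc : c ∈ T) (hc1 : c ≠ 1) {O : Subgroup G}
    (hOX : O < Subgroup.centralizer ({c} : Set G))
    (hOn : ∀ x ∈ Subgroup.centralizer ({c} : Set G), ∀ y ∈ O, x * y * x⁻¹ ∈ O)
    (hfix : ∀ x ∈ Subgroup.centralizer ({c} : Set G), i * x * i = x → x ∈ O)
    (hgen : ∀ x ∈ Subgroup.centralizer ({c} : Set G), x ∉ O → c ∈ Subgroup.zpowers x) : False := by
  haveI := finite_points hS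
  haveI := pretransitive hS
  have hn : Nat.card Ω = qSize a t ^ 3 + 1 := by rw [card_points hS, h.cube.card_eq]
  have h4 := four_le_qSize hS h2
  obtain ⟨n, hn2, hq⟩ := qSize_pow hS h2
  have h64 : 64 ≤ qSize a t ^ 3 := le_trans (by norm_num) (Nat.pow_le_pow_left h4 3)
  have hd := card_points_sub_two_dvd hS.two_transitive (by omega) rfl (h.odd_centralizer hS h2 hc hc1)
    h.i_invol.2 (h.i_conj hS h2 hc) (h.free c hc hc1) (fun g hg => h.fusion c hc hc1 g
      ((Subgroup.zpowers_le.2 hc) hg)) hOX hOn hfix hgen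
  rw [hn, h.card_G hS h2] at hd
  obtain ⟨p, hp⟩ := Nat.exists_eq_add_of_le (show 1 ≤ qSize a t by omega)
  set q := qSize a t with hqdef
  set m := Nat.card (wSub a t)
  set U := q * q + q + 1 with hU
  have e1 : q ^ 3 + 1 - 2 = (q - 1) * U := by
    rw [hU, hp, show 1 + p - 1 = p by omega]
    have : (1 + p) ^ 3 = 1 + p * ((1 + p) * (1 + p) + (1 + p) + 1) := by ring
    omega
  rw [e1, show q ^ 3 * ((q - 1) * m) * (q ^ 3 + 1) = (q - 1) * (q ^ 3 * (q ^ 3 + 1) * m) by ring] at hd
  have hd' : U ∣ q ^ 3 * (q ^ 3 + 1) * m := Nat.dvd_of_mul_dvd_mul_left (by omega) hd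
  have hc1' : Nat.Coprime U (q ^ 3) := by
    refine Nat.Coprime.pow_right 3 ?_
    rw [Nat.coprime_iff_gcd_eq_one, hU, show q * q + q + 1 = 1 + q * (q + 1) by ring, Nat.gcd_comm,
      Nat.gcd_add_mul_left_right, Nat.gcd_one_right]
  have hUodd : Odd U := by
    rw [hU, show q * q + q + 1 = q * (q + 1) + 1 by ring]
    exact (Nat.even_mul_succ_self q).add_one
  have hc2' : Nat.Coprime U (q ^ 3 + 1) := by
    refine Nat.coprime_of_dvd fun r hr hr1 hr2 => ?_
    have h3 : r ∣ (q - 1) * U := hr1.trans (dvd_mul_left _ _)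
    rw [← e1] at h3
    have h5 : r ∣ 2 := by
      have := Nat.dvd_sub hr2 h3
      rwa [show q ^ 3 + 1 - (q ^ 3 + 1 - 2) = 2 by omega] at this
    rw [(Nat.prime_dvd_prime_iff_eq hr Nat.prime_two).1 h5] at hr1
    exact Nat.not_even_iff_odd.2 hUodd (even_iff_two_dvd.2 hr1)
  have hm : U ∣ m := (Nat.Coprime.mul_right hc1' hc2').dvd_of_dvd_mul_left hd'
  have h1 := Nat.le_of_dvd Nat.card_pos hm
  have h2' := Nat.le_of_dvd (by omega) h.w_dvd
  nlinarith

/-- A common divisor of the order of a fixed element and an odd number. -/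
theorem TorusSys.fixed_dvd {X : Subgroup G} (hodd : Odd (Nat.card X)) {x : G} (hx : x ∈ X)
    (hix : i * x * i = x) : orderOf x ∣ Nat.card (wSub a t) := by
  have hxi : x ∈ Subgroup.centralizer ({i} : Set G) := Subgroup.mem_centralizer_singleton_iff.2 (by
    calc x * i = i * x * i * i := by rw [hix]
      _ = i * x := by rw [mul_assoc, h.i_invol.2, mul_one])
  have h1 := Subgroup.orderOf_dvd_natCard _ hxi
  rw [h.card_cent_i] at h1
  obtain ⟨n, -, hq⟩ := qSize_pow hS h2
  rw [hq, ← pow_mul] at h1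
  exact ((Nat.coprime_two_right.2 (hodd.of_dvd_nat (Subgroup.orderOf_dvd_natCard X hx))).pow_right
    (n * 3)).dvd_of_dvd_mul_left h1

theorem TorusSys.i_mem_centralizer {c x : G} (hc : c ∈ T)
    (hx : x ∈ Subgroup.centralizer ({c} : Set G)) :
    i * x * i ∈ Subgroup.centralizer ({c} : Set G) := by
  rw [Subgroup.mem_centralizer_singleton_iff] at hx ⊢
  have hi := h.i_invol.2
  have hc' : c = i * c⁻¹ * i := by
    rw [← h.i_conj hS h2 hc]
    calc c = (i * i) * c * (i * i) := by rw [hi]; group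
      _ = i * (i * c * i) * i := by group
  have h1 : x * c⁻¹ = c⁻¹ * x := (Commute.inv_right hx).eq
  conv_lhs => rw [hc']
  conv_rhs => rw [hc']
  calc i * x * i * (i * c⁻¹ * i) = i * x * (i * i) * c⁻¹ * i := by group
    _ = i * (x * c⁻¹) * i := by rw [hi]; group
    _ = i * (c⁻¹ * x) * i := by rw [h1]
    _ = i * c⁻¹ * (i * i) * x * i := by rw [hi]; group
    _ = i * c⁻¹ * i * (i * x * i) := by group

/-- No prime different from three divides the order of the intersection with the mate. -/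
theorem TorusSys.prime_not_dvd [FaithfulSMul G Ω] {r : ℕ} (hr : r.Prime) (hr3 : r ≠ 3) :
    ¬ r ∣ Nat.card R := by
  classical
  intro hrR
  haveI := Fact.mk hr
  have hrT : r ∣ qSize a t + 1 := h.card_t ▸ hrR.trans (Subgroup.card_dvd_of_le h.r_le)
  have hr2 : r ≠ 2 := fun e => Nat.not_even_iff_odd.2 (h.q_succ_odd hS h2)
    (even_iff_two_dvd.2 (e ▸ hrT))
  obtain ⟨⟨c, hcR⟩, hoc⟩ := exists_prime_orderOf_dvd_card' r hrR
  rw [Subgroup.orderOf_mk] at hoc
  have hcT := h.r_le hcR
  have hc1 : c ≠ 1 := fun e => hr.ne_one (by rw [← hoc, e, orderOf_one])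
  have hrm : ¬ r ∣ Nat.card (wSub a t) := fun hd => by
    have h3 := h.r_small c hcR (orderOf_dvd_iff_pow_eq_one.1 (hoc ▸ hd))
    have h4 := orderOf_dvd_of_pow_eq_one h3
    rw [hoc] at h4
    exact hr3 ((Nat.prime_dvd_prime_iff_eq hr Nat.prime_three).1 h4)
  -- a Sylow subgroup of the torus is one of the group
  obtain ⟨k, hk⟩ : ∃ k, qSize a t = k + 2 := ⟨qSize a t - 2, by have := four_le_qSize hS h2; omega⟩
  set S := k * (k + 3) + 3 with hSdef
  have hcube : qSize a t ^ 3 + 1 = (qSize a t + 1) * S := by rw [hk, hSdef]; ring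
  have hrS : ¬ r ∣ S := fun hd => by
    have h1 : r ∣ k * (k + 3) := dvd_mul_of_dvd_right (by rw [hk] at hrT; exact hrT) k
    have h3 : r ∣ 3 := (Nat.dvd_add_right h1).1 hd
    exact hr3 ((Nat.prime_dvd_prime_iff_eq hr Nat.prime_three).1 h3)
  have hrq : ¬ r ∣ qSize a t := fun hd =>
    hr.not_dvd_one ((Nat.dvd_add_right hd).1 hrT)
  have hrq1 : ¬ r ∣ qSize a t - 1 := fun hd => hr2 ((Nat.prime_dvd_prime_iff_eq hr Nat.prime_two).1 (by
    have := Nat.dvd_sub hrT hd
    rwa [show qSize a t + 1 - (qSize a t - 1) = 2 by have := four_le_qSize hS h2; omega] at this))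
  have hfac : (Nat.card G).factorization r = (qSize a t + 1).factorization r := by
    have hrest : ¬ r ∣ qSize a t ^ 3 * ((qSize a t - 1) * Nat.card (wSub a t)) * S := by
      rw [hr.dvd_mul, hr.dvd_mul, hr.dvd_mul]
      exact fun h' => by
        rcases h' with (h' | h' | h') | h'
        exacts [hrq (hr.dvd_of_dvd_pow h'), hrq1 h', hrm h', hrS h']
    have e : Nat.card G =
        (qSize a t + 1) * (qSize a t ^ 3 * ((qSize a t - 1) * Nat.card (wSub a t)) * S) := by
      rw [h.card_G hS h2, hcube]; ring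
    rw [e, Nat.factorization_mul (Nat.succ_ne_zero _) (fun e0 => hrest (by rw [e0]; exact dvd_zero r)), Finsupp.add_apply,
      Nat.factorization_eq_zero_of_not_dvd hrest, add_zero]
  obtain ⟨PT⟩ := (inferInstance : Nonempty (Sylow r T))
  set P0 := (PT : Subgroup T).map T.subtype with hP0
  have hP0T : P0 ≤ T := Subgroup.map_subtype_le _
  have hP0card : Nat.card P0 = r ^ (Nat.card G).factorization r := by
    rw [hP0, Subgroup.card_map_of_injective T.subtype_injective, PT.card_eq_multiplicity, h.card_t, hfac]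
  haveI hTc : IsCyclic T := h.t_cyclic
  have hTcomm : ∀ x ∈ T, ∀ y ∈ T, x * y = y * x := fun x hx y hy =>
    congrArg Subtype.val (IsMulCommutative.is_comm.comm (⟨x, hx⟩ : T) ⟨y, hy⟩)
  set X := Subgroup.centralizer ({c} : Set G) with hXdef
  have hP0X : P0 ≤ X := fun x hx =>
    Subgroup.mem_centralizer_singleton_iff.2 (hTcomm x (hP0T hx) c hcT)
  let P : Sylow r X := (Sylow.ofCard P0 hP0card).subtype hP0X
  have memP : ∀ x : X, x ∈ (P : Subgroup X) ↔ (x : G) ∈ P0 := fun x => Iff.rfl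
  have hodd := h.odd_centralizer hS h2 hcT hc1
  have hN : Subgroup.normalizer ((P : Subgroup X) : Set X) ≤
      Subgroup.centralizer ((P : Subgroup X) : Set X) := by
    intro g hg
    refine Subgroup.mem_centralizer_iff.2 fun p hp => Subtype.ext ?_
    show (p : G) * g = g * p
    by_cases hp1 : (p : G) = 1
    · simp [hp1]
    have hpT : (p : G) ∈ T := hP0T ((memP p).1 hp)
    have hgp : (g : G) * p * (g : G)⁻¹ ∈ T :=
      hP0T ((memP (g * p * g⁻¹)).1 ((Subgroup.mem_normalizer_iff.1 hg p).1 hp))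
    rcases h.fusion p hpT hp1 g hgp with e | e
    · exact (mul_inv_eq_iff_eq_mul.1 e).symm
    · refine absurd (eq_one_of_inverted ?_ (h.odd_order_t hS h2 hpT) e) hp1
      exact hodd.of_dvd_nat (Subgroup.orderOf_dvd_natCard X g.2)
  set π := MonoidHom.transferSylow P hN with hπ
  set O := π.ker.map X.subtype with hO
  have memO : ∀ x : X, (x : G) ∈ O ↔ π x = 1 := fun x => by
    rw [hO, Subgroup.mem_map]
    refine ⟨?_, fun hx => ⟨x, hx, rfl⟩⟩
    rintro ⟨y, hy, hyx⟩
    rw [← Subtype.ext (hyx : (y : G) = x)]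
    exact hy
  have hπord : ∀ x : X, ¬ r ∣ orderOf x → π x = 1 := by
    intro x hx
    obtain ⟨j, hj⟩ := P.2.exists_card_eq
    have h1 : orderOf (π x) ∣ orderOf x := orderOf_map_dvd π x
    have h3 : orderOf (π x) ∣ r ^ j := hj ▸ orderOf_dvd_natCard (π x)
    exact orderOf_eq_one_iff.1 (Nat.eq_one_of_dvd_coprimes
      (((hr.coprime_iff_not_dvd.2 hx).pow_left j).symm) h1 h3)
  refine h.char_false hS h2 hcT hc1 (O := O) ?_ ?_ ?_ ?_
  · have hcX : c ∈ X := Subgroup.mem_centralizer_singleton_iff.2 rfl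
    have hcP : (⟨c, hcX⟩ : X) ∈ (P : Subgroup X) := (memP _).2 (by
      obtain ⟨⟨g, hg⟩, hgo⟩ := exists_prime_orderOf_dvd_card' (G := P0) r (by
        rw [hP0card, hfac]
        exact dvd_pow_self r (Nat.pos_iff_ne_zero.1 (hr.factorization_pos_of_dvd (by omega) hrT)))
      rw [Subgroup.orderOf_mk] at hgo
      exact (Subgroup.zpowers_le.2 hg) (mem_zpowers_of_cyclic hTc hcT (hP0T hg) (by rw [hoc, hgo])))
    refine lt_of_le_of_ne (Subgroup.map_subtype_le _) fun e => hc1 ?_
    have hk' : π ⟨c, hcX⟩ = 1 := (memO _).1 (e.symm ▸ hcX)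
    have hd := MonoidHom.ker_transferSylow_disjoint P hN (P : Subgroup X) P.2
    exact congrArg Subtype.val (Subgroup.mem_bot.1 (hd.le_bot ⟨hk', hcP⟩))
  · intro x hx y hy
    have hyX : y ∈ X := Subgroup.map_subtype_le _ hy
    have := (memO ⟨y, hyX⟩).1 hy
    exact (memO (⟨x, hx⟩ * ⟨y, hyX⟩ * (⟨x, hx⟩ : X)⁻¹)).2 (by
      rw [map_mul, map_mul, this, mul_one, map_inv, mul_inv_cancel])
  · intro x hx hix
    refine (memO ⟨x, hx⟩).2 (hπord _ fun hd => hrm ?_)
    rw [Subgroup.orderOf_mk] at hd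
    exact hd.trans (h.fixed_dvd hS h2 hodd hx hix)
  · intro x hx hxO
    by_cases hd : r ∣ orderOf x
    · set y := x ^ (orderOf x / r) with hy
      have hyo : orderOf y = r := orderOf_pow_orderOf_div (orderOf_pos x).ne' hd
      have hyX : y ∈ X := pow_mem hx _
      have hpg : IsPGroup r (Subgroup.zpowers (⟨y, hyX⟩ : X)) :=
        IsPGroup.of_card (n := 1) (by rw [Nat.card_zpowers, Subgroup.orderOf_mk, hyo, pow_one])
      obtain ⟨P', hP'⟩ := hpg.exists_le_sylow
      obtain ⟨g, hg⟩ := MulAction.exists_smul_eq X P' P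
      have hy' : g * ⟨y, hyX⟩ * g⁻¹ ∈ (P : Subgroup X) := by
        rw [← hg, Sylow.coe_subgroup_smul]
        exact Subgroup.smul_mem_pointwise_smul _ (MulAut.conj g) _ (hP' (Subgroup.mem_zpowers _))
      have hyT : (g : G) * y * (g : G)⁻¹ ∈ T := hP0T ((memP _).1 hy')
      obtain ⟨j, hj⟩ := mem_zpowers_of_cyclic hTc hyT hcT (by
        rw [hoc, ← hyo]
        exact (MulEquiv.orderOf_eq (MulAut.conj (g : G)) y).dvd)
      have hgc : Commute (g : G) c := Subgroup.mem_centralizer_singleton_iff.1 g.2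
      have hyc : y = c ^ j := by
        calc y = (g : G)⁻¹ * ((g : G) * y * (g : G)⁻¹) * g := by group
          _ = (g : G)⁻¹ * c ^ j * g := by rw [show c ^ j = (g : G) * y * (g : G)⁻¹ from hj]
          _ = c ^ j := by rw [mul_assoc, ← (hgc.zpow_right j).eq, inv_mul_cancel_left]
      have hyT' : y ∈ T := hyc ▸ zpow_mem hcT j
      exact (Subgroup.zpowers_le.2 (pow_mem (Subgroup.mem_zpowers x) _))
        (mem_zpowers_of_cyclic hTc hcT hyT' (by rw [hoc, hyo]))
    · exact absurd ((memO ⟨x, hx⟩).2 (hπord _ (by rwa [Subgroup.orderOf_mk]))) hxO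

end Cfsg.Agent.RankOne
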