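import Cfsg.Agent.Lib.RankOneW.Defs

/-!
# A torus of the unitary case and its mate

`T` is a torus of order `q + 1` of the group generated by the involutions of `G_a` and `t`, `i` an
involution of that group inverting it, and `R` its intersection with the corresponding torus of a
conjugate group.
-/

set_option autoImplicit false

namespace Cfsg.Agent.RankOne

open MulAction
open scoped Pointwise

variable {G Ω : Type*} [Group G] [MulAction G Ω]

/-- The facts about a torus, an inverting involution and the mate intersection `R` which bound `|R|`. -/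
structure TorusSys (a : Ω) (t : G) (Q T R : Subgroup G) (i : G) : Prop where
  cube : IsCube a t Q
  v_eq : twoStab a t ⊓ Subgroup.centralizer {t} = wSub a t
  w_cyclic : IsCyclic (wSub a t : Subgroup G)
  w_dvd : Nat.card (wSub a t) ∣ qSize a t + 1
  t_cyclic : IsCyclic T
  card_t : Nat.card T = qSize a t + 1
  i_invol : i ≠ 1 ∧ i * i = 1
  i_inv : ∀ τ ∈ T, i * τ * i = τ⁻¹
  i_comm : ∀ w ∈ wSub a t, i * w = w * i
  card_cent_i : Nat.card (Subgroup.centralizer ({i} : Set G)) = qSize a t ^ 3 * Nat.card (wSub a t)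
  t_comm_w : ∀ τ ∈ T, ∀ w ∈ wSub a t, τ * w = w * τ
  disjoint : T ⊓ wSub a t = ⊥
  free : ∀ τ ∈ T, τ ≠ 1 → ∀ c : Ω, τ • c ≠ c
  fusion : ∀ τ ∈ T, τ ≠ 1 → ∀ g : G, g * τ * g⁻¹ ∈ T → g * τ * g⁻¹ = τ ∨ g * τ * g⁻¹ = τ⁻¹
  r_le : R ≤ T
  r_index : qSize a t + 1 ≤ Nat.card R * Nat.card (wSub a t)
  r_small : ∀ c ∈ R, c ^ Nat.card (wSub a t) = 1 → c ^ 3 = 1
  r_perm : ∀ g : G, (∀ x ∈ T ⊔ wSub a t, g * x * g⁻¹ ∈ T ⊔ wSub a t) → ∀ c ∈ R, g * c * g⁻¹ ∈ R
  real_order : ∀ x j : G, Odd (orderOf x) → j * j = 1 → j * x * j = x⁻¹ →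
    orderOf x ∣ qSize a t - 1 ∨ orderOf x ∣ qSize a t + 1

end Cfsg.Agent.RankOne
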