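import Cfsg.Agent.Lib.RankOneW.TorusGroup

/-!
# The centraliser of an element of order three of the torus

Its order divides three times `(q + 1) |W|`.
-/

set_option autoImplicit false
set_option linter.unusedSectionVars false

namespace Cfsg.Agent.RankOne

open MulAction

variable {G : Type*} [Group G]

theorem cube_add_one (j : ℕ) :
    (3 * j + 2) ^ 3 + 1 = (3 * j + 2 + 1) * (3 * (3 * (j * (j + 1)) + 1)) := by ring

variable {Ω : Type*} [MulAction G Ω] [Finite G] [FaithfulSMul G Ω] {a : Ω} {t : G}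
  {Q T R : Subgroup G} {i : G}
variable (hS : Cfsg.IsRankOneSetup G Ω a t Q)
  (h2 : ∃ x y : G, x ≠ 1 ∧ y ≠ 1 ∧ x ≠ y ∧ x * x = 1 ∧ y * y = 1 ∧ x * y = y * x)
  (h : TorusSys a t Q T R i)
include hS h2 h

theorem TorusSys.card_invK : Nat.card (invK a t : Subgroup G) = qSize a t - 1 := by
  rw [qSize, Nat.add_sub_cancel]
  exact Nat.card_congr (Equiv.setCongr (Set.ext fun x => mem_invK hS h2))

/-- An inverted element has no fixed points besides `a` and `t a`. -/
theorem TorusSys.fix_inverted {k : G} (hk : k ∈ invK a t) (hk1 : k ≠ 1) {p : Ω} (hp : k • p = p) :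
    p = a ∨ p = t • a := by
  by_cases hpa : p = a
  · exact Or.inl hpa
  have hki := (mem_invK hS h2).1 hk
  obtain ⟨q, hq, rfl⟩ := exists_centralizing_q hS (X := ({k} : Set G))
    (Set.singleton_subset_iff.2 hki.1) hpa (fun x hx => by rw [Set.mem_singleton_iff.1 hx]; exact hp)
  rw [inf_comm, inverted_fpf hS hki hk1, Subgroup.mem_bot] at hq
  exact Or.inr (by rw [hq, one_smul])

theorem TorusSys.centralizer_dvd {c : G} (hc : c ∈ T) (hc3 : orderOf c = 3) :
    Nat.card (Subgroup.centralizer ({c} : Set G)) ∣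
      3 * ((qSize a t + 1) * Nat.card (wSub a t)) := by
  classical
  have hc1 : c ≠ 1 := fun e => by rw [e, orderOf_one] at hc3; omega
  have hodd := h.odd_centralizer hS h2 hc hc1
  set X := Subgroup.centralizer ({c} : Set G) with hXdef
  have h3 : 3 ∣ qSize a t + 1 := h.card_t ▸ hc3 ▸ Subgroup.orderOf_dvd_natCard T hc
  obtain ⟨j, hj⟩ : ∃ j, qSize a t = 3 * j + 2 := by
    obtain ⟨e, he⟩ := h3
    exact ⟨e - 1, by omega⟩
  set u := 3 * (j * (j + 1)) + 1 with hu
  have hcube : qSize a t ^ 3 + 1 = (qSize a t + 1) * (3 * u) := by rw [hj, hu]; exact cube_add_one j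
  have hu3 : ¬ 3 ∣ u := by rw [hu]; omega
  have huq : 3 * u = (3 * j + 1) * (3 * j + 2) + 1 := by rw [hu]; ring
  have hq : qSize a t - 1 = 3 * j + 1 := by omega
  obtain ⟨n, -, hqn⟩ := qSize_pow hS h2
  have hprime : ∀ l : ℕ, l.Prime → l ∣ Nat.card X → l ≠ 2 ∧ ¬ l ∣ qSize a t := by
    intro l hl hlX
    have h2' : l ≠ 2 := fun e => Nat.not_even_iff_odd.2 hodd (even_iff_two_dvd.2 (e ▸ hlX))
    refine ⟨h2', fun hd => h2' ?_⟩
    rw [hqn] at hd
    exact (Nat.prime_dvd_prime_iff_eq hl Nat.prime_two).1 (hl.dvd_of_dvd_pow hd)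
  have hW : ∀ l : ℕ, l ∣ Nat.card (wSub a t) → l ∣ 3 * (j + 1) := fun l hl => by
    have := hl.trans h.w_dvd
    rwa [hj, show 3 * j + 2 + 1 = 3 * (j + 1) by ring] at this
  -- the part coprime to `q + 1`
  have hcu : Nat.Coprime (Nat.card X) u := by
    refine Nat.coprime_of_dvd fun l hl hlX hlu => ?_
    haveI := Fact.mk hl
    obtain ⟨-, hlq⟩ := hprime l hl hlX
    have hl3 : l ≠ 3 := fun e => hu3 (e ▸ hlu)
    have hlq1 : ¬ l ∣ 3 * j + 1 := fun hd => hl.not_dvd_one
      ((Nat.dvd_add_right (dvd_mul_of_dvd_left hd _)).1 (huq ▸ dvd_mul_of_dvd_right hlu 3))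
    have hlj : ¬ l ∣ 3 * (j + 1) := fun hd => hl.not_dvd_one (by
      rcases hl.dvd_mul.1 hd with hd | hd
      · exact absurd ((Nat.prime_dvd_prime_iff_eq hl Nat.prime_three).1 hd) hl3
      · exact (Nat.dvd_add_right (dvd_mul_of_dvd_right (dvd_mul_of_dvd_right hd j) 3)).1 (hu ▸ hlu))
    obtain ⟨P, hP⟩ := exists_invariant_sylow hodd h.i_invol.2
      (fun x hx => h.i_mem_centralizer hS h2 hc hx) l
    set P' := (P : Subgroup X).map X.subtype with hP'
    have hP'X : P' ≤ X := Subgroup.map_subtype_le _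
    have hP'p : IsPGroup l P' := P.2.map _
    have hP'odd : Odd (Nat.card P') := hodd.of_dvd_nat (Subgroup.card_dvd_of_le hP'X)
    obtain ⟨y, hy, hy1⟩ : ∃ y ∈ P', y ≠ 1 := by
      by_contra hcon
      push Not at hcon
      have hbot : P' = ⊥ := (Subgroup.eq_bot_iff_forall _).2 hcon
      have h0 : Nat.card P' = l ^ (Nat.card X).factorization l := by
        rw [hP', Subgroup.card_map_of_injective X.subtype_injective, P.card_eq_multiplicity]
      rw [hbot, Subgroup.card_bot] at h0
      have := hl.factorization_pos_of_dvd Nat.card_pos.ne' hlX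
      exact absurd h0.symm (Nat.one_lt_pow this.ne' hl.one_lt).ne'
    have hii : i⁻¹ = i := inv_eq_of_mul_eq_one_right h.i_invol.2
    obtain ⟨f, z, hf, hfi, hz, rfl⟩ := exists_decomp h.i_invol.2 hP'odd hP hy
    rw [hii] at hfi
    have hf1 : f = 1 := by
      obtain ⟨k, hk⟩ := IsPGroup.iff_card.1 hP'p
      have h1 : orderOf f ∣ l ^ k := hk ▸ Subgroup.orderOf_dvd_natCard P' hf
      have h4 := h.fixed_dvd hS h2 hodd (hP'X hf) hfi
      refine orderOf_eq_one_iff.1 (Nat.eq_one_of_dvd_coprimes (Nat.Coprime.pow_left k ?_) h1 h4)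
      exact hl.coprime_iff_not_dvd.2 fun hd => hlj (hW l hd)
    rw [hf1, one_mul] at hy1
    obtain ⟨k, hk⟩ := IsPGroup.iff_card.1 hP'p
    obtain ⟨e, -, he⟩ := (Nat.dvd_prime_pow hl).1 (hk ▸ Subgroup.orderOf_dvd_natCard P' hz.1)
    have hle : l ∣ orderOf z := by
      rw [he]
      refine dvd_pow_self l fun e0 => hy1 ?_
      rw [e0, pow_zero] at he
      exact orderOf_eq_one_iff.1 he
    have hzi : i * z * i = z⁻¹ := by have := hz.2; rwa [hii] at this
    rcases h.real_order z i (hP'odd.of_dvd_nat (Subgroup.orderOf_dvd_natCard P' hz.1)) h.i_invol.2 hzi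
      with hd | hd
    · exact hlq1 (hq ▸ hle.trans hd)
    · refine hlj ?_
      rw [show 3 * (j + 1) = qSize a t + 1 by omega]
      exact hle.trans hd
  -- no element of the centraliser has order dividing `q - 1`
  have hcq : Nat.Coprime (Nat.card X) (qSize a t - 1) := by
    refine Nat.coprime_of_dvd fun l hl hlX hld => ?_
    haveI := Fact.mk hl
    obtain ⟨hl2, hlq⟩ := hprime l hl hlX
    rw [hq] at hld
    have hlsucc : ¬ l ∣ 3 * (j + 1) := fun hd => hl2 ((Nat.prime_dvd_prime_iff_eq hl Nat.prime_two).1 (by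
      have := Nat.dvd_sub hd hld
      rwa [show 3 * (j + 1) - (3 * j + 1) = 2 by omega] at this))
    have hlu : ¬ l ∣ 3 * u := fun hd =>
      hl.not_dvd_one ((Nat.dvd_add_right (dvd_mul_of_dvd_left hld _)).1 (huq ▸ hd))
    have hfac : (Nat.card G).factorization l = (qSize a t - 1).factorization l := by
      have hrest : ¬ l ∣ qSize a t ^ 3 * Nat.card (wSub a t) * (3 * (j + 1) * (3 * u)) := by
        intro hd
        rcases hl.dvd_mul.1 hd with hd | hd
        · rcases hl.dvd_mul.1 hd with hd | hd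
          exacts [hlq (hl.dvd_of_dvd_pow hd), hlsucc (hW l hd)]
        · rcases hl.dvd_mul.1 hd with hd | hd
          exacts [hlsucc hd, hlu hd]
      have e : Nat.card G =
          (qSize a t - 1) * (qSize a t ^ 3 * Nat.card (wSub a t) * (3 * (j + 1) * (3 * u))) := by
        rw [h.card_G hS h2, hcube, show 3 * (j + 1) = qSize a t + 1 by omega]
        ring
      rw [e, Nat.factorization_mul (by omega) (fun e0 => hrest (by rw [e0]; exact dvd_zero l)),
        Finsupp.add_apply, Nat.factorization_eq_zero_of_not_dvd hrest, add_zero]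
    obtain ⟨PK⟩ := (inferInstance : Nonempty (Sylow l (invK a t : Subgroup G)))
    set P0 := (PK : Subgroup (invK a t : Subgroup G)).map (invK a t).subtype with hP0
    have hP0card : Nat.card P0 = l ^ (Nat.card G).factorization l := by
      rw [hP0, Subgroup.card_map_of_injective (invK a t).subtype_injective, PK.card_eq_multiplicity,
        h.card_invK hS h2, hfac]
    obtain ⟨⟨x, hx⟩, hxo⟩ := exists_prime_orderOf_dvd_card' (G := X) l hlX
    rw [Subgroup.orderOf_mk] at hxo
    have hpg : IsPGroup l (Subgroup.zpowers x) :=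
      IsPGroup.of_card (n := 1) (by rw [Nat.card_zpowers, hxo, pow_one])
    obtain ⟨P', hP'⟩ := hpg.exists_le_sylow
    obtain ⟨g, hg⟩ := MulAction.exists_smul_eq G P' (Sylow.ofCard P0 hP0card)
    have hk : g * x * g⁻¹ ∈ invK a t := by
      refine Subgroup.map_subtype_le (PK : Subgroup (invK a t : Subgroup G)) ?_
      have hmem : g * x * g⁻¹ ∈ ((g • P' : Sylow l G) : Subgroup G) := by
        rw [Sylow.coe_subgroup_smul]
        exact Subgroup.smul_mem_pointwise_smul _ (MulAut.conj g) _ (hP' (Subgroup.mem_zpowers x))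
      rw [hg] at hmem
      exact hmem
    have hk1 : g * x * g⁻¹ ≠ 1 := by
      rw [Ne, conj_eq_one_iff]
      intro e
      rw [e, orderOf_one] at hxo
      exact hl.ne_one hxo.symm
    set k := g * x * g⁻¹
    set c' := g * c * g⁻¹
    have hck : Commute k c' := (show Commute x c from Subgroup.mem_centralizer_singleton_iff.1 hx).map
      (MulAut.conj g)
    have hfree : ∀ p : Ω, c' • p ≠ p := fun p hp => h.free c hc hc1 (g⁻¹ • p) (by
      have hp' : (g * c * g⁻¹) • p = p := hp
      rw [mul_smul, mul_smul] at hp'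
      exact eq_inv_smul_iff.2 hp')
    have hki := (mem_invK hS h2).1 hk
    obtain ⟨hka, hkb⟩ := mem_twoStab hS hki.1
    have hmove : ∀ p : Ω, k • p = p → k • (c' • p) = c' • p := fun p hp => by
      rw [← mul_smul, hck.eq, mul_smul, hp]
    have hpa : c' • a = t • a :=
      (h.fix_inverted hS h2 hk hk1 (hmove a hka)).resolve_left (hfree a)
    have hpb : c' • (t • a) = a :=
      (h.fix_inverted hS h2 hk hk1 (hmove _ hkb)).resolve_right (hfree _)
    have hpow : c' ^ 3 = 1 := by
      rw [conj_pow, show c ^ 3 = 1 by rw [← hc3]; exact pow_orderOf_eq_one c, mul_one, mul_inv_cancel]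
    have hcyc : c' ^ 3 • a = a := by rw [hpow, one_smul]
    rw [pow_succ, pow_two, mul_smul, mul_smul, hpa, hpb, hpa] at hcyc
    exact ta_ne hS hcyc
  have hcq3 : Nat.Coprime (Nat.card X) (qSize a t ^ 3) := by
    rw [hqn, ← pow_mul]
    exact (Nat.coprime_two_right.2 hodd).pow_right _
  have hd := Subgroup.card_subgroup_dvd_card X
  rw [h.card_G hS h2, hcube, show qSize a t ^ 3 * ((qSize a t - 1) * Nat.card (wSub a t)) *
    ((qSize a t + 1) * (3 * u)) = (qSize a t ^ 3 * ((qSize a t - 1) * u)) *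
      (3 * ((qSize a t + 1) * Nat.card (wSub a t))) by ring] at hd
  exact (hcq3.mul_right (hcq.mul_right hcu)).dvd_of_dvd_mul_left hd

end Cfsg.Agent.RankOne
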